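import Groth.Agent.Lib.Helper2.FlatDescent
import Mathlib.AlgebraicGeometry.Morphisms.Flat
import Mathlib.AlgebraicGeometry.Morphisms.UnderlyingMap
import Mathlib.CategoryTheory.Monoidal.Cartesian.Over
import Mathlib.CategoryTheory.Monoidal.Cartesian.Grp

/-!
# Flatness is local on the source for the fpqc topology (helper41)

* `flat_of_comp_of_flat_surjective` : `g : X' ⟶ X` flat surjective, `g ≫ f` flat ⇒ `f` flat.
* `surjective_hom_of_point`, `flat_snd_left`, `surjective_snd_left` : for `N` an object of
  `Over (Spec k)` with a rational point, `snd N H : N ⊗ H ⟶ H` is flat and surjective.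
-/

set_option autoImplicit false
universe u
open CategoryTheory CategoryTheory.Limits MonoidalCategory CartesianMonoidalCategory AlgebraicGeometry

namespace Groth.Agent.Lib.Helper41.FlatSourceDescent

theorem flat_of_comp_of_flat_surjective {X' X Y : Scheme.{u}} (g : X' ⟶ X) (f : X ⟶ Y)
    [Flat g] [Surjective g] (h : Flat (g ≫ f)) : Flat f := by
  rw [Flat.iff_flat_stalkMap]
  intro y
  obtain ⟨x, rfl⟩ := g.surjective y
  have h1 : ((g ≫ f).stalkMap x).hom.Flat := Flat.stalkMap (g ≫ f) x
  rw [Scheme.Hom.stalkMap_comp] at h1
  have h2 : (g.stalkMap x).hom.Flat := Flat.stalkMap g x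
  have h3 : (g.stalkMap x).hom.FaithfullyFlat := by
    algebraize [(g.stalkMap x).hom]
    have : IsLocalHom (algebraMap (X.presheaf.stalk (g x)) (X'.presheaf.stalk x)) :=
      inferInstanceAs (IsLocalHom (g.stalkMap x).hom)
    exact Module.FaithfullyFlat.of_flat_of_isLocalHom
  exact Groth.Agent.Lib.Helper2.RingHom.Flat.of_comp_faithfullyFlat _ _ h3 h1

section Field

variable {k : Type u} [Field k]

theorem surjective_hom_of_point (N : Over (Spec (CommRingCat.of k)))
    (e : 𝟙_ (Over (Spec (CommRingCat.of k))) ⟶ N) : Surjective N.hom := by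
  constructor
  intro x
  refine ⟨e.left.base x, ?_⟩
  have h1 : e.left ≫ N.hom = 𝟙 _ := Over.w e
  have h2 : (e.left ≫ N.hom).base x = x := by rw [h1]; rfl
  rw [Scheme.Hom.comp_base] at h2
  exact h2

theorem surjective_snd_left (N H : Over (Spec (CommRingCat.of k)))
    (e : 𝟙_ (Over (Spec (CommRingCat.of k))) ⟶ N) : Surjective (snd N H).left := by
  have := surjective_hom_of_point N e
  rw [Over.snd_left]
  infer_instance

theorem flat_snd_left (N H : Over (Spec (CommRingCat.of k))) : Flat (snd N H).left := by
  have : Subsingleton ↥(Spec (CommRingCat.of k)) :=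
    (inferInstance : Subsingleton (PrimeSpectrum k))
  have : Flat N.hom := inferInstance
  rw [Over.snd_left]
  infer_instance

theorem surjective_fst_left (N H : Over (Spec (CommRingCat.of k)))
    (e : 𝟙_ (Over (Spec (CommRingCat.of k))) ⟶ H) : Surjective (fst N H).left := by
  have := surjective_hom_of_point H e
  rw [Over.fst_left]
  infer_instance

theorem flat_fst_left (N H : Over (Spec (CommRingCat.of k))) : Flat (fst N H).left := by
  have : Subsingleton ↥(Spec (CommRingCat.of k)) :=
    (inferInstance : Subsingleton (PrimeSpectrum k))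
  have : Flat H.hom := inferInstance
  rw [Over.fst_left]
  infer_instance

end Field

end Groth.Agent.Lib.Helper41.FlatSourceDescent
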