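import Groth.Prelude.Def_LambdaRing
import Mathlib

/-!
# λ-rings with positive structure: λ-series of sums of line elements
-/

set_option autoImplicit false

open PowerSeries Finset

namespace Groth.Agent.Lib.Helper41.LambdaSplit

universe u

open LambdaRing

variable {K : Type u} [CommRing K] [LambdaOps K]

theorem coeff_lamSeries (x : K) (i : ℕ) : coeff i (lamSeries x) = LambdaOps.lam i x := by
  simp [lamSeries]

theorem constantCoeff_lamSeries (x : K) : constantCoeff (lamSeries x) = 1 := by
  rw [← coeff_zero_eq_constantCoeff_apply, coeff_lamSeries, LambdaOps.lam_zero]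

theorem lamSeries_add (x y : K) : lamSeries (x + y) = lamSeries x * lamSeries y := by
  ext k
  rw [coeff_lamSeries, LambdaOps.lam_add, coeff_mul,
    Finset.Nat.sum_antidiagonal_eq_sum_range_succ (fun i j => coeff i (lamSeries x) * coeff j (lamSeries y))]
  simp only [coeff_lamSeries]

theorem lamSeries_zero : lamSeries (0 : K) = 1 := by
  have h : lamSeries (0 : K) = lamSeries (0 : K) * lamSeries (0 : K) := by
    conv_lhs => rw [← add_zero (0 : K)]
    exact lamSeries_add 0 0
  have hu : IsUnit (lamSeries (0 : K)) := by
    rw [PowerSeries.isUnit_iff_constantCoeff, constantCoeff_lamSeries]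
    exact isUnit_one
  obtain ⟨w, hw⟩ := hu
  rw [← hw] at h ⊢
  have h2 : (w : K⟦X⟧) * 1 = (w : K⟦X⟧) * (w : K⟦X⟧) := by rw [mul_one]; exact h
  exact (w.mul_right_inj.mp h2).symm

theorem lamSeries_line (P : PosStructure K) (u : K) (hu : P.IsLine u) :
    lamSeries u = 1 + C u * X := by
  ext k
  rw [coeff_lamSeries]
  rcases k with _ | _ | k
  · simp [LambdaOps.lam_zero]
  · simp [LambdaOps.lam_one]
  · rw [P.lam_eq_zero u hu.1 (k + 2) (by rw [hu.2]; push_cast; omega)]
    simp [coeff_X, coeff_one]

theorem lamSeries_multiset_sum (P : PosStructure K) (s : Multiset K) (hs : ∀ u ∈ s, P.IsLine u) :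
    lamSeries s.sum = (s.map fun u => (1 + C u * X : K⟦X⟧)).prod := by
  induction s using Multiset.induction_on with
  | empty => simp [lamSeries_zero]
  | cons a s ih =>
    rw [Multiset.sum_cons, lamSeries_add, Multiset.map_cons, Multiset.prod_cons,
      ih (fun u hu => hs u (Multiset.mem_cons_of_mem hu)),
      lamSeries_line P a (hs a (Multiset.mem_cons_self a s))]

theorem aug_multiset_sum (P : PosStructure K) (s : Multiset K) (hs : ∀ u ∈ s, P.IsLine u) :
    P.aug s.sum = Multiset.card s := by
  induction s using Multiset.induction_on with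
  | empty => simp
  | cons a s ih =>
    rw [Multiset.sum_cons, map_add, ih (fun u hu => hs u (Multiset.mem_cons_of_mem hu)),
      (hs a (Multiset.mem_cons_self a s)).2, Multiset.card_cons]
    push_cast; ring

/-- A λ-homomorphism commutes with the formation of λ-series. -/
theorem map_lamSeries {K' : Type u} [CommRing K'] [LambdaOps K'] (f : K →+* K')
    (hf : IsLambdaHom f) (x : K) : PowerSeries.map f (lamSeries x) = lamSeries (f x) := by
  ext k
  rw [coeff_map, coeff_lamSeries, coeff_lamSeries, hf]

/-- The augmentation of the λ-series of a positive element is `(1 + t)^{ε(e)}`. -/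
theorem map_aug_lamSeries (P : PosStructure K) (hK : HasSplitting K P) (e : K) (he : e ∈ P.pos) :
    PowerSeries.map P.aug (lamSeries e) = (1 + X : ℤ⟦X⟧) ^ (P.aug e).toNat := by
  obtain ⟨𝒞, hK𝒞, h𝒞⟩ := hK
  obtain ⟨L', _, f, hf, s, hs, hsum⟩ := h𝒞 ⟨K, P⟩ hK𝒞 e he
  have hcomp : L'.posStr.aug.comp f = P.aug := RingHom.ext hf.aug_comp
  have h1 : PowerSeries.map P.aug (lamSeries e) =
      PowerSeries.map L'.posStr.aug (lamSeries (f e)) := by
    rw [← map_lamSeries f hf.isLambdaHom, ← hcomp]
    ext k
    simp
  have hcard : (P.aug e).toNat = Multiset.card s := by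
    have := aug_multiset_sum L'.posStr s hs
    rw [hsum, hf.aug_comp] at this
    rw [this]
    simp
  rw [h1, ← hsum, lamSeries_multiset_sum L'.posStr s hs, map_multiset_prod, Multiset.map_map, hcard]
  have : ∀ u ∈ s, (PowerSeries.map L'.posStr.aug ∘ fun u => (1 + C u * X : L'.carrier⟦X⟧)) u =
      (1 + X : ℤ⟦X⟧) := by
    intro u hu
    simp only [Function.comp, map_add, map_one, map_mul, map_C, map_X, (hs u hu).2]
    simp
  rw [Multiset.map_congr rfl this, Multiset.map_const', Multiset.prod_replicate]

section LinProd

variable {R : Type u} [CommRing R]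

/-- `∏_{v ∈ s} (1 + v t)` as a power series. -/
noncomputable def linProd (s : Multiset R) : R⟦X⟧ := (s.map fun v => (1 + C v * X : R⟦X⟧)).prod

theorem linProd_zero : linProd (0 : Multiset R) = 1 := by simp [linProd]

theorem linProd_cons (a : R) (s : Multiset R) :
    linProd (a ::ₘ s) = (1 + C a * X) * linProd s := by
  simp [linProd]

theorem coeff_zero_one_add_mul (a : R) (Q : R⟦X⟧) :
    coeff 0 ((1 + C a * X) * Q) = coeff 0 Q := by
  rw [add_mul, one_mul, mul_assoc, map_add, coeff_C_mul, coeff_zero_X_mul, mul_zero, add_zero]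

theorem coeff_succ_one_add_mul (a : R) (Q : R⟦X⟧) (j : ℕ) :
    coeff (j + 1) ((1 + C a * X) * Q) = coeff (j + 1) Q + a * coeff j Q := by
  rw [add_mul, one_mul, mul_assoc, map_add, coeff_C_mul, coeff_succ_X_mul]

theorem coeff_zero_linProd (s : Multiset R) : coeff 0 (linProd s) = 1 := by
  induction s using Multiset.induction_on with
  | empty => simp [linProd_zero]
  | cons a s ih => rw [linProd_cons, coeff_zero_one_add_mul, ih]

theorem coeff_linProd_eq_zero (s : Multiset R) (j : ℕ) (hj : Multiset.card s < j) :
    coeff j (linProd s) = 0 := by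
  induction s using Multiset.induction_on generalizing j with
  | empty =>
    rw [linProd_zero, coeff_one, if_neg]
    rw [Multiset.card_zero] at hj
    omega
  | cons a s ih =>
    rw [Multiset.card_cons] at hj
    obtain ⟨j', rfl⟩ : ∃ j', j = j' + 1 := ⟨j - 1, by omega⟩
    rw [linProd_cons, coeff_succ_one_add_mul, ih _ (by omega), ih _ (by omega), mul_zero, add_zero]

/-- Reversal: if `w v * v = 1` on `s` then the coefficients of `∏ (1 + v t)` are those of
`∏ (1 + w v t)` read backwards, times `∏ v`. -/
theorem coeff_linProd_rev (w : R → R) (s : Multiset R) (hw : ∀ v ∈ s, w v * v = 1) (i : ℕ)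
    (hi : i ≤ Multiset.card s) :
    coeff i (linProd s) = coeff (Multiset.card s - i) (linProd (s.map w)) * s.prod := by
  induction s using Multiset.induction_on generalizing i with
  | empty =>
    rw [Multiset.card_zero] at hi
    obtain rfl : i = 0 := by omega
    simp [linProd_zero]
  | cons a s ih =>
    have hw' : ∀ v ∈ s, w v * v = 1 := fun v hv => hw v (Multiset.mem_cons_of_mem hv)
    have ha : w a * a = 1 := hw a (Multiset.mem_cons_self a s)
    rw [Multiset.card_cons] at hi ⊢
    rw [Multiset.map_cons, linProd_cons, linProd_cons, Multiset.prod_cons]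
    rcases i with _ | i
    · rw [coeff_zero_one_add_mul, coeff_zero_linProd, Nat.sub_zero, coeff_succ_one_add_mul,
        coeff_linProd_eq_zero _ _ (by rw [Multiset.card_map]; omega), zero_add]
      have := ih hw' 0 (Nat.zero_le _)
      rw [coeff_zero_linProd, Nat.sub_zero] at this
      calc (1 : R) = coeff (Multiset.card s) (linProd (s.map w)) * s.prod := this
        _ = (w a * a) * (coeff (Multiset.card s) (linProd (s.map w)) * s.prod) := by
            rw [ha, one_mul]
        _ = _ := by ring
    · rw [coeff_succ_one_add_mul]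
      have hi' : i ≤ Multiset.card s := by omega
      rw [Nat.add_sub_add_right]
      by_cases hlt : i + 1 ≤ Multiset.card s
      · have e1 := ih hw' (i + 1) hlt
        have e2 := ih hw' i hi'
        obtain ⟨k, hk⟩ : ∃ k, Multiset.card s - i = k + 1 := ⟨Multiset.card s - i - 1, by omega⟩
        have hk' : Multiset.card s - (i + 1) = k := by omega
        rw [hk, coeff_succ_one_add_mul, e1, e2, hk, hk']
        calc coeff k (linProd (s.map w)) * s.prod + a * (coeff (k + 1) (linProd (s.map w)) * s.prod)
            = (w a * a) * (coeff k (linProd (s.map w)) * s.prod) +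
                a * (coeff (k + 1) (linProd (s.map w)) * s.prod) := by rw [ha, one_mul]
          _ = _ := by ring
      · have hic : i = Multiset.card s := by omega
        rw [coeff_linProd_eq_zero _ _ (by omega), zero_add, hic, Nat.sub_self,
          coeff_zero_one_add_mul, coeff_zero_linProd, one_mul]
        have e2 := ih hw' (Multiset.card s) le_rfl
        rw [Nat.sub_self, coeff_zero_linProd, one_mul] at e2
        rw [e2]

theorem coeff_card_linProd (s : Multiset R) : coeff (Multiset.card s) (linProd s) = s.prod := by
  induction s using Multiset.induction_on with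
  | empty => simp [linProd_zero]
  | cons a s ih =>
    rw [Multiset.card_cons, linProd_cons, coeff_succ_one_add_mul, ih,
      coeff_linProd_eq_zero _ _ (Nat.lt_succ_self _), zero_add, Multiset.prod_cons]

end LinProd

theorem lamSeries_multiset_sum' (P : PosStructure K) (s : Multiset K) (hs : ∀ u ∈ s, P.IsLine u) :
    lamSeries s.sum = linProd s :=
  lamSeries_multiset_sum P s hs

end Groth.Agent.Lib.Helper41.LambdaSplit
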