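import Groth.Agent.Lib.Helper41.ElemExt
import Groth.Agent.Lib.Helper41.LambdaSplit

set_option autoImplicit false
universe v u
open Finset

namespace Groth.Agent.Lib.Helper41.AmpleNilp

open Groth.Agent.Lib.Helper41.ElemExt Groth.Agent.Lib.Helper41.LambdaSplit

variable {K : Type v} [CommRing K] [LambdaRing.LambdaOps K] (P : LambdaRing.PosStructure K)

theorem one_mem_pos : (1 : K) ∈ P.pos := by simpa using P.natCast_mem 1 one_pos

theorem isLine_one : P.IsLine (1 : K) := ⟨one_mem_pos P, map_one _⟩

theorem isLine_mul (a b : K) (ha : P.IsLine a) (hb : P.IsLine b) : P.IsLine (a * b) :=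
  ⟨P.mul_mem a b ha.1 hb.1, by rw [map_mul, ha.2, hb.2, mul_one]⟩

theorem isLine_pow (a : K) (ha : P.IsLine a) (n : ℕ) : P.IsLine (a ^ n) := by
  induction n with
  | zero => simpa using isLine_one P
  | succ n ih => rw [pow_succ]; exact isLine_mul P _ _ ih ha

theorem isUnit_of_isLine (a : K) (ha : P.IsLine a) : IsUnit a := by
  have h := P.isUnit_lam a ha.1
  rw [ha.2] at h
  simpa [LambdaRing.LambdaOps.lam_one] using h

theorem lam_line_eq_zero' (a : K) (ha : P.IsLine a) (k : ℕ) (hk : 2 ≤ k) :
    LambdaRing.LambdaOps.lam k a = 0 :=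
  P.lam_eq_zero a ha.1 k (by rw [ha.2]; exact_mod_cast hk)

include P in
theorem lamSeries_natCast (n : ℕ) :
    LambdaRing.lamSeries (n : K) = (1 + PowerSeries.X : PowerSeries K) ^ n := by
  induction n with
  | zero => simp [lamSeries_zero]
  | succ n ih =>
    rw [Nat.cast_succ, lamSeries_add, ih, lamSeries_line P 1 (isLine_one P), pow_succ]
    simp

include P in
/-- `λ^k(n) = C(n, k)` for a natural number `n`. -/
theorem lam_natCast (n k : ℕ) : LambdaRing.LambdaOps.lam k (n : K) = (n.choose k : K) := by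
  rw [← coeff_lamSeries, lamSeries_natCast P]
  have h : ((1 + PowerSeries.X : PowerSeries K) ^ n) =
      (((1 + Polynomial.X : Polynomial K) ^ n : Polynomial K) : PowerSeries K) := by
    simp
  rw [h, Polynomial.coeff_coe, Polynomial.coeff_one_add_X_pow]

/-- If `e + v = m` with `v` a line element, `e` positive and `m` a natural number, then `(1 - v)^m = 0`. -/
theorem one_sub_line_pow_eq_zero (e v : K) (m : ℕ) (he : e ∈ P.pos) (hv : P.IsLine v)
    (h : e + v = m) : (1 - v) ^ m = 0 := by
  have haug : P.aug e = (m : ℤ) - 1 := by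
    have := congrArg P.aug h
    rw [map_add, hv.2, map_natCast] at this
    omega
  have h0 : LambdaRing.LambdaOps.lam m e = 0 := P.lam_eq_zero e he m (by rw [haug]; omega)
  have he' : e = (m : K) - v := by rw [← h]; ring
  rw [he', lam_sub_line_eq_sum _ _ (lam_line_eq_zero' P v hv) m] at h0
  rw [sub_eq_add_neg, add_comm, add_pow, ← h0]
  refine Finset.sum_congr rfl fun j hj => ?_
  simp only [Finset.mem_range] at hj
  rw [lam_natCast P, Nat.choose_symm (by omega), one_pow, mul_one, neg_pow]
  ring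

theorem isNilpotent_line_sub_one (e v : K) (m : ℕ) (he : e ∈ P.pos) (hv : P.IsLine v)
    (h : -v = e - m) : IsNilpotent (v - 1) := by
  have h' : e + v = m := by
    have : e = (m : K) - v := by linear_combination -h
    rw [this]; ring
  have := one_sub_line_pow_eq_zero P e v m he hv h'
  refine ⟨m, ?_⟩
  rw [← neg_sub, neg_pow, this, mul_zero]

/-- For an ample line element `u` and any line element `w`, `w - 1` is nilpotent. -/
theorem isNilpotent_sub_one_of_ample (u : K) (hu : KRR.IsAmpleElt P u) (w : K) (hw : P.IsLine w) :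
    IsNilpotent (w - 1) := by
  obtain ⟨hul, hamp⟩ := hu
  obtain ⟨n₀, h₀⟩ := hamp (-w)
  obtain ⟨n₁, h₁⟩ := hamp (-1)
  set n := max n₀ n₁ with hn
  obtain ⟨e, m, he, hem⟩ := h₀ n (le_max_left _ _)
  obtain ⟨e', m', he', hem'⟩ := h₁ n (le_max_right _ _)
  have hun := isLine_pow P u hul n
  have A : IsNilpotent (u ^ n * w - 1) :=
    isNilpotent_line_sub_one P e (u ^ n * w) m he (isLine_mul P _ _ hun hw) (by rw [← hem]; ring)
  have B : IsNilpotent (u ^ n - 1) :=
    isNilpotent_line_sub_one P e' (u ^ n) m' he' hun (by rw [← hem']; ring)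
  have C : IsNilpotent (u ^ n * (w - 1)) := by
    have : u ^ n * (w - 1) = (u ^ n * w - 1) - (u ^ n - 1) := by ring
    rw [this]
    exact (Commute.all _ _).isNilpotent_sub A B
  obtain ⟨N, hN⟩ := C
  refine ⟨N, ?_⟩
  rw [mul_pow] at hN
  exact ((isUnit_of_isLine P _ hun).pow N).mul_right_eq_zero.mp hN

end Groth.Agent.Lib.Helper41.AmpleNilp
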