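import Groth.Agent.Lib.Helper41.ElemExt
import Groth.Agent.Lib.Helper41.AmpleNilp

set_option autoImplicit false
universe v u
open Finset

namespace Groth.Agent.Lib.Helper41.ElemExtDual

open Groth.Agent.Lib.Helper41.ElemExt Groth.Agent.Lib.Helper41.AmpleNilp

variable {K : Type v} [CommRing K] [LambdaRing.LambdaOps K] (P : LambdaRing.PosStructure K)

theorem extPoly_eq (e : K) (m : ℕ) (hm : (P.aug e).toNat = m) :
    KRR.extPoly P e = Polynomial.X ^ m +
      ∑ i ∈ range m, Polynomial.C (c e (i + 1)) * Polynomial.X ^ (m - (i + 1)) := by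
  have hdef : KRR.extPoly P e = ∑ i ∈ Finset.range ((P.aug e).toNat + 1),
    Polynomial.C ((-1 : K) ^ i * LambdaRing.LambdaOps.lam i e) * Polynomial.X ^ ((P.aug e).toNat - i) := rfl
  rw [hdef, hm, Finset.sum_range_succ', add_comm]
  congr 1
  simp [LambdaRing.LambdaOps.lam_zero]

theorem degree_tail_lt (e : K) (m : ℕ) :
    (∑ i ∈ range m, Polynomial.C (c e (i + 1)) * Polynomial.X ^ (m - (i + 1))).degree < (m : WithBot ℕ) := by
  refine lt_of_le_of_lt (Polynomial.degree_sum_le _ _) ?_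
  refine (Finset.sup_lt_iff (WithBot.bot_lt_coe m)).mpr ?_
  intro i hi
  simp only [Finset.mem_range] at hi
  refine lt_of_le_of_lt (Polynomial.degree_C_mul_X_pow_le _ _) ?_
  exact WithBot.coe_lt_coe.mpr (by omega : m - (i + 1) < m)

theorem extPoly_monic (e : K) : (KRR.extPoly P e).Monic := by
  rw [extPoly_eq P e _ rfl]
  exact Polynomial.monic_X_pow_add (degree_tail_lt e _)

theorem extPoly_natDegree [Nontrivial K] (e : K) (m : ℕ) (hm : (P.aug e).toNat = m) :
    (KRR.extPoly P e).natDegree = m := by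
  rw [extPoly_eq P e m hm]
  rw [Polynomial.natDegree_add_eq_left_of_degree_lt, Polynomial.natDegree_X_pow]
  rw [Polynomial.degree_X_pow]
  exact degree_tail_lt e m

/-- Every element of the elementary extension is a `K`-combination of `1, ℓ, …, ℓ^{m-1}`. -/
theorem exists_repr (e : K) (m : ℕ) (hm : (P.aug e).toNat = m + 1) (y : AdjoinRoot (KRR.extPoly P e)) :
    ∃ a : ℕ → K, y = ∑ j ∈ range (m + 1),
      AdjoinRoot.of (KRR.extPoly P e) (a j) * AdjoinRoot.root (KRR.extPoly P e) ^ j := by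
  rcases subsingleton_or_nontrivial K with h | h
  · have : Subsingleton (AdjoinRoot (KRR.extPoly P e)) := by
      apply subsingleton_of_zero_eq_one
      rw [← map_zero (AdjoinRoot.of (KRR.extPoly P e)), ← map_one (AdjoinRoot.of (KRR.extPoly P e)),
        Subsingleton.elim (0 : K) 1]
    exact ⟨0, Subsingleton.elim _ _⟩
  · obtain ⟨g, rfl⟩ := AdjoinRoot.mk_surjective y
    have hmonic := extPoly_monic P e
    have h1 : AdjoinRoot.mk (KRR.extPoly P e) g = AdjoinRoot.mk (KRR.extPoly P e) (g %ₘ KRR.extPoly P e) := by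
      rw [AdjoinRoot.mk_eq_mk]
      refine ⟨g /ₘ KRR.extPoly P e, ?_⟩
      have := Polynomial.modByMonic_add_div g (KRR.extPoly P e)
      linear_combination (-1 : Polynomial K) * this
    have h2 : (g %ₘ KRR.extPoly P e).natDegree < m + 1 := by
      have hd := Polynomial.degree_modByMonic_lt g hmonic
      have hne : KRR.extPoly P e ≠ 0 := hmonic.ne_zero
      rw [Polynomial.degree_eq_natDegree hne, extPoly_natDegree P e (m + 1) hm] at hd
      by_cases h0 : g %ₘ KRR.extPoly P e = 0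
      · rw [h0, Polynomial.natDegree_zero]
        omega
      · rw [Polynomial.degree_eq_natDegree h0] at hd
        exact_mod_cast hd
    refine ⟨fun j => (g %ₘ KRR.extPoly P e).coeff j, ?_⟩
    rw [h1]
    conv_lhs => rw [Polynomial.as_sum_range' (g %ₘ KRR.extPoly P e) (m + 1) h2]
    rw [map_sum]
    refine Finset.sum_congr rfl fun j _ => ?_
    rw [← Polynomial.C_mul_X_pow_eq_monomial, map_mul, map_pow, AdjoinRoot.mk_C, AdjoinRoot.mk_X]

/-- The pairing `(x, y) ↦ f (x y)` is nondegenerate. -/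
theorem nondegenerate (e : K) (r : ℕ) (hm : (P.aug e).toNat = r + 1)
    (f : AdjoinRoot (KRR.extPoly P e) →ₗ[K] K)
    (hf : ∀ i : ℕ, f (AdjoinRoot.root (KRR.extPoly P e) ^ i) = KRR.sigma i e)
    (linv : AdjoinRoot (KRR.extPoly P e)) (hlinv : linv * AdjoinRoot.root (KRR.extPoly P e) = 1)
    (hb : ∀ n : ℕ, 1 ≤ n → n ≤ r → f (linv ^ n) = 0)
    (y : AdjoinRoot (KRR.extPoly P e)) (hy : ∀ x, f (x * y) = 0) : y = 0 := by
  obtain ⟨a, rfl⟩ := exists_repr P e r hm y
  have key : ∀ d n : ℕ, n ≤ r → r - n = d → a n = 0 := by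
    intro d
    induction d using Nat.strong_induction_on with
    | _ d ih =>
      intro n hn hd
      have h1 := hy (linv ^ n)
      rw [Finset.mul_sum, map_sum] at h1
      have h2 : ∀ j ∈ range (r + 1), f (linv ^ n * (AdjoinRoot.of (KRR.extPoly P e) (a j) *
          AdjoinRoot.root (KRR.extPoly P e) ^ j)) =
          a j * (if n ≤ j then KRR.sigma (j - n) e else f (linv ^ (n - j))) := by
        intro j _
        rw [mul_left_comm, smul_eq_of_mul, map_smul, smul_eq_mul, inv_pow_mul_pow _ _ hlinv]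
        split_ifs
        · rw [hf]
        · rfl
      rw [Finset.sum_congr rfl h2, Finset.sum_eq_single n] at h1
      · simpa [sigma_zero] using h1
      · intro j hj hjn
        simp only [Finset.mem_range] at hj
        rcases Nat.lt_or_gt_of_ne hjn with hlt | hgt
        · rw [if_neg (by omega), hb (n - j) (by omega) (by omega), mul_zero]
        · rw [ih (r - j) (by omega) j (by omega) rfl, zero_mul]
      · intro h
        simp only [Finset.mem_range] at h
        omega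
  apply Finset.sum_eq_zero
  intro j hj
  simp only [Finset.mem_range] at hj
  rw [key (r - j) j (by omega) rfl, map_zero, zero_mul]

/-- `λ^m(e - ℓ) = 0` for `m = ε(e)`: it is `± p_e(ℓ)`. -/
theorem lam_top_sub_root (e : K) (m : ℕ) (hm : (P.aug e).toNat = m)
    [inst : LambdaRing.LambdaOps (AdjoinRoot (KRR.extPoly P e))]
    (hext : ∀ (i : ℕ) (x : K), LambdaRing.LambdaOps.lam i (AdjoinRoot.of (KRR.extPoly P e) x) =
      AdjoinRoot.of (KRR.extPoly P e) (LambdaRing.LambdaOps.lam i x))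
    (hroot : ∀ i : ℕ, 2 ≤ i → LambdaRing.LambdaOps.lam i (AdjoinRoot.root (KRR.extPoly P e)) = 0) :
    LambdaRing.LambdaOps.lam m
      (AdjoinRoot.of (KRR.extPoly P e) e - AdjoinRoot.root (KRR.extPoly P e)) = 0 := by
  rw [lam_sub_line_eq_sum _ _ hroot m, ← Finset.sum_range_reflect]
  have h1 := root_rel P e
  rw [hm] at h1
  have h2 : ∀ j ∈ range (m + 1), (-1 : AdjoinRoot (KRR.extPoly P e)) ^ (m + 1 - 1 - j) *
      LambdaRing.LambdaOps.lam (m - (m + 1 - 1 - j)) (AdjoinRoot.of (KRR.extPoly P e) e) *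
      AdjoinRoot.root (KRR.extPoly P e) ^ (m + 1 - 1 - j) =
      (-1 : AdjoinRoot (KRR.extPoly P e)) ^ m * (AdjoinRoot.of (KRR.extPoly P e) (c e j) *
        AdjoinRoot.root (KRR.extPoly P e) ^ (m - j)) := by
    intro j hj
    simp only [Finset.mem_range] at hj
    have e1 : m + 1 - 1 - j = m - j := by omega
    have e2 : m - (m - j) = j := by omega
    rw [e1, e2, hext, c, map_mul, map_pow, map_neg, map_one]
    have e3 : (-1 : AdjoinRoot (KRR.extPoly P e)) ^ m = (-1) ^ (m - j) * (-1) ^ j := by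
      rw [← pow_add]; congr 1; omega
    rw [e3]
    have e4 : ((-1 : AdjoinRoot (KRR.extPoly P e)) ^ j) * ((-1) ^ j) = 1 := by
      rw [← pow_add, ← two_mul, pow_mul]; simp
    linear_combination (-(-1 : AdjoinRoot (KRR.extPoly P e)) ^ (m - j) *
      AdjoinRoot.of (KRR.extPoly P e) (LambdaRing.LambdaOps.lam j e) *
      AdjoinRoot.root (KRR.extPoly P e) ^ (m - j)) * e4
  rw [Finset.sum_congr rfl h2, ← Finset.mul_sum, h1, mul_zero]

/-- `λ_{-1}(e - ℓ) (1 - ℓ) = λ_{-1}(e)`. -/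
theorem lamAlt_mul_one_sub_root (e : K) (r : ℕ) (hm : (P.aug e).toNat = r + 1)
    [inst : LambdaRing.LambdaOps (AdjoinRoot (KRR.extPoly P e))]
    (hext : ∀ (i : ℕ) (x : K), LambdaRing.LambdaOps.lam i (AdjoinRoot.of (KRR.extPoly P e) x) =
      AdjoinRoot.of (KRR.extPoly P e) (LambdaRing.LambdaOps.lam i x))
    (hroot : ∀ i : ℕ, 2 ≤ i → LambdaRing.LambdaOps.lam i (AdjoinRoot.root (KRR.extPoly P e)) = 0) :
    (∑ i ∈ range (r + 1), (-1 : AdjoinRoot (KRR.extPoly P e)) ^ i * LambdaRing.LambdaOps.lam i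
      (AdjoinRoot.of (KRR.extPoly P e) e - AdjoinRoot.root (KRR.extPoly P e))) *
      (1 - AdjoinRoot.root (KRR.extPoly P e)) =
    AdjoinRoot.of (KRR.extPoly P e)
      (∑ k ∈ range (r + 1 + 1), (-1 : K) ^ k * LambdaRing.LambdaOps.lam k e) := by
  have htop := lam_top_sub_root P e (r + 1) hm hext hroot
  have h1 : ∀ k ∈ range (r + 1), AdjoinRoot.of (KRR.extPoly P e)
      ((-1 : K) ^ (k + 1) * LambdaRing.LambdaOps.lam (k + 1) e) =
      (-1 : AdjoinRoot (KRR.extPoly P e)) ^ (k + 1) * LambdaRing.LambdaOps.lam (k + 1)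
        (AdjoinRoot.of (KRR.extPoly P e) e - AdjoinRoot.root (KRR.extPoly P e)) -
      ((-1 : AdjoinRoot (KRR.extPoly P e)) ^ k * LambdaRing.LambdaOps.lam k
        (AdjoinRoot.of (KRR.extPoly P e) e - AdjoinRoot.root (KRR.extPoly P e))) *
        AdjoinRoot.root (KRR.extPoly P e) := by
    intro k _
    rw [map_mul, map_pow, map_neg, map_one, ← hext,
      lam_succ_sub_line (AdjoinRoot.of (KRR.extPoly P e) e) _ hroot k]
    ring
  have hR : AdjoinRoot.of (KRR.extPoly P e)
      (∑ k ∈ range (r + 1 + 1), (-1 : K) ^ k * LambdaRing.LambdaOps.lam k e) =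
      ∑ k ∈ range (r + 1), ((-1 : AdjoinRoot (KRR.extPoly P e)) ^ (k + 1) * LambdaRing.LambdaOps.lam (k + 1)
        (AdjoinRoot.of (KRR.extPoly P e) e - AdjoinRoot.root (KRR.extPoly P e)) -
      ((-1 : AdjoinRoot (KRR.extPoly P e)) ^ k * LambdaRing.LambdaOps.lam k
        (AdjoinRoot.of (KRR.extPoly P e) e - AdjoinRoot.root (KRR.extPoly P e))) *
        AdjoinRoot.root (KRR.extPoly P e)) + 1 := by
    rw [map_sum, Finset.sum_range_succ', Finset.sum_congr rfl h1]
    simp [LambdaRing.LambdaOps.lam_zero]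
  rw [hR, Finset.sum_sub_distrib, ← Finset.sum_mul]
  have h2 := Finset.sum_range_succ' (fun k => (-1 : AdjoinRoot (KRR.extPoly P e)) ^ k *
    LambdaRing.LambdaOps.lam k
      (AdjoinRoot.of (KRR.extPoly P e) e - AdjoinRoot.root (KRR.extPoly P e))) (r + 1)
  rw [Finset.sum_range_succ, htop, mul_zero, add_zero] at h2
  simp only [pow_zero, LambdaRing.LambdaOps.lam_zero, mul_one] at h2
  rw [h2]
  ring

/-- If `z (1 - ℓ) = 0` then `z = f(z) λ_{-1}(c - ℓ)`. -/
theorem eq_functional_mul_lamAlt (c : K) (hc : c ∈ P.pos) (r : ℕ) (hr : P.aug c = r + 1)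
    [inst : LambdaRing.LambdaOps (AdjoinRoot (KRR.extPoly P c))]
    (hext : ∀ (i : ℕ) (x : K), LambdaRing.LambdaOps.lam i (AdjoinRoot.of (KRR.extPoly P c) x) =
      AdjoinRoot.of (KRR.extPoly P c) (LambdaRing.LambdaOps.lam i x))
    (hroot : ∀ i : ℕ, 2 ≤ i → LambdaRing.LambdaOps.lam i (AdjoinRoot.root (KRR.extPoly P c)) = 0)
    (linv : AdjoinRoot (KRR.extPoly P c)) (hlinv : linv * AdjoinRoot.root (KRR.extPoly P c) = 1)
    (f : AdjoinRoot (KRR.extPoly P c) →ₗ[K] K)
    (hf : ∀ i : ℕ, i ≤ r → f (AdjoinRoot.root (KRR.extPoly P c) ^ i) = KRR.sigma i c)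
    (z : AdjoinRoot (KRR.extPoly P c)) (hz : z * (1 - AdjoinRoot.root (KRR.extPoly P c)) = 0) :
    z = AdjoinRoot.of (KRR.extPoly P c) (f z) *
      ∑ i ∈ range (r + 1), (-1 : AdjoinRoot (KRR.extPoly P c)) ^ i * LambdaRing.LambdaOps.lam i
        (AdjoinRoot.of (KRR.extPoly P c) c - AdjoinRoot.root (KRR.extPoly P c)) := by
  have hm : (P.aug c).toNat = r + 1 := by rw [hr]; omega
  have hfw := functional_forward P c hc r hr f hf
  have hbw := functional_backward P c hc r hr f hfw linv hlinv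
  set Λ := ∑ i ∈ range (r + 1), (-1 : AdjoinRoot (KRR.extPoly P c)) ^ i * LambdaRing.LambdaOps.lam i
        (AdjoinRoot.of (KRR.extPoly P c) c - AdjoinRoot.root (KRR.extPoly P c)) with hΛdef
  have hneg : (-1 : AdjoinRoot (KRR.extPoly P c)) = AdjoinRoot.of (KRR.extPoly P c) (-1) := by
    rw [map_neg, map_one]
  have hΛ : f Λ = 1 := by
    rw [hΛdef, map_sum, Finset.sum_eq_single 0]
    · rw [pow_zero, one_mul, functional_lam_sub_root P c hext hroot f hfw 0, if_pos rfl]
    · intro i _ hi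
      rw [hneg, ← map_pow, smul_eq_of_mul, map_smul, functional_lam_sub_root P c hext hroot f hfw i,
        if_neg hi, smul_zero]
    · intro h; simp at h
  have hκ := lamAlt_mul_one_sub_root P c r hm hext hroot
  rw [← hΛdef] at hκ
  set κ := ∑ k ∈ range (r + 1 + 1), (-1 : K) ^ k * LambdaRing.LambdaOps.lam k c with hκdef
  have hκz : κ * f z = 0 := by
    have : AdjoinRoot.of (KRR.extPoly P c) κ * z = 0 := by
      rw [← hκ, mul_assoc, mul_comm _ z, hz, mul_zero]
    have h2 := congrArg f this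
    rwa [smul_eq_of_mul, map_smul, map_zero, smul_eq_mul] at h2
  apply sub_eq_zero.mp
  apply nondegenerate P c r hm f hfw linv hlinv hbw
  intro x
  obtain ⟨g, rfl⟩ := AdjoinRoot.mk_surjective x
  obtain ⟨h, hh⟩ := Polynomial.X_sub_C_dvd_sub_C_eval (a := (1 : K)) (p := g)
  have hx : AdjoinRoot.mk (KRR.extPoly P c) g = AdjoinRoot.of (KRR.extPoly P c) (g.eval 1) +
      (AdjoinRoot.root (KRR.extPoly P c) - 1) * AdjoinRoot.mk (KRR.extPoly P c) h := by
    have h3 := congrArg (AdjoinRoot.mk (KRR.extPoly P c)) hh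
    rw [map_sub, map_mul, map_sub, AdjoinRoot.mk_C, AdjoinRoot.mk_C, AdjoinRoot.mk_X, map_one] at h3
    rw [← h3]; ring
  have e1 : AdjoinRoot.mk (KRR.extPoly P c) g * (z - AdjoinRoot.of (KRR.extPoly P c) (f z) * Λ) =
      AdjoinRoot.of (KRR.extPoly P c) (g.eval 1) * z
      - AdjoinRoot.of (KRR.extPoly P c) (f z * g.eval 1) * Λ
      + AdjoinRoot.of (KRR.extPoly P c) (f z * κ) * AdjoinRoot.mk (KRR.extPoly P c) h
      - AdjoinRoot.mk (KRR.extPoly P c) h * (z * (1 - AdjoinRoot.root (KRR.extPoly P c))) := by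
    rw [hx, map_mul, map_mul, ← hκ]
    ring
  rw [e1, hz, mul_zero, sub_zero, map_add, map_sub, smul_eq_of_mul, smul_eq_of_mul, smul_eq_of_mul,
    map_smul, map_smul, map_smul, hΛ, mul_comm (f z) κ, hκz]
  simp only [smul_eq_mul, zero_smul, add_zero, mul_one]
  ring

end Groth.Agent.Lib.Helper41.ElemExtDual
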