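import Groth.Agent.Lib.Helper41.LambdaSplit
import Groth.Agent.S8651
import Groth.Agent.S8649
import Groth.Agent.S8650
import Groth.Agent.S3291

/-!
# γ-operations on sums of line elements (uses helper44's S8649–S8651 and helper16's S3291)
-/

set_option autoImplicit false

open PowerSeries Finset

namespace Groth.Agent.Lib.Helper41.LambdaSplit

universe u

open LambdaRing

variable {K : Type u} [CommRing K] [LambdaOps K]

theorem lam_one_eq_zero (P : PosStructure K) (k : ℕ) (hk : 2 ≤ k) : LambdaOps.lam k (1 : K) = 0 := by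
  have h1 : (1 : K) ∈ P.pos := by simpa using P.natCast_mem 1 one_pos
  exact P.lam_eq_zero 1 h1 k (by rw [map_one]; exact_mod_cast hk)

theorem lam_line_eq_zero (P : PosStructure K) (u : K) (hu : P.IsLine u) (k : ℕ) (hk : 2 ≤ k) :
    LambdaOps.lam k u = 0 :=
  P.lam_eq_zero u hu.1 k (by rw [hu.2]; exact_mod_cast hk)

theorem gamma_map {K' : Type u} [CommRing K'] [LambdaOps K'] (f : K →+* K') (hf : IsLambdaHom f)
    (k : ℕ) (x : K) : f (gamma k x) = gamma k (f x) := by
  unfold gamma
  split_ifs with h
  · simp
  · rw [map_sum]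
    refine Finset.sum_congr rfl fun j _ => ?_
    rw [map_mul, map_natCast]
    split_ifs
    · simp
    · rw [hf]

theorem sum_alt_coeff_linProd {R : Type u} [CommRing R] (t : Multiset R) :
    ∑ i ∈ Finset.range (Multiset.card t + 1), (-1 : R) ^ i * coeff i (linProd t) =
      (t.map fun v => 1 - v).prod := by
  induction t using Multiset.induction_on with
  | empty => simp [linProd_zero]
  | cons a t ih =>
    rw [Multiset.card_cons, Finset.sum_range_succ', linProd_cons, coeff_zero_one_add_mul,
      Multiset.map_cons, Multiset.prod_cons, ← ih]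
    have h1 : ∀ i ∈ Finset.range (Multiset.card t + 1),
        (-1 : R) ^ (i + 1) * coeff (i + 1) ((1 + C a * X) * linProd t) =
        (-1 : R) ^ (i + 1) * coeff (i + 1) (linProd t) - a * ((-1 : R) ^ i * coeff i (linProd t)) := by
      intro i _
      rw [coeff_succ_one_add_mul]
      ring
    rw [Finset.sum_congr rfl h1, Finset.sum_sub_distrib, ← Finset.mul_sum, Finset.sum_range_succ,
      coeff_linProd_eq_zero _ _ (Nat.lt_succ_self _), mul_zero, add_zero]
    have h2 : ∑ i ∈ Finset.range (Multiset.card t + 1), (-1 : R) ^ i * coeff i (linProd t) =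
        ∑ i ∈ Finset.range (Multiset.card t), (-1 : R) ^ (i + 1) * coeff (i + 1) (linProd t) +
          (-1 : R) ^ 0 * coeff 0 (linProd t) := Finset.sum_range_succ' _ _
    rw [h2]
    ring

/-- `γ^n (Σ_{v ∈ s} v − n) = ∏ (v − 1)` for a multiset `s` of `n` line elements. -/
theorem gamma_card_multiset_sum (P : PosStructure K) (s : Multiset K) (hs : ∀ u ∈ s, P.IsLine u) :
    gamma (Multiset.card s) (s.sum - (Multiset.card s : K)) = (s.map fun v => v - 1).prod := by
  obtain ⟨l, rfl⟩ : ∃ l : List K, s = ↑l := ⟨s.toList, (Multiset.coe_toList s).symm⟩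
  have h := Groth.Agent.S8651.result K (lam_one_eq_zero P) l.length l.get
    (fun i j hj => lam_line_eq_zero P _ (hs _ (by simp)) j hj) l.length
  have hsum : ∑ i : Fin l.length, l.get i = l.sum := by
    rw [← List.sum_ofFn, List.ofFn_get]
  rw [hsum] at h
  simp only [Multiset.coe_card, Multiset.sum_coe, Multiset.map_coe, Multiset.prod_coe]
  rw [h]
  have hps : (Finset.univ : Finset (Fin l.length)).powersetCard l.length = {Finset.univ} := by
    have := Finset.powersetCard_self (Finset.univ : Finset (Fin l.length))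
    rwa [Finset.card_univ, Fintype.card_fin] at this
  rw [hps, Finset.sum_singleton]
  have : (l.map fun v => v - 1) = List.ofFn (fun i : Fin l.length => l.get i - 1) := by
    apply List.ext_get
    · simp
    · intro n h1 h2
      simp
  rw [this, List.prod_ofFn]

theorem sum_alt_lam_eq_gamma (P : PosStructure K) (q : K) (d : ℕ) :
    ∑ i ∈ Finset.range (d + 1), (-1 : K) ^ i * LambdaOps.lam i q =
      (-1 : K) ^ d * gamma d (q - (d : K)) := by
  have h1 := Groth.Agent.S8649.result K (lam_one_eq_zero P) d (q - (d : K))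
  have h2 := Groth.Agent.S8650.result K (lam_one_eq_zero P) d (q - (d : K))
  rw [h1, h2, sub_add_cancel, ← mul_assoc, ← pow_add, ← two_mul, pow_mul]
  simp

theorem gamma_mem_gammaFiltration (P : PosStructure K) (x : K) (hx : P.aug x = 0) (k : ℕ) (hk : 1 ≤ k) :
    gamma k x ∈ gammaFiltration P k := by
  unfold gammaFiltration
  rw [if_neg (by omega)]
  apply AddSubgroup.subset_closure
  refine ⟨[(k, x)], ?_, ?_, ?_⟩
  · intro p hp
    simp only [List.mem_singleton] at hp
    rw [hp]; exact hx
  · simp
  · simp

theorem gamma_one (x : K) : gamma 1 x = x := by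
  unfold gamma
  rw [if_neg one_ne_zero]
  simp [Finset.sum_range_succ, LambdaOps.lam_one]

theorem sub_one_mem_gammaFiltration_one (P : PosStructure K) (u : K) (hu : P.aug u = 1) :
    u - 1 ∈ gammaFiltration P 1 := by
  have := gamma_mem_gammaFiltration P (u - 1) (by rw [map_sub, hu, map_one, sub_self]) 1 le_rfl
  rwa [gamma_one] at this

theorem sum_alt_lam_mem_gammaFiltration (P : PosStructure K) (q : K) (hq : q ∈ P.pos) :
    ∑ i ∈ Finset.range ((P.aug q).toNat + 1), (-1 : K) ^ i * LambdaOps.lam i q ∈
      gammaFiltration P (P.aug q).toNat := by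
  have hpos := P.aug_pos q hq
  have hd : ((P.aug q).toNat : ℤ) = P.aug q := Int.toNat_of_nonneg hpos.le
  rw [sum_alt_lam_eq_gamma P q]
  apply (Groth.Agent.S3291.result K P).1
  apply gamma_mem_gammaFiltration
  · rw [map_sub, map_natCast, hd, sub_self]
  · omega

end Groth.Agent.Lib.Helper41.LambdaSplit
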