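import Groth.Agent.Lib.Helper41.AdamsSym
import Groth.Agent.Lib.Helper41.LambdaGammaSplit
import Groth.Agent.Lib.Helper16.LambdaAdams

/-!
# `ψ^j` acts as `j^n` on `F^n / F^{n+1}` (γ-filtration)
-/

set_option autoImplicit false
open Finset

namespace Groth.Agent.Lib.Helper41.AdamsGamma

universe u

open LambdaRing MvPolynomial Groth.Agent.Lib.Helper41.LambdaSplit Groth.Agent.Lib.Helper41.SymmWeight
open Groth.Agent.Lib.Helper16

variable {K : Type u} [CommRing K] [LambdaOps K]

theorem gammaFiltration_antitone (P : PosStructure K) {n n' : ℕ} (h : n ≤ n') :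
    gammaFiltration P n' ≤ gammaFiltration P n := by
  unfold gammaFiltration
  split_ifs with h1 h2 h2
  · exact le_rfl
  · omega
  · exact le_top
  · apply AddSubgroup.closure_mono
    rintro y ⟨l, hl, hsum, rfl⟩
    exact ⟨l, hl, by omega, rfl⟩

theorem one_mem_gammaFiltration_zero (P : PosStructure K) (x : K) : x ∈ gammaFiltration P 0 := by
  unfold gammaFiltration
  rw [if_pos rfl]
  exact AddSubgroup.mem_top x

theorem mul_mem (P : PosStructure K) {a b : ℕ} {x y : K} (hx : x ∈ gammaFiltration P a)
    (hy : y ∈ gammaFiltration P b) : x * y ∈ gammaFiltration P (a + b) :=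
  (Groth.Agent.S3291.result K P).2 a b x y hx hy

theorem mul_mem_left (P : PosStructure K) {n : ℕ} (a : K) {x : K} (hx : x ∈ gammaFiltration P n) :
    a * x ∈ gammaFiltration P n :=
  (Groth.Agent.S3291.result K P).1 n a x hx

theorem pow_mem (P : PosStructure K) {n : ℕ} {x : K} (hx : x ∈ gammaFiltration P n) (k : ℕ) :
    x ^ k ∈ gammaFiltration P (k * n) := by
  induction k with
  | zero => rw [zero_mul]; exact one_mem_gammaFiltration_zero P _
  | succ k ih =>
    rw [pow_succ, Nat.succ_mul]
    exact mul_mem P ih hx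

theorem prod_mem (P : PosStructure K) {ι : Type*} (s : Finset ι) (g : ι → K) (n : ι → ℕ)
    (h : ∀ i ∈ s, g i ∈ gammaFiltration P (n i)) :
    ∏ i ∈ s, g i ∈ gammaFiltration P (∑ i ∈ s, n i) := by
  classical
  induction s using Finset.induction_on with
  | empty => simpa using one_mem_gammaFiltration_zero P (1 : K)
  | insert a s ha ih =>
    rw [Finset.prod_insert ha, Finset.sum_insert ha]
    exact mul_mem P (h a (Finset.mem_insert_self a s))
      (ih fun i hi => h i (Finset.mem_insert_of_mem hi))

/-- evaluating a polynomial of weight `≥ d` at elements `g i ∈ F^{i+1}` lands in `F^d` -/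
theorem aeval_mem_gammaFiltration (P : PosStructure K) {m : ℕ} (Q : MvPolynomial (Fin m) ℤ) (d : ℕ)
    (hQ : ∀ x ∈ Q.support, d ≤ wt x) (g : Fin m → K)
    (hg : ∀ i : Fin m, g i ∈ gammaFiltration P ((i : ℕ) + 1)) :
    aeval g Q ∈ gammaFiltration P d := by
  rw [aeval_def, eval₂_eq]
  apply AddSubgroup.sum_mem
  intro x hx
  apply mul_mem_left
  apply gammaFiltration_antitone P (hQ x hx)
  have := prod_mem P x.support (fun i => g i ^ x i) (fun i => x i * ((i : ℕ) + 1))
    (fun i _ => pow_mem P (hg i) (x i))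
  convert this using 2
  rw [wt, Finsupp.weight_apply, Finsupp.sum]
  rfl

theorem map_multiset_esymm {A B : Type*} [CommRing A] [CommRing B] (f : A →+* B) (t : Multiset A)
    (k : ℕ) : f (t.esymm k) = (t.map f).esymm k := by
  unfold Multiset.esymm
  rw [map_multiset_sum, Multiset.powersetCard_map, Multiset.map_map, Multiset.map_map]
  congr 1
  apply Multiset.map_congr rfl
  intro x _
  simp [map_multiset_prod]

/-- `γ^k (Σ_{v ∈ s} v − card s) = e_k(v − 1)` for a multiset `s` of line elements. -/
theorem gamma_multiset_sum_sub_card (P : PosStructure K) (s : Multiset K)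
    (hs : ∀ u ∈ s, P.IsLine u) (k : ℕ) :
    gamma k (s.sum - (Multiset.card s : K)) = (s.map fun v => v - 1).esymm k := by
  obtain ⟨l, rfl⟩ : ∃ l : List K, s = ↑l := ⟨s.toList, (Multiset.coe_toList s).symm⟩
  have h := Groth.Agent.S8651.result K (lam_one_eq_zero P) l.length l.get
    (fun i j hj => lam_line_eq_zero P _ (hs _ (by simp)) j hj) k
  have hsum : ∑ i : Fin l.length, l.get i = l.sum := by
    rw [← List.sum_ofFn, List.ofFn_get]
  rw [hsum] at h
  simp only [Multiset.coe_card, Multiset.sum_coe, Multiset.map_coe]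
  rw [h, ← Finset.esymm_map_val, Fin.univ_val_map]
  congr 2
  apply List.ext_get
  · simp
  · intro n h1 h2
    simp

/-- Key congruence on the generators `γ^r(e − ε(e))`, `e` positive. -/
theorem adams_gamma_pos (P : PosStructure K) (hK : HasSplitting K P) (j : ℕ) (e : K) (he : e ∈ P.pos)
    (r : ℕ) :
    adams P j (gamma r (e - ((P.aug e).toNat : K))) - (j : K) ^ r * gamma r (e - ((P.aug e).toNat : K)) ∈
      gammaFiltration P (r + 1) := by
  obtain ⟨C, hKC, hC⟩ := hK
  obtain ⟨L', hL', f, hf, s, hs, hsum⟩ := hC ⟨K, P⟩ hKC e he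
  have hK' : HasSplitting L'.carrier L'.posStr := ⟨C, hL', hC⟩
  have hcard : Multiset.card s = (P.aug e).toNat := by
    have h2 : P.aug e = (Multiset.card s : ℤ) := by
      rw [← hf.aug_comp, ← hsum]
      exact aug_multiset_sum L'.posStr s hs
    rw [h2]
    simp
  set m := (P.aug e).toNat with hm
  obtain ⟨Q, hQw, hQe⟩ := exists_adams_poly_multiset m j r
  have hy : P.aug (e - (m : K)) = 0 := by
    have hpos := P.aug_pos e he
    rw [map_sub, map_natCast, hm]
    omega
  have hfy : f (e - (m : K)) = s.sum - (Multiset.card s : L'.carrier) := by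
    rw [map_sub, map_natCast, hsum, hcard]
  have hgam : ∀ k : ℕ, f (gamma k (e - (m : K))) = (s.map fun v => v - 1).esymm k := by
    intro k
    rw [gamma_map f hf.isLambdaHom, hfy, gamma_multiset_sum_sub_card L'.posStr s hs]
  have key : adams P j (gamma r (e - (m : K))) - (j : K) ^ r * gamma r (e - (m : K)) =
      aeval (fun i : Fin m => gamma ((i : ℕ) + 1) (e - (m : K))) Q := by
    apply hf.injective
    have h1 := MvPolynomial.comp_aeval_apply
      (f := fun i : Fin m => gamma ((i : ℕ) + 1) (e - (m : K))) (RingHom.toIntAlgHom f) Q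
    simp only [RingHom.toIntAlgHom_apply] at h1
    rw [h1]
    have hfun : (fun i : Fin m => f (gamma ((i : ℕ) + 1) (e - (m : K)))) =
        fun i : Fin m => (s.map fun v => v - 1).esymm ((i : ℕ) + 1) := funext fun i => hgam _
    rw [hfun, hQe (s.map fun v => v - 1) (by rw [Multiset.card_map, hcard])]
    rw [map_sub, map_mul, map_pow, map_natCast, ← adams_map hf, hgam]
    congr 1
    have h2 := map_multiset_esymm (adamsRingHom L'.posStr hK' j) (s.map fun v => v - 1) r
    refine Eq.trans h2 ?_
    rw [Multiset.map_map, Multiset.map_map]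
    congr 1
    apply Multiset.map_congr rfl
    intro v hv
    show adams L'.posStr j (v - 1) = (1 + (v - 1)) ^ j - 1
    rw [adams_sub, adams_one_elt, adams_line L'.posStr (hs v hv)]
    ring
  rw [key]
  apply aeval_mem_gammaFiltration P Q (r + 1) hQw
  intro i
  exact gamma_mem_gammaFiltration P _ hy _ (by omega)

/-- `G_n`: elements of `F^n` on which `ψ^j` acts as `j^n` modulo `F^{n+1}`. -/
def G (P : PosStructure K) (j n : ℕ) : Set K :=
  {z | z ∈ gammaFiltration P n ∧ adams P j z - (j : K) ^ n * z ∈ gammaFiltration P (n + 1)}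

theorem adams_mem_of_mem_G (P : PosStructure K) {j n : ℕ} {z : K} (hz : z ∈ G P j n) :
    adams P j z ∈ gammaFiltration P n := by
  have h1 := gammaFiltration_antitone P (Nat.le_succ n) hz.2
  have h2 := mul_mem_left P ((j : K) ^ n) hz.1
  have := (gammaFiltration P n).add_mem h1 h2
  rwa [sub_add_cancel] at this

theorem G_mul (P : PosStructure K) (hK : HasSplitting K P) {j a b : ℕ} {z w : K}
    (hz : z ∈ G P j a) (hw : w ∈ G P j b) : z * w ∈ G P j (a + b) := by
  refine ⟨mul_mem P hz.1 hw.1, ?_⟩
  have e : adams P j (z * w) - (j : K) ^ (a + b) * (z * w) =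
      (adams P j z - (j : K) ^ a * z) * adams P j w +
        ((j : K) ^ a * z) * (adams P j w - (j : K) ^ b * w) := by
    rw [adams_mul P hK]; ring
  rw [e]
  apply (gammaFiltration P (a + b + 1)).add_mem
  · have := mul_mem P hz.2 (adams_mem_of_mem_G P hw)
    rwa [show a + 1 + b = a + b + 1 by omega] at this
  · exact mul_mem P (a := a) (b := b + 1) (mul_mem_left P _ hz.1) hw.2

theorem G_zero_mem (P : PosStructure K) (j n : ℕ) : (0 : K) ∈ G P j n := by
  refine ⟨(gammaFiltration P n).zero_mem, ?_⟩
  rw [adams_zero_elt, mul_zero, sub_zero]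
  exact (gammaFiltration P (n + 1)).zero_mem

theorem G_add (P : PosStructure K) {j n : ℕ} {z w : K}
    (hz : z ∈ G P j n) (hw : w ∈ G P j n) : z + w ∈ G P j n := by
  refine ⟨(gammaFiltration P n).add_mem hz.1 hw.1, ?_⟩
  have e : adams P j (z + w) - (j : K) ^ n * (z + w) =
      (adams P j z - (j : K) ^ n * z) + (adams P j w - (j : K) ^ n * w) := by
    rw [adams_add]; ring
  rw [e]
  exact (gammaFiltration P (n + 1)).add_mem hz.2 hw.2

theorem G_neg (P : PosStructure K) {j n : ℕ} {z : K} (hz : z ∈ G P j n) : -z ∈ G P j n := by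
  refine ⟨(gammaFiltration P n).neg_mem hz.1, ?_⟩
  have e : adams P j (-z) - (j : K) ^ n * (-z) = -(adams P j z - (j : K) ^ n * z) := by
    rw [adams_neg]; ring
  rw [e]
  exact (gammaFiltration P (n + 1)).neg_mem hz.2

theorem G_sum (P : PosStructure K) {j n : ℕ} {ι : Type*} (s : Finset ι) (g : ι → K)
    (h : ∀ i ∈ s, g i ∈ G P j n) : ∑ i ∈ s, g i ∈ G P j n := by
  classical
  induction s using Finset.induction_on with
  | empty => simpa using G_zero_mem P j n
  | insert a s ha ih =>
    rw [Finset.sum_insert ha]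
    exact G_add P (h a (Finset.mem_insert_self a s)) (ih fun i hi => h i (Finset.mem_insert_of_mem hi))

theorem G_one (P : PosStructure K) (j : ℕ) : (1 : K) ∈ G P j 0 := by
  refine ⟨one_mem_gammaFiltration_zero P 1, ?_⟩
  rw [adams_one_elt, pow_zero, one_mul, sub_self]
  exact (gammaFiltration P (0 + 1)).zero_mem

theorem gamma_zero (x : K) : gamma 0 x = 1 := by simp [gamma]

theorem gamma_of_zero (k : ℕ) (hk : 1 ≤ k) : gamma k (0 : K) = 0 := by
  unfold gamma
  rw [if_neg (by omega)]
  apply Finset.sum_eq_zero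
  intro i _
  split_ifs with h
  · simp
  · have : LambdaOps.lam i (0 : K) = 0 := by
      rw [← coeff_lamSeries, LambdaSplit.lamSeries_zero, PowerSeries.coeff_one, if_neg h]
    rw [this, mul_zero]

/-- generators: `γ^r(e − ε(e)) ∈ G_r` for `e` positive. -/
theorem gamma_pos_mem_G (P : PosStructure K) (hK : HasSplitting K P) (j : ℕ) (e : K) (he : e ∈ P.pos)
    (r : ℕ) : gamma r (e - ((P.aug e).toNat : K)) ∈ G P j r := by
  rcases Nat.eq_zero_or_pos r with rfl | hr
  · rw [gamma_zero]; exact G_one P j
  · refine ⟨gamma_mem_gammaFiltration P _ ?_ r hr, adams_gamma_pos P hK j e he r⟩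
    have hpos := P.aug_pos e he
    rw [map_sub, map_natCast]
    omega

/-- if all `γ^r(w) ∈ G_r` then all `γ^q(−w) ∈ G_q`. -/
theorem gamma_neg_mem_G (P : PosStructure K) (hK : HasSplitting K P) (j : ℕ) (w : K)
    (hw : ∀ r, gamma r w ∈ G P j r) (q : ℕ) : gamma q (-w) ∈ G P j q := by
  induction q using Nat.strong_induction_on with
  | _ q ih =>
    rcases Nat.eq_zero_or_pos q with rfl | hq
    · rw [gamma_zero]; exact G_one P j
    · have h := gamma_add q w (-w)
      rw [add_neg_cancel, gamma_of_zero q hq, Finset.sum_range_succ', gamma_zero, one_mul,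
        Nat.sub_zero] at h
      have h2 : gamma q (-w) = -∑ i ∈ range q, gamma (i + 1) w * gamma (q - (i + 1)) (-w) := by
        linear_combination -h
      rw [h2]
      apply G_neg
      apply G_sum
      intro i hi
      simp only [Finset.mem_range] at hi
      have := G_mul P hK (hw (i + 1)) (ih (q - (i + 1)) (by omega))
      rwa [show i + 1 + (q - (i + 1)) = q by omega] at this

/-- `γ^r(x) ∈ G_r` for every `x` of augmentation zero. -/
theorem gamma_mem_G (P : PosStructure K) (hK : HasSplitting K P) (j : ℕ) (x : K) (hx : P.aug x = 0)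
    (r : ℕ) : gamma r x ∈ G P j r := by
  obtain ⟨e, e', he, he', rfl⟩ := P.exists_sub x
  have haug : P.aug e = P.aug e' := by
    rw [map_sub] at hx; omega
  have hdec : e - e' = (e - ((P.aug e).toNat : K)) + -(e' - ((P.aug e').toNat : K)) := by
    rw [haug]; ring
  rw [hdec, gamma_add]
  apply G_sum
  intro i hi
  simp only [Finset.mem_range] at hi
  have := G_mul P hK (gamma_pos_mem_G P hK j e he i)
    (gamma_neg_mem_G P hK j _ (gamma_pos_mem_G P hK j e' he') (r - i))
  rwa [show i + (r - i) = r by omega] at this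

theorem list_prod_mem_G (P : PosStructure K) (hK : HasSplitting K P) (j : ℕ) (l : List (ℕ × K))
    (hl : ∀ p ∈ l, P.aug p.2 = 0) :
    (l.map fun p => gamma p.1 p.2).prod ∈ G P j (l.map Prod.fst).sum := by
  induction l with
  | nil => simpa using G_one P j
  | cons p l ih =>
    simp only [List.map_cons, List.prod_cons, List.sum_cons]
    exact G_mul P hK (gamma_mem_G P hK j p.2 (hl p (by simp)) p.1)
      (ih fun q hq => hl q (List.mem_cons_of_mem _ hq))

theorem G_weaken (P : PosStructure K) {j n N : ℕ} (h : n ≤ N) {z : K} (hz : z ∈ G P j N) :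
    adams P j z - (j : K) ^ n * z ∈ gammaFiltration P (n + 1) := by
  rcases Nat.eq_or_lt_of_le h with rfl | hlt
  · exact hz.2
  · have h1 : adams P j z ∈ gammaFiltration P (n + 1) :=
      gammaFiltration_antitone P hlt (adams_mem_of_mem_G P hz)
    have h2 : z ∈ gammaFiltration P (n + 1) := gammaFiltration_antitone P hlt hz.1
    exact (gammaFiltration P (n + 1)).sub_mem h1 (mul_mem_left P _ h2)

/-- `ψ^j(x) − j^n x ∈ F^{n+1}` for `x ∈ F^n`. -/
theorem adams_sub_pow_mul_mem (P : PosStructure K) (hK : HasSplitting K P) (j n : ℕ) (x : K)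
    (hx : x ∈ gammaFiltration P n) :
    adams P j x - (j : K) ^ n * x ∈ gammaFiltration P (n + 1) := by
  have hadd : ∀ z w : K, adams P j z - (j : K) ^ n * z ∈ gammaFiltration P (n + 1) →
      adams P j w - (j : K) ^ n * w ∈ gammaFiltration P (n + 1) →
      adams P j (z + w) - (j : K) ^ n * (z + w) ∈ gammaFiltration P (n + 1) := by
    intro z w hz hw
    have e : adams P j (z + w) - (j : K) ^ n * (z + w) =
        (adams P j z - (j : K) ^ n * z) + (adams P j w - (j : K) ^ n * w) := by
      rw [adams_add]; ring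
    rw [e]
    exact (gammaFiltration P (n + 1)).add_mem hz hw
  have hneg : ∀ z : K, adams P j z - (j : K) ^ n * z ∈ gammaFiltration P (n + 1) →
      adams P j (-z) - (j : K) ^ n * (-z) ∈ gammaFiltration P (n + 1) := by
    intro z hz
    have e : adams P j (-z) - (j : K) ^ n * (-z) = -(adams P j z - (j : K) ^ n * z) := by
      rw [adams_neg]; ring
    rw [e]
    exact (gammaFiltration P (n + 1)).neg_mem hz
  rcases Nat.eq_zero_or_pos n with rfl | hn
  · -- `F^0 = K`
    have hposcase : ∀ e ∈ P.pos, adams P j e - (j : K) ^ 0 * e ∈ gammaFiltration P (0 + 1) := by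
      intro e he
      have h1 := G_weaken P (Nat.zero_le 1) (gamma_pos_mem_G P hK j e he 1)
      rw [gamma_one] at h1
      have h2 : adams P j (((P.aug e).toNat : K)) - (j : K) ^ 0 * ((P.aug e).toNat : K) ∈
          gammaFiltration P (0 + 1) := by
        have : adams P j (((P.aug e).toNat : K)) = ((P.aug e).toNat : K) :=
          map_natCast (adamsRingHom P hK j) _
        rw [this, pow_zero, one_mul, sub_self]
        exact (gammaFiltration P (0 + 1)).zero_mem
      have := hadd _ _ h1 h2
      rwa [sub_add_cancel] at this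
    obtain ⟨e, e', he, he', rfl⟩ := P.exists_sub x
    have hsub : e - e' = e + -e' := sub_eq_add_neg e e'
    rw [hsub]
    exact hadd _ _ (hposcase e he) (hneg _ (hposcase e' he'))
  · have hx' := hx
    unfold gammaFiltration at hx'
    rw [if_neg (by omega)] at hx'
    clear hx
    induction hx' using AddSubgroup.closure_induction with
    | mem y hy =>
      obtain ⟨l, hl, hsum, rfl⟩ := hy
      exact G_weaken P hsum (list_prod_mem_G P hK j l hl)
    | zero =>
      rw [adams_zero_elt, mul_zero, sub_zero]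
      exact (gammaFiltration P (n + 1)).zero_mem
    | add z w _ _ hz hw => exact hadd z w hz hw
    | neg z _ hz => exact hneg z hz

end Groth.Agent.Lib.Helper41.AdamsGamma
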