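import Groth.Agent.Lib.Helper41.AdamsGamma
import Groth.Agent.Lib.Helper41.AmpleNilp
import Groth.Agent.Lib.Helper16.LambdaGamma

/-!
# The determinant `det e = λ^{ε(e)}(e)` and the subgroup of `K` on which it is trivial
-/

set_option autoImplicit false
open Finset

namespace Groth.Agent.Lib.Helper41.DetLine

universe u

open LambdaRing Groth.Agent.Lib.Helper41.LambdaSplit Groth.Agent.Lib.Helper41.AdamsGamma
open Groth.Agent.Lib.Helper16

variable {K : Type u} [CommRing K] [LambdaOps K]

/-- the top exterior power of a (positive) element -/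
noncomputable def det (P : PosStructure K) (e : K) : K := LambdaOps.lam (P.aug e).toNat e

theorem isUnit_det (P : PosStructure K) (e : K) (he : e ∈ P.pos) : IsUnit (det P e) :=
  P.isUnit_lam e he

theorem det_add (P : PosStructure K) (e f : K) (he : e ∈ P.pos) (hf : f ∈ P.pos) :
    det P (e + f) = det P e * det P f := by
  have h1 := P.aug_pos e he
  have h2 := P.aug_pos f hf
  have hsum : (P.aug (e + f)).toNat = (P.aug e).toNat + (P.aug f).toNat := by
    rw [map_add]; omega
  unfold det
  rw [hsum, LambdaOps.lam_add, Finset.sum_eq_single (P.aug e).toNat]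
  · rw [Nat.add_sub_cancel_left]
  · intro i hi hne
    simp only [Finset.mem_range] at hi
    rcases Nat.lt_or_gt_of_ne hne with hlt | hgt
    · rw [P.lam_eq_zero f hf ((P.aug e).toNat + (P.aug f).toNat - i) (by omega), mul_zero]
    · rw [P.lam_eq_zero e he i (by omega), zero_mul]
  · intro h
    simp only [Finset.mem_range] at h
    omega

theorem det_line (P : PosStructure K) (u : K) (hu : P.IsLine u) : det P u = u := by
  unfold det
  rw [hu.2]
  simp [LambdaOps.lam_one]

/-- `x` lies in the kernel of the determinant. -/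
def InH (P : PosStructure K) (x : K) : Prop :=
  ∃ e f, e ∈ P.pos ∧ f ∈ P.pos ∧ x = e - f ∧ det P e = det P f

theorem InH.indep {P : PosStructure K} {x : K} (h : InH P x) {e' f' : K} (he' : e' ∈ P.pos)
    (hf' : f' ∈ P.pos) (hx : x = e' - f') : det P e' = det P f' := by
  obtain ⟨e, f, he, hf, rfl, hd⟩ := h
  have h1 : e + f' = e' + f := by linear_combination hx
  have h2 := congrArg (det P) h1
  rw [det_add P e f' he hf', det_add P e' f he' hf, hd] at h2
  have hu := isUnit_det P f hf
  have : det P f * det P f' = det P f * det P e' := by rw [h2, mul_comm]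
  exact (hu.mul_left_cancel this).symm

theorem InH.zero (P : PosStructure K) : InH P (0 : K) :=
  ⟨1, 1, AmpleNilp.one_mem_pos P, AmpleNilp.one_mem_pos P, by ring, rfl⟩

theorem InH.add {P : PosStructure K} {x y : K} (hx : InH P x) (hy : InH P y) : InH P (x + y) := by
  obtain ⟨e, f, he, hf, rfl, hd⟩ := hx
  obtain ⟨e', f', he', hf', rfl, hd'⟩ := hy
  refine ⟨e + e', f + f', P.add_mem _ _ he he', P.add_mem _ _ hf hf', by ring, ?_⟩
  rw [det_add P _ _ he he', det_add P _ _ hf hf', hd, hd']

theorem InH.neg {P : PosStructure K} {x : K} (hx : InH P x) : InH P (-x) := by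
  obtain ⟨e, f, he, hf, rfl, hd⟩ := hx
  exact ⟨f, e, hf, he, by ring, hd.symm⟩

theorem InH.sub {P : PosStructure K} {x y : K} (hx : InH P x) (hy : InH P y) : InH P (x - y) := by
  rw [sub_eq_add_neg]; exact hx.add hy.neg

theorem InH.multiset_sum {P : PosStructure K} (t : Multiset K) (h : ∀ x ∈ t, InH P x) :
    InH P t.sum := by
  induction t using Multiset.induction_on with
  | empty => simpa using InH.zero P
  | cons a t ih =>
    rw [Multiset.sum_cons]
    exact (h a (Multiset.mem_cons_self a t)).add (ih fun x hx => h x (Multiset.mem_cons_of_mem hx))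

theorem InH.finset_sum {P : PosStructure K} {ι : Type*} (s : Finset ι) (g : ι → K)
    (h : ∀ i ∈ s, InH P (g i)) : InH P (∑ i ∈ s, g i) := by
  classical
  induction s using Finset.induction_on with
  | empty => simpa using InH.zero P
  | insert a s ha ih =>
    rw [Finset.sum_insert ha]
    exact (h a (Finset.mem_insert_self a s)).add (ih fun i hi => h i (Finset.mem_insert_of_mem hi))

/-- Line elements congruent modulo the kernel of `det` are equal. -/
theorem line_eq_of_InH (P : PosStructure K) (u v : K) (hu : P.IsLine u) (hv : P.IsLine v)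
    (h : InH P (u - v)) : u = v := by
  have := h.indep hu.1 hv.1 rfl
  rwa [det_line P u hu, det_line P v hv] at this

/-- `det` of a sum of line elements is their product. -/
theorem det_multiset_sum (P : PosStructure K) (s : Multiset K) (hs : ∀ u ∈ s, P.IsLine u) :
    det P s.sum = s.prod := by
  unfold det
  rw [aug_multiset_sum P s hs, Int.toNat_natCast, ← coeff_lamSeries, lamSeries_multiset_sum' P s hs,
    coeff_card_linProd]

theorem det_map {K' : Type u} [CommRing K'] [LambdaOps K'] {P : PosStructure K} {P' : PosStructure K'}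
    {g : K →+* K'} (hg : IsExtension P P' g) (e : K) : g (det P e) = det P' (g e) := by
  unfold det
  rw [hg.isLambdaHom, hg.aug_comp]

theorem prod_map_mul_left {A : Type*} [CommMonoid A] (a : A) (t : Multiset A) :
    (t.map fun v => a * v).prod = a ^ Multiset.card t * t.prod := by
  induction t using Multiset.induction_on with
  | empty => simp
  | cons b t ih =>
    rw [Multiset.map_cons, Multiset.prod_cons, ih, Multiset.card_cons, Multiset.prod_cons, pow_succ]
    ac_rfl

theorem sum_mul_sum_eq_bind {A : Type*} [CommSemiring A] (s t : Multiset A) :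
    s.sum * t.sum = (s.bind fun u => t.map fun v => u * v).sum := by
  induction s using Multiset.induction_on with
  | empty => simp
  | cons a s ih =>
    rw [Multiset.sum_cons, add_mul, ih, Multiset.cons_bind, Multiset.sum_add, Multiset.sum_map_mul_left,
      Multiset.map_id']

theorem prod_bind_mul {A : Type*} [CommMonoid A] (s t : Multiset A) :
    (s.bind fun u => t.map fun v => u * v).prod =
      s.prod ^ Multiset.card t * t.prod ^ Multiset.card s := by
  induction s using Multiset.induction_on with
  | empty => simp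
  | cons a s ih =>
    rw [Multiset.cons_bind, Multiset.prod_add, ih, prod_map_mul_left, Multiset.prod_cons,
      Multiset.card_cons, mul_pow, pow_succ]
    ac_rfl

theorem card_bind_mul {A : Type*} [Mul A] (s t : Multiset A) :
    Multiset.card (s.bind fun u => t.map fun v => u * v) = Multiset.card s * Multiset.card t := by
  rw [Multiset.card_bind]
  simp

/-- `det (e e') = det(e)^{ε e'} det(e')^{ε e}` for positive `e`, `e'`. -/
theorem det_mul (P : PosStructure K) (hK : HasSplitting K P) (e e' : K) (he : e ∈ P.pos)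
    (he' : e' ∈ P.pos) :
    det P (e * e') = det P e ^ (P.aug e').toNat * det P e' ^ (P.aug e).toNat := by
  obtain ⟨L, g, hg, s, s', hs, hs', hsum, hsum'⟩ := split_two hK e e' he he'
  apply hg.injective
  have hc : (P.aug e).toNat = Multiset.card s := by
    have : P.aug e = (Multiset.card s : ℤ) := by
      rw [← hg.aug_comp, ← hsum]; exact aug_multiset_sum L.posStr s hs
    rw [this]; simp
  have hc' : (P.aug e').toNat = Multiset.card s' := by
    have : P.aug e' = (Multiset.card s' : ℤ) := by
      rw [← hg.aug_comp, ← hsum']; exact aug_multiset_sum L.posStr s' hs'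
    rw [this]; simp
  rw [map_mul, map_pow, map_pow, det_map hg, det_map hg, det_map hg, map_mul, ← hsum, ← hsum',
    det_multiset_sum L.posStr s hs, det_multiset_sum L.posStr s' hs', sum_mul_sum_eq_bind,
    det_multiset_sum L.posStr, prod_bind_mul, hc, hc']
  intro w hw
  obtain ⟨u, hu, hw⟩ := Multiset.mem_bind.mp hw
  obtain ⟨v, hv, rfl⟩ := Multiset.mem_map.mp hw
  exact AmpleNilp.isLine_mul L.posStr u v (hs u hu) (hs' v hv)

/-- products of two elements of augmentation zero lie in the kernel of `det` -/
theorem InH.mul_of_aug_zero (P : PosStructure K) (hK : HasSplitting K P) (x y : K)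
    (hx : P.aug x = 0) (hy : P.aug y = 0) : InH P (x * y) := by
  obtain ⟨e, f, he, hf, rfl⟩ := P.exists_sub x
  obtain ⟨e', f', he', hf', rfl⟩ := P.exists_sub y
  have h1 : P.aug e = P.aug f := by rw [map_sub] at hx; omega
  have h2 : P.aug e' = P.aug f' := by rw [map_sub] at hy; omega
  refine ⟨e * e' + f * f', e * f' + f * e',
    P.add_mem _ _ (P.mul_mem _ _ he he') (P.mul_mem _ _ hf hf'),
    P.add_mem _ _ (P.mul_mem _ _ he hf') (P.mul_mem _ _ hf he'), by ring, ?_⟩
  rw [det_add P _ _ (P.mul_mem _ _ he he') (P.mul_mem _ _ hf hf'),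
    det_add P _ _ (P.mul_mem _ _ he hf') (P.mul_mem _ _ hf he'),
    det_mul P hK e e' he he', det_mul P hK f f' hf hf', det_mul P hK e f' he hf',
    det_mul P hK f e' hf he', h1, h2]
  ring

theorem aug_lam_of_aug_zero (P : PosStructure K) (hK : HasSplitting K P) (x : K) (hx : P.aug x = 0)
    (j : ℕ) (hj : 1 ≤ j) : P.aug (LambdaOps.lam j x) = 0 := by
  obtain ⟨e, f, he, hf, rfl⟩ := P.exists_sub x
  have h1 : P.aug e = P.aug f := by rw [map_sub] at hx; omega
  have h2 : lamSeries e = lamSeries (e - f) * lamSeries f := by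
    rw [← LambdaSplit.lamSeries_add, sub_add_cancel]
  have h3 := congrArg (PowerSeries.map P.aug) h2
  rw [map_mul, map_aug_lamSeries P hK e he, map_aug_lamSeries P hK f hf, h1] at h3
  have hne : ((1 + PowerSeries.X : PowerSeries ℤ) ^ (P.aug f).toNat) ≠ 0 := by
    apply pow_ne_zero
    intro h0
    have := congrArg (PowerSeries.coeff 0) h0
    simp at this
  have h4 : PowerSeries.map P.aug (lamSeries (e - f)) = 1 := by
    have : (1 : PowerSeries ℤ) * (1 + PowerSeries.X) ^ (P.aug f).toNat =
        PowerSeries.map P.aug (lamSeries (e - f)) * (1 + PowerSeries.X) ^ (P.aug f).toNat := by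
      rw [one_mul]; exact h3
    exact (mul_right_cancel₀ hne this).symm
  have h5 := congrArg (PowerSeries.coeff j) h4
  rw [PowerSeries.coeff_map, coeff_lamSeries, PowerSeries.coeff_one, if_neg (by omega)] at h5
  exact h5

theorem aug_gamma_of_aug_zero (P : PosStructure K) (hK : HasSplitting K P) (x : K) (hx : P.aug x = 0)
    (r : ℕ) (hr : 1 ≤ r) : P.aug (gamma r x) = 0 := by
  unfold gamma
  rw [if_neg (by omega), map_sum]
  apply Finset.sum_eq_zero
  intro j _
  split_ifs with h
  · simp
  · rw [map_mul, aug_lam_of_aug_zero P hK x hx j (by omega), mul_zero]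

theorem aug_multiset_prod_zero (P : PosStructure K) (t : Multiset K) (ht : ∀ x ∈ t, P.aug x = 0)
    (hc : 1 ≤ Multiset.card t) : P.aug t.prod = 0 := by
  induction t using Multiset.induction_on with
  | empty => simp at hc
  | cons a t _ =>
    rw [Multiset.prod_cons, map_mul, ht a (Multiset.mem_cons_self a t), zero_mul]

theorem InH.multiset_prod (P : PosStructure K) (hK : HasSplitting K P) (t : Multiset K)
    (ht : ∀ x ∈ t, P.aug x = 0) (hc : 2 ≤ Multiset.card t) : InH P t.prod := by
  induction t using Multiset.induction_on with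
  | empty => simp at hc
  | cons a t _ =>
    rw [Multiset.prod_cons]
    apply InH.mul_of_aug_zero P hK _ _ (ht a (Multiset.mem_cons_self a t))
    apply aug_multiset_prod_zero P t (fun x hx => ht x (Multiset.mem_cons_of_mem hx))
    rw [Multiset.card_cons] at hc
    omega

theorem InH.of_map {K' : Type u} [CommRing K'] [LambdaOps K'] {P : PosStructure K}
    {P' : PosStructure K'} {g : K →+* K'} (hg : IsExtension P P' g) (z : K)
    (h : InH P' (g z)) : InH P z := by
  obtain ⟨p, q, hp, hq, rfl⟩ := P.exists_sub z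
  refine ⟨p, q, hp, hq, rfl, ?_⟩
  apply hg.injective
  rw [det_map hg, det_map hg]
  exact h.indep (hg.pos_subset p hp) (hg.pos_subset q hq) (map_sub g p q)

/-- `γ^r(e − ε(e))` lies in the kernel of `det` for `r ≥ 2`. -/
theorem InH.gamma_pos (P : PosStructure K) (hK : HasSplitting K P) (e : K) (he : e ∈ P.pos) (r : ℕ)
    (hr : 2 ≤ r) : InH P (gamma r (e - ((P.aug e).toNat : K))) := by
  obtain ⟨C, hKC, hC⟩ := hK
  obtain ⟨L', hL', g, hg, s, hs, hsum⟩ := hC ⟨K, P⟩ hKC e he
  have hK' : HasSplitting L'.carrier L'.posStr := ⟨C, hL', hC⟩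
  have hcard : Multiset.card s = (P.aug e).toNat := by
    have h2 : P.aug e = (Multiset.card s : ℤ) := by
      rw [← hg.aug_comp, ← hsum]
      exact aug_multiset_sum L'.posStr s hs
    rw [h2]
    simp
  apply InH.of_map hg
  have hfy : g (e - ((P.aug e).toNat : K)) = s.sum - (Multiset.card s : L'.carrier) := by
    rw [map_sub, map_natCast, hsum, hcard]
  rw [gamma_map g hg.isLambdaHom, hfy, gamma_multiset_sum_sub_card L'.posStr s hs]
  unfold Multiset.esymm
  apply InH.multiset_sum
  intro x hx
  obtain ⟨t, ht, rfl⟩ := Multiset.mem_map.mp hx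
  rw [Multiset.mem_powersetCard] at ht
  apply InH.multiset_prod L'.posStr hK' t
  · intro y hy
    obtain ⟨u, hu, rfl⟩ := Multiset.mem_map.mp (Multiset.mem_of_le ht.1 hy)
    rw [map_sub, (hs u hu).2, map_one, sub_self]
  · omega

theorem aug_sub_natCast (P : PosStructure K) (e : K) (he : e ∈ P.pos) :
    P.aug (e - ((P.aug e).toNat : K)) = 0 := by
  have := P.aug_pos e he
  rw [map_sub, map_natCast]
  omega

/-- `γ^r(−(e − ε(e)))` lies in the kernel of `det` for `r ≥ 2`. -/
theorem InH.gamma_neg_pos (P : PosStructure K) (hK : HasSplitting K P) (e : K) (he : e ∈ P.pos)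
    (r : ℕ) (hr : 2 ≤ r) : InH P (gamma r (-(e - ((P.aug e).toNat : K)))) := by
  set w := e - ((P.aug e).toNat : K) with hw
  have hw0 : P.aug w = 0 := aug_sub_natCast P e he
  have hnw0 : P.aug (-w) = 0 := by rw [map_neg, hw0, neg_zero]
  have h := gamma_add r w (-w)
  rw [add_neg_cancel, gamma_of_zero r (by omega), Finset.sum_range_succ', gamma_zero, one_mul,
    Nat.sub_zero] at h
  have h2 : gamma r (-w) = -∑ i ∈ range r, gamma (i + 1) w * gamma (r - (i + 1)) (-w) := by
    linear_combination -h
  rw [h2]
  apply InH.neg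
  apply InH.finset_sum
  intro i hi
  simp only [Finset.mem_range] at hi
  rcases Nat.lt_or_ge (i + 1) r with hlt | hge
  · exact InH.mul_of_aug_zero P hK _ _ (aug_gamma_of_aug_zero P hK w hw0 (i + 1) (by omega))
      (aug_gamma_of_aug_zero P hK (-w) hnw0 (r - (i + 1)) (by omega))
  · have hir : i + 1 = r := by omega
    rw [hir, Nat.sub_self, gamma_zero, mul_one]
    exact InH.gamma_pos P hK e he r hr

/-- `γ^r(x)` lies in the kernel of `det` for `r ≥ 2`, `ε(x) = 0`. -/
theorem InH.gamma (P : PosStructure K) (hK : HasSplitting K P) (x : K) (hx : P.aug x = 0) (r : ℕ)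
    (hr : 2 ≤ r) : InH P (gamma r x) := by
  obtain ⟨e, e', he, he', rfl⟩ := P.exists_sub x
  have haug : P.aug e = P.aug e' := by
    rw [map_sub] at hx; omega
  have hdec : e - e' = (e - ((P.aug e).toNat : K)) + -(e' - ((P.aug e').toNat : K)) := by
    rw [haug]; ring
  rw [hdec, gamma_add]
  have h0 := aug_sub_natCast P e he
  have h0' : P.aug (-(e' - ((P.aug e').toNat : K))) = 0 := by
    rw [map_neg, aug_sub_natCast P e' he', neg_zero]
  apply InH.finset_sum
  intro i hi
  simp only [Finset.mem_range] at hi
  rcases Nat.eq_zero_or_pos i with rfl | hipos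
  · rw [gamma_zero, one_mul, Nat.sub_zero]
    exact InH.gamma_neg_pos P hK e' he' r hr
  · rcases Nat.lt_or_ge i r with hlt | hge
    · exact InH.mul_of_aug_zero P hK _ _ (aug_gamma_of_aug_zero P hK _ h0 i hipos)
        (aug_gamma_of_aug_zero P hK _ h0' (r - i) (by omega))
    · have hir : i = r := by omega
      rw [hir, Nat.sub_self, gamma_zero, mul_one]
      exact InH.gamma_pos P hK e he r hr

/-- structure of the generators of the γ-filtration -/
theorem list_prod_props (P : PosStructure K) (hK : HasSplitting K P) (l : List (ℕ × K))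
    (hl : ∀ p ∈ l, P.aug p.2 = 0) :
    ((l.map Prod.fst).sum = 0 → (l.map fun p => gamma p.1 p.2).prod = 1) ∧
    (1 ≤ (l.map Prod.fst).sum → P.aug (l.map fun p => gamma p.1 p.2).prod = 0) ∧
    (2 ≤ (l.map Prod.fst).sum → InH P (l.map fun p => gamma p.1 p.2).prod) := by
  induction l with
  | nil => simp
  | cons p l ih =>
    obtain ⟨ih1, ih2, ih3⟩ := ih fun q hq => hl q (List.mem_cons_of_mem _ hq)
    have hp := hl p (by simp)
    simp only [List.map_cons, List.prod_cons, List.sum_cons]
    rcases Nat.eq_zero_or_pos p.1 with h0 | hpos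
    · rw [h0, gamma_zero, one_mul, zero_add]
      exact ⟨ih1, ih2, ih3⟩
    · have hg0 := aug_gamma_of_aug_zero P hK p.2 hp p.1 hpos
      refine ⟨fun h => by omega, fun _ => by rw [map_mul, hg0, zero_mul], fun h2 => ?_⟩
      rcases Nat.eq_zero_or_pos (l.map Prod.fst).sum with hs0 | hspos
      · rw [ih1 hs0, mul_one]
        exact InH.gamma P hK p.2 hp p.1 (by omega)
      · exact InH.mul_of_aug_zero P hK _ _ hg0 (ih2 hspos)

theorem aug_eq_zero_of_mem_gammaFiltration_one (P : PosStructure K) (hK : HasSplitting K P) (x : K)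
    (hx : x ∈ gammaFiltration P 1) : P.aug x = 0 := by
  unfold gammaFiltration at hx
  rw [if_neg one_ne_zero] at hx
  induction hx using AddSubgroup.closure_induction with
  | mem y hy =>
    obtain ⟨l, hl, hsum, rfl⟩ := hy
    exact (list_prod_props P hK l hl).2.1 hsum
  | zero => simp
  | add a b _ _ ha hb => rw [map_add, ha, hb, add_zero]
  | neg a _ ha => rw [map_neg, ha, neg_zero]

theorem InH.of_mem_gammaFiltration_two (P : PosStructure K) (hK : HasSplitting K P) (x : K)
    (hx : x ∈ gammaFiltration P 2) : InH P x := by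
  unfold gammaFiltration at hx
  rw [if_neg (by norm_num)] at hx
  induction hx using AddSubgroup.closure_induction with
  | mem y hy =>
    obtain ⟨l, hl, hsum, rfl⟩ := hy
    exact (list_prod_props P hK l hl).2.2 hsum
  | zero => exact InH.zero P
  | add a b _ _ ha hb => exact ha.add hb
  | neg a _ ha => exact ha.neg

/-- `det e = Σ_{i ≤ m} γ^i(e − m)`, `m = ε(e)`. -/
theorem det_eq_sum_gamma (P : PosStructure K) (e : K) (he : e ∈ P.pos) :
    det P e = ∑ i ∈ range ((P.aug e).toNat + 1), gamma i (e - ((P.aug e).toNat : K)) := by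
  have hpos := P.aug_pos e he
  have h := gamma_sub_aug_identity P e (P.aug e).toNat
    (fun i hi => P.lam_eq_zero e he i (by omega))
  have h1 := congrArg (Polynomial.eval 1) h
  simp only [Polynomial.eval_finsetSum, Polynomial.eval_mul, Polynomial.eval_C, Polynomial.eval_pow,
    Polynomial.eval_X, one_pow, mul_one, Polynomial.eval_sub, Polynomial.eval_one, sub_self] at h1
  rw [h1, Finset.sum_eq_single (P.aug e).toNat]
  · simp [det]
  · intro i hi hne
    simp only [Finset.mem_range] at hi
    rw [zero_pow (by omega), mul_zero]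
  · intro h; simp at h

theorem det_sub_one_sub_mem (P : PosStructure K) (e : K) (he : e ∈ P.pos) :
    det P e - 1 - (e - ((P.aug e).toNat : K)) ∈ gammaFiltration P 2 := by
  have hpos := P.aug_pos e he
  have hm : 1 ≤ (P.aug e).toNat := by omega
  obtain ⟨m, hm'⟩ : ∃ m, (P.aug e).toNat = m + 1 := ⟨(P.aug e).toNat - 1, by omega⟩
  rw [det_eq_sum_gamma P e he, hm', Finset.sum_range_succ', Finset.sum_range_succ', gamma_zero,
    gamma_one]
  have : ∑ k ∈ range m, gamma (k + 1 + 1) (e - ((m + 1 : ℕ) : K)) + (e - ((m + 1 : ℕ) : K)) + 1 - 1 -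
      (e - ((m + 1 : ℕ) : K)) = ∑ k ∈ range m, gamma (k + 1 + 1) (e - ((m + 1 : ℕ) : K)) := by ring
  rw [this]
  apply AddSubgroup.sum_mem
  intro k _
  have h0 : P.aug (e - ((m + 1 : ℕ) : K)) = 0 := by
    have := aug_sub_natCast P e he
    rwa [hm'] at this
  exact gammaFiltration_antitone P (by omega) (gamma_mem_gammaFiltration P _ h0 (k + 1 + 1) (by omega))

theorem isLine_det (P : PosStructure K) (hK : HasSplitting K P)
    (hdet : ∀ e : K, e ∈ P.pos → LambdaOps.lam (P.aug e).toNat e ∈ P.pos) (e : K) (he : e ∈ P.pos) :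
    P.IsLine (det P e) := by
  refine ⟨hdet e he, ?_⟩
  unfold det
  rw [aug_lam_eq_choose P hK e he, Nat.choose_self]
  simp

theorem mem_one_of_aug_zero (P : PosStructure K) (x : K) (hx : P.aug x = 0) :
    x ∈ gammaFiltration P 1 := by
  have := gamma_mem_gammaFiltration P x hx 1 le_rfl
  rwa [gamma_one] at this

/-- Surjectivity of `L → Gr^1`. -/
theorem exists_line_congr (P : PosStructure K) (hK : HasSplitting K P)
    (hLinv : ∀ w : K, P.IsLine w → ∃ w' : K, P.IsLine w' ∧ w * w' = 1)
    (hdet : ∀ e : K, e ∈ P.pos → LambdaOps.lam (P.aug e).toNat e ∈ P.pos)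
    (x : K) (hx : x ∈ gammaFiltration P 1) :
    ∃ u : K, P.IsLine u ∧ x - (u - 1) ∈ gammaFiltration P 2 := by
  have hx0 := aug_eq_zero_of_mem_gammaFiltration_one P hK x hx
  obtain ⟨e, f, he, hf, rfl⟩ := P.exists_sub x
  have haug : P.aug e = P.aug f := by rw [map_sub] at hx0; omega
  have hD := isLine_det P hK hdet e he
  have hD' := isLine_det P hK hdet f hf
  obtain ⟨w', hw', hinv⟩ := hLinv _ hD'
  refine ⟨det P e * w', AmpleNilp.isLine_mul P _ _ hD hw', ?_⟩
  have h1 := det_sub_one_sub_mem P e he
  have h2 := det_sub_one_sub_mem P f hf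
  have h3 : (det P e - det P f) * (w' - 1) ∈ gammaFiltration P (1 + 1) := by
    apply mul_mem P
    · apply mem_one_of_aug_zero
      rw [map_sub, hD.2, hD'.2, sub_self]
    · apply mem_one_of_aug_zero
      rw [map_sub, hw'.2, map_one, sub_self]
  have e1 : e - f - (det P e * w' - 1) =
      -(det P e - 1 - (e - ((P.aug e).toNat : K))) + (det P f - 1 - (f - ((P.aug f).toNat : K)))
        - (det P e - det P f) * (w' - 1) + (1 - det P f * w') := by
    rw [haug]; ring
  rw [e1, hinv, sub_self, add_zero]
  exact (gammaFiltration P 2).sub_mem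
    ((gammaFiltration P 2).add_mem ((gammaFiltration P 2).neg_mem h1) h2) h3

end Groth.Agent.Lib.Helper41.DetLine
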