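import Groth.Prelude.Def_QuadGrp
import Mathlib.LinearAlgebra.Matrix.SesquilinearForm
import Mathlib.LinearAlgebra.Matrix.Determinant.Basic
import Mathlib.Algebra.MvPolynomial.Eval
import Mathlib.RingTheory.Ideal.Quotient.Operations
import Mathlib.RingTheory.Ideal.Span
import Mathlib.Tactic

/-!
# The universal half-discriminant (helper41)

* `two_mul_halfDiscUniv`: for odd `n`, `2 * halfDiscUniv n = discUniv n`.
* `cW W`: coefficient function `Sym2 (Fin n) → S` of the quadratic form with (non-symmetric) Gram matrix `W`.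
* `evalDisc_cW`: the universal discriminant evaluated at `cW W` is `det (W + Wᵀ)`.
* `evalHalf_conj`: for odd `n`, the universal half-discriminant at `cW (Gᵀ W G)` is `det G ^ 2` times that at `cW W`.
* `coeffs_eq_cW`: `coeffs b refl Q = cW (toMatrix₂ b b B)` for a bilinear lift `B` of `Q`.
-/

set_option autoImplicit false

namespace Groth.Agent.Lib.Helper41.HalfDisc

open QuadGrp MvPolynomial Matrix

section Univ

variable (n : ℕ)

/-- The skew-symmetric companion of the universal polar matrix. -/
noncomputable def skewMat : Matrix (Fin n) (Fin n) (MvPolynomial (Sym2 (Fin n)) ℤ) :=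
  Matrix.of fun i j => if i < j then X (Sym2.mk i j) else if j < i then - X (Sym2.mk i j) else 0

lemma skewMat_transpose : (skewMat n)ᵀ = - skewMat n := by
  ext i j
  simp only [skewMat, transpose_apply, of_apply, Matrix.neg_apply]
  rcases lt_trichotomy i j with h | h | h
  · have h' : ¬ j < i := not_lt.mpr h.le
    simp [h, h', Sym2.eq_swap]
  · subst h; simp
  · have h' : ¬ i < j := not_lt.mpr h.le
    simp [h, h', Sym2.eq_swap]

lemma det_skewMat (hn : Odd n) : (skewMat n).det = 0 := by
  have h1 : (skewMat n).det = - (skewMat n).det := by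
    conv_lhs => rw [← det_transpose, skewMat_transpose, det_neg, Fintype.card_fin, hn.neg_one_pow]
    ring
  exact self_eq_neg.mp h1

lemma two_dvd_discUniv (hn : Odd n) : (2 : MvPolynomial (Sym2 (Fin n)) ℤ) ∣ discUniv n := by
  rw [← Ideal.mem_span_singleton, ← Ideal.Quotient.eq_zero_iff_mem, discUniv, RingHom.map_det]
  have : (Ideal.Quotient.mk (Ideal.span {(2 : MvPolynomial (Sym2 (Fin n)) ℤ)})).mapMatrix (univPolarMat n) =
      (Ideal.Quotient.mk (Ideal.span {(2 : MvPolynomial (Sym2 (Fin n)) ℤ)})).mapMatrix (skewMat n) := by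
    ext i j
    simp only [RingHom.mapMatrix_apply, map_apply]
    rw [Ideal.Quotient.eq, Ideal.mem_span_singleton]
    simp only [univPolarMat, skewMat, of_apply]
    rcases lt_trichotomy i j with h | h | h
    · simp [h, h.ne]
    · subst h; simp
    · have h' : ¬ i < j := not_lt.mpr h.le
      simp only [h.ne', h, h', if_false, if_true, sub_neg_eq_add]
      exact ⟨X (Sym2.mk i j), by ring⟩
  rw [this, ← RingHom.map_det, det_skewMat n hn, map_zero]

theorem two_mul_halfDiscUniv (hn : Odd n) : 2 * halfDiscUniv n = discUniv n := by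
  obtain ⟨q, hq⟩ := two_dvd_discUniv n hn
  have : halfDiscUniv n = q := by
    ext s
    rw [coeff_halfDiscUniv, hq, two_mul, coeff_add]
    omega
  rw [this, hq]

end Univ

section Gram

variable {n : ℕ} {S : Type*} [CommRing S]

/-- Coefficients of the quadratic form `x ↦ xᵀ W x`. -/
def cW (W : Matrix (Fin n) (Fin n) S) : Sym2 (Fin n) → S :=
  Sym2.lift ⟨fun i j => if i = j then W i i else W i j + W j i, fun i j => by
    by_cases h : i = j
    · subst h; rfl
    · simp only [h, Ne.symm h, if_false, add_comm]⟩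

lemma cW_mk (W : Matrix (Fin n) (Fin n) S) (i j : Fin n) :
    cW W (Sym2.mk i j) = if i = j then W i i else W i j + W j i := rfl

lemma cW_map {S' : Type*} [CommRing S'] (φ : S →+* S') (W : Matrix (Fin n) (Fin n) S) :
    cW (W.map φ) = φ ∘ cW W := by
  ext p
  induction p using Sym2.ind with
  | _ i j =>
    simp only [cW_mk, Function.comp_apply, map_apply]
    split_ifs <;> simp

/-- The universal discriminant at `cW W`. -/
lemma evalDisc_cW (W : Matrix (Fin n) (Fin n) S) :
    eval₂ (Int.castRingHom S) (cW W) (discUniv n) = (W + Wᵀ).det := by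
  rw [← coe_eval₂Hom, discUniv, RingHom.map_det]
  congr 1
  ext i j
  simp only [RingHom.mapMatrix_apply, map_apply, univPolarMat, of_apply, Matrix.add_apply, transpose_apply]
  by_cases h : i = j
  · subst h
    simp [cW_mk, two_mul]
  · simp [h, cW_mk]

/-- The universal half-discriminant at `cW W`. -/
noncomputable def evalHalf (W : Matrix (Fin n) (Fin n) S) : S :=
  eval₂ (Int.castRingHom S) (cW W) (halfDiscUniv n)

lemma evalHalf_map {S' : Type*} [CommRing S'] (φ : S →+* S') (W : Matrix (Fin n) (Fin n) S) :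
    evalHalf (W.map φ) = φ (evalHalf W) := by
  rw [evalHalf, evalHalf, eval₂_comp_left φ, cW_map]
  congr 1
  exact (RingHom.ext_int _ _)

lemma two_mul_evalHalf (hn : Odd n) (W : Matrix (Fin n) (Fin n) S) :
    2 * evalHalf W = (W + Wᵀ).det := by
  rw [← evalDisc_cW, ← two_mul_halfDiscUniv n hn, evalHalf, eval₂_mul]
  congr 1
  rw [← coe_eval₂Hom, map_ofNat]

lemma evalHalf_conj_of_domain [IsDomain S] [CharZero S] (hn : Odd n) (W G : Matrix (Fin n) (Fin n) S) :
    evalHalf (Gᵀ * W * G) = G.det ^ 2 * evalHalf W := by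
  have h2 : (2 : S) ≠ 0 := two_ne_zero
  apply mul_left_cancel₀ h2
  rw [two_mul_evalHalf hn, mul_left_comm, two_mul_evalHalf hn]
  have : Gᵀ * W * G + (Gᵀ * W * G)ᵀ = Gᵀ * (W + Wᵀ) * G := by
    simp only [transpose_mul, transpose_transpose, Matrix.mul_add, Matrix.add_mul, Matrix.mul_assoc]
  rw [this, det_mul, det_mul, det_transpose]
  ring

/-- For odd `n`: the half-discriminant of `Gᵀ W G` is `det G ^ 2` times that of `W`, over any commutative ring. -/
theorem evalHalf_conj (hn : Odd n) (W G : Matrix (Fin n) (Fin n) S) :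
    evalHalf (Gᵀ * W * G) = G.det ^ 2 * evalHalf W := by
  classical
  let U := MvPolynomial ((Fin n × Fin n) ⊕ (Fin n × Fin n)) ℤ
  let WU : Matrix (Fin n) (Fin n) U := Matrix.of fun i j => X (Sum.inl (i, j))
  let GU : Matrix (Fin n) (Fin n) U := Matrix.of fun i j => X (Sum.inr (i, j))
  let φ : U →+* S := eval₂Hom (Int.castRingHom S) (Sum.elim (fun p => W p.1 p.2) (fun p => G p.1 p.2))
  have hW : WU.map φ = W := by
    ext i j
    exact eval₂Hom_X' (Int.castRingHom S) (Sum.elim (fun p : Fin n × Fin n => W p.1 p.2) (fun p : Fin n × Fin n => G p.1 p.2)) (Sum.inl (i, j))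
  have hG : GU.map φ = G := by
    ext i j
    exact eval₂Hom_X' (Int.castRingHom S) (Sum.elim (fun p : Fin n × Fin n => W p.1 p.2) (fun p : Fin n × Fin n => G p.1 p.2)) (Sum.inr (i, j))
  have key := evalHalf_conj_of_domain hn WU GU
  have := congrArg φ key
  rw [← evalHalf_map, map_mul, map_pow, ← evalHalf_map, RingHom.map_det, RingHom.mapMatrix_apply,
    Matrix.map_mul, Matrix.map_mul, transpose_map, hW, hG] at this
  exact this

end Gram

section Module

variable {R : Type*} [CommRing R] {M : Type*} [AddCommGroup M] [Module R M] {n : ℕ}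

lemma coeffs_eq_cW (b : Module.Basis (Fin n) R M) (Q : QuadraticForm R M) (B : LinearMap.BilinMap R M R)
    (hB : B.toQuadraticMap = Q) :
    coeffs b (LinearEquiv.refl R R) Q = cW (LinearMap.toMatrix₂ b b B) := by
  ext p
  induction p using Sym2.ind with
  | _ i j =>
    rw [coeffs_mk, cW_mk]
    simp only [LinearEquiv.refl_apply, LinearMap.toMatrix₂_apply]
    rw [← hB, LinearMap.BilinMap.polar_toQuadraticMap, LinearMap.BilinMap.toQuadraticMap_apply]

lemma halfDisc_eq_evalHalf (b : Module.Basis (Fin n) R M) (Q : QuadraticForm R M) (B : LinearMap.BilinMap R M R)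
    (hB : B.toQuadraticMap = Q) :
    halfDisc b (LinearEquiv.refl R R) Q = evalHalf (LinearMap.toMatrix₂ b b B) := by
  rw [halfDisc, coeffs_eq_cW b Q B hB, evalHalf]

theorem halfDisc_comp (hn : Odd n) (b : Module.Basis (Fin n) R M) (Q : QuadraticForm R M) (g : M →ₗ[R] M) :
    halfDisc b (LinearEquiv.refl R R) (Q.comp g) =
      LinearMap.det g ^ 2 * halfDisc b (LinearEquiv.refl R R) Q := by
  classical
  have hB := QuadraticMap.toQuadraticMap_toBilin Q b
  have hB' : LinearMap.BilinMap.toQuadraticMap ((Q.toBilin b).compl₁₂ g g) = Q.comp g := by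
    ext x
    rw [LinearMap.BilinMap.toQuadraticMap_apply, LinearMap.compl₁₂_apply,
      ← LinearMap.BilinMap.toQuadraticMap_apply, hB, QuadraticMap.comp_apply]
  rw [halfDisc_eq_evalHalf b _ _ hB', halfDisc_eq_evalHalf b _ _ hB,
    LinearMap.toMatrix₂_compl₁₂ b b, evalHalf_conj hn, LinearMap.det_toMatrix]

end Module

end Groth.Agent.Lib.Helper41.HalfDisc
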