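import Mathlib
import Groth.Agent.Lib.Helper41.HalfDisc

/-!
# The half-discriminant in an adapted basis (helper41)

If the first basis vector is in the kernel of the polar form, the half-discriminant is
`Q (b 0)` times the discriminant of the polar form on the remaining basis vectors.
-/

set_option autoImplicit false

namespace Groth.Agent.Lib.Helper41.HalfDisc

open QuadGrp MvPolynomial Matrix

section Adapted

variable {k : ℕ} {S : Type*} [CommRing S]

lemma det_of_first_row_col (A : Matrix (Fin (k + 1)) (Fin (k + 1)) S)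
    (h : ∀ j : Fin k, A 0 j.succ = 0) :
    A.det = A 0 0 * (A.submatrix Fin.succ Fin.succ).det := by
  rw [Matrix.det_succ_row_zero, Fin.sum_univ_succ]
  have : ∑ i : Fin k, (-1 : S) ^ (i.succ : ℕ) * A 0 i.succ *
      (A.submatrix Fin.succ (Fin.succAbove i.succ)).det = 0 := by
    apply Finset.sum_eq_zero
    intro i _
    rw [h i]; ring
  rw [this]
  simp

lemma evalHalf_adapted_of_domain [IsDomain S] [CharZero S] (hn : Odd (k + 1))
    (W : Matrix (Fin (k + 1)) (Fin (k + 1)) S) (h : ∀ j : Fin k, W 0 j.succ + W j.succ 0 = 0) :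
    evalHalf W = W 0 0 * ((W + Wᵀ).submatrix Fin.succ Fin.succ).det := by
  have h2 : (2 : S) ≠ 0 := two_ne_zero
  apply mul_left_cancel₀ h2
  rw [two_mul_evalHalf hn, det_of_first_row_col (W + Wᵀ)]
  · simp only [Matrix.add_apply, Matrix.transpose_apply]
    ring
  · intro j
    simp only [Matrix.add_apply, Matrix.transpose_apply]
    exact h j

theorem evalHalf_adapted (hn : Odd (k + 1))
    (W : Matrix (Fin (k + 1)) (Fin (k + 1)) S) (h : ∀ j : Fin k, W 0 j.succ + W j.succ 0 = 0) :
    evalHalf W = W 0 0 * ((W + Wᵀ).submatrix Fin.succ Fin.succ).det := by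
  classical
  let U := MvPolynomial (Fin (k + 1) × Fin (k + 1)) ℤ
  let WU : Matrix (Fin (k + 1)) (Fin (k + 1)) U :=
    Matrix.of fun i j => if i = 0 ∧ j ≠ 0 then - X (j, 0) else X (i, j)
  let φ : U →+* S := eval₂Hom (Int.castRingHom S) (fun p => W p.1 p.2)
  have hφX : ∀ p : Fin (k + 1) × Fin (k + 1), φ (X p) = W p.1 p.2 := fun p =>
    eval₂Hom_X' (Int.castRingHom S) (fun p : Fin (k + 1) × Fin (k + 1) => W p.1 p.2) p
  have hW : WU.map φ = W := by
    ext i j
    simp only [Matrix.map_apply, WU, Matrix.of_apply]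
    split_ifs with hij
    · obtain ⟨rfl, hj⟩ := hij
      obtain ⟨j', rfl⟩ := Fin.exists_succ_eq.mpr hj
      rw [map_neg, hφX]
      have := h j'
      exact (eq_neg_of_add_eq_zero_left this).symm
    · rw [hφX]
  have hWU : ∀ j : Fin k, WU 0 j.succ + WU j.succ 0 = 0 := by
    intro j
    simp only [WU, Matrix.of_apply]
    simp [Fin.succ_ne_zero]
  have key := evalHalf_adapted_of_domain hn WU hWU
  have := congrArg φ key
  rw [← evalHalf_map, hW, map_mul, RingHom.map_det] at this
  rw [this]
  congr 1
  · have := congrFun (congrFun hW 0) 0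
    simpa using this
  · congr 1
    ext i j
    simp only [RingHom.mapMatrix_apply, Matrix.map_apply, Matrix.submatrix_apply, Matrix.add_apply,
      Matrix.transpose_apply, map_add]
    have h1 := congrFun (congrFun hW i.succ) j.succ
    have h2 := congrFun (congrFun hW j.succ) i.succ
    simp only [Matrix.map_apply] at h1 h2
    rw [h1, h2]

end Adapted

section Module

variable {R : Type*} [CommRing R] {M : Type*} [AddCommGroup M] [Module R M]

theorem halfDisc_of_adapted {k : ℕ} (hn : Odd (k + 1)) (b : Module.Basis (Fin (k + 1)) R M)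
    (Q : QuadraticForm R M) (h : ∀ j : Fin k, QuadraticMap.polar Q (b 0) (b j.succ) = 0) :
    halfDisc b (LinearEquiv.refl R R) Q =
      Q (b 0) * (Matrix.of fun i j : Fin k => QuadraticMap.polar Q (b i.succ) (b j.succ)).det := by
  classical
  have hB := QuadraticMap.toQuadraticMap_toBilin Q b
  have hpol : ∀ x y, QuadraticMap.polar Q x y = Q.toBilin b x y + Q.toBilin b y x := by
    intro x y
    rw [← LinearMap.BilinMap.polar_toQuadraticMap, hB]
  rw [halfDisc_eq_evalHalf b Q _ hB, evalHalf_adapted hn]
  · congr 1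
    · rw [LinearMap.toMatrix₂_apply, ← LinearMap.BilinMap.toQuadraticMap_apply, hB]
    · congr 1
      ext i j
      simp only [Matrix.submatrix_apply, Matrix.add_apply, Matrix.transpose_apply,
        LinearMap.toMatrix₂_apply, Matrix.of_apply]
      rw [hpol]
  · intro j
    rw [LinearMap.toMatrix₂_apply, LinearMap.toMatrix₂_apply, ← hpol]
    exact h j

theorem halfDisc_basis_change {n : ℕ} (hn : Odd n) (b b' : Module.Basis (Fin n) R M)
    (Q : QuadraticForm R M) :
    halfDisc b' (LinearEquiv.refl R R) Q =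
      LinearMap.det ((b.equiv b' (Equiv.refl _) : M ≃ₗ[R] M) : M →ₗ[R] M) ^ 2 *
        halfDisc b (LinearEquiv.refl R R) Q := by
  rw [← halfDisc_comp hn]
  unfold halfDisc
  congr 1
  ext p
  induction p using Sym2.ind with
  | _ i j =>
    rw [coeffs_mk, coeffs_mk]
    have hg : ∀ i, ((b.equiv b' (Equiv.refl _) : M ≃ₗ[R] M) : M →ₗ[R] M) (b i) = b' i := by
      intro i
      simp
    simp only [LinearEquiv.refl_apply, QuadraticMap.comp_apply, QuadraticMap.polar, map_add, hg]

theorem isUnit_halfDisc_iff_of_basis {n : ℕ} (hn : Odd n) (b b' : Module.Basis (Fin n) R M)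
    (Q : QuadraticForm R M) :
    IsUnit (halfDisc b' (LinearEquiv.refl R R) Q) ↔ IsUnit (halfDisc b (LinearEquiv.refl R R) Q) := by
  rw [halfDisc_basis_change hn b b' Q, IsUnit.mul_iff]
  constructor
  · exact fun h => h.2
  · exact fun h => ⟨(LinearEquiv.isUnit_det' _).pow 2, h⟩

end Module

end Groth.Agent.Lib.Helper41.HalfDisc
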