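import Mathlib
import Groth.Agent.Lib.Helper41.HalfDiscAdapted

/-!
# The half-discriminant over a field detects nondegeneracy (helper41)
-/

set_option autoImplicit false

namespace Groth.Agent.Lib.Helper41.HalfDisc

open QuadGrp Matrix

section BasisFirst

variable {K : Type*} [Field K] {V : Type*} [AddCommGroup V] [Module K V]

/-- A nonzero vector of a vector space of dimension `n + 1` is the first vector of a basis. -/
theorem exists_basis_zero_eq {n : ℕ} (c : Module.Basis (Fin (n + 1)) K V) (v : V) (hv : v ≠ 0) :
    ∃ c' : Module.Basis (Fin (n + 1)) K V, c' 0 = v := by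
  classical
  have : Module.Finite K V := Module.Finite.of_basis c
  have hli : LinearIndepOn K id ({v} : Set V) := by
    rw [linearIndepOn_singleton_iff]
    exact hv
  let B := Module.Basis.extend hli
  have hvmem : v ∈ hli.extend (Set.subset_univ _) :=
    hli.subset_extend (Set.subset_univ _) (Set.mem_singleton v)
  have : Fintype (hli.extend (Set.subset_univ ({v} : Set V))) := FiniteDimensional.fintypeBasisIndex B
  have hcard : Fintype.card (hli.extend (Set.subset_univ ({v} : Set V))) = n + 1 := by
    rw [← Module.finrank_eq_card_basis B, Module.finrank_eq_card_basis c, Fintype.card_fin]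
  let e₀ : hli.extend (Set.subset_univ ({v} : Set V)) ≃ Fin (n + 1) := Fintype.equivFinOfCardEq hcard
  let e := e₀.trans (Equiv.swap (e₀ ⟨v, hvmem⟩) 0)
  refine ⟨B.reindex e, ?_⟩
  rw [Module.Basis.reindex_apply]
  have : e.symm 0 = ⟨v, hvmem⟩ := by
    rw [Equiv.symm_apply_eq]
    simp [e]
  rw [this]
  exact Module.Basis.extend_apply_self hli _

end BasisFirst

section Ring

variable {R : Type*} [CommRing R] {M : Type*} [AddCommGroup M] [Module R M]

/-- Twice the half-discriminant is the determinant of the polar matrix. -/
theorem two_mul_halfDisc {n : ℕ} (hn : Odd n) (c : Module.Basis (Fin n) R M)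
    (q : QuadraticForm R M) :
    2 * halfDisc c (LinearEquiv.refl R R) q =
      (LinearMap.BilinForm.toMatrix c (QuadraticMap.polarBilin q)).det := by
  classical
  have hB := QuadraticMap.toQuadraticMap_toBilin q c
  rw [halfDisc_eq_evalHalf c q _ hB, two_mul_evalHalf hn]
  congr 1
  ext i j
  simp only [Matrix.add_apply, Matrix.transpose_apply, LinearMap.toMatrix₂_apply,
    LinearMap.BilinForm.toMatrix_apply, QuadraticMap.polarBilin_apply_apply]
  rw [← LinearMap.BilinMap.polar_toQuadraticMap, hB]

/-- In a basis whose first vector is in the kernel of the polar form, the polar form against the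
other basis vectors is computed by the reduced polar matrix. -/
lemma polar_succ_eq_vecMul {k : ℕ} (c : Module.Basis (Fin (k + 1)) R M) (q : QuadraticForm R M)
    (h0 : QuadraticMap.polarBilin q (c 0) = 0) (x : M) (j : Fin k) :
    QuadraticMap.polar q x (c j.succ) =
      Matrix.vecMul (fun i : Fin k => c.repr x i.succ)
        (Matrix.of fun i j : Fin k => QuadraticMap.polar q (c i.succ) (c j.succ)) j := by
  conv_lhs => rw [← c.sum_repr x]
  rw [← QuadraticMap.polarBilin_apply_apply, map_sum, LinearMap.sum_apply, Fin.sum_univ_succ]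
  simp only [map_smul, LinearMap.smul_apply, h0, LinearMap.zero_apply, smul_zero, zero_add,
    QuadraticMap.polarBilin_apply_apply, smul_eq_mul, Matrix.vecMul, dotProduct, Matrix.of_apply]

end Ring

section Field

variable {K : Type*} [Field K] {V : Type*} [AddCommGroup V] [Module K V]

/-- Over a field in which `2 ≠ 0`. -/
theorem halfDisc_ne_zero_iff_of_two_ne_zero {n : ℕ} (hn : Odd n) (c : Module.Basis (Fin n) K V)
    (q : QuadraticForm K V) (h2 : (2 : K) ≠ 0) :
    halfDisc c (LinearEquiv.refl K K) q ≠ 0 ↔ q.Nondegenerate := by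
  classical
  haveI : Invertible (2 : K) := invertibleOfNonzero h2
  have h1 : (QuadraticMap.polarBilin q).Nondegenerate ↔
      (LinearMap.BilinForm.toMatrix c (QuadraticMap.polarBilin q)).det ≠ 0 :=
    LinearMap.BilinForm.nondegenerate_iff_det_ne_zero (B := QuadraticMap.polarBilin q) c
  rw [← QuadraticMap.nondegenerate_polar_iff, h1, ← two_mul_halfDisc hn]
  simp [h2]

/-- Adapted basis criterion. -/
theorem nondegenerate_iff_of_adapted {k : ℕ} (c : Module.Basis (Fin (k + 1)) K V)
    (q : QuadraticForm K V) (h0 : QuadraticMap.polarBilin q (c 0) = 0) :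
    q.Nondegenerate ↔ q (c 0) ≠ 0 ∧
      (Matrix.of fun i j : Fin k => QuadraticMap.polar q (c i.succ) (c j.succ)).det ≠ 0 := by
  classical
  have : Module.Finite K V := Module.Finite.of_basis c
  have hc0 : c 0 ≠ 0 := c.ne_zero 0
  have hrepr0 : ∀ i : Fin k, c.repr (c 0) i.succ = 0 := by
    intro i
    rw [Module.Basis.repr_self, Finsupp.single_apply, if_neg (Fin.succ_ne_zero i).symm]
  constructor
  · intro hnd
    refine ⟨?_, ?_⟩
    · intro hq
      have hmem : c 0 ∈ q.radical := ⟨hq, h0⟩
      rw [hnd.radical_eq_bot, Submodule.mem_bot] at hmem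
      exact hc0 hmem
    · intro hdet
      obtain ⟨y'', hy'', hy''0⟩ := Matrix.exists_vecMul_eq_zero_iff.mpr hdet
      let y : V := c.equivFun.symm (Fin.cons 0 y'')
      have hyrepr : ∀ i, c.repr y i = (Fin.cons 0 y'' : Fin (k + 1) → K) i := by
        intro i
        rw [← Module.Basis.equivFun_apply, LinearEquiv.apply_symm_apply]
      have hyker : y ∈ LinearMap.ker (QuadraticMap.polarBilin q) := by
        rw [LinearMap.mem_ker]
        apply c.ext
        intro i
        refine Fin.cases ?_ (fun j => ?_) i
        · rw [QuadraticMap.polarBilin_apply_apply, QuadraticMap.polar_comm,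
            ← QuadraticMap.polarBilin_apply_apply, h0]
          simp
        · rw [QuadraticMap.polarBilin_apply_apply, polar_succ_eq_vecMul c q h0 y j]
          have : (fun i : Fin k => c.repr y i.succ) = y'' := by
            ext i
            rw [hyrepr, Fin.cons_succ]
          rw [this, hy''0]
          simp
      have h0ker : c 0 ∈ LinearMap.ker (QuadraticMap.polarBilin q) := h0
      obtain ⟨w, -, hw⟩ := (rank_submodule_le_one_iff _).mp hnd.rank_rad_polar_le
      obtain ⟨a, ha⟩ := Submodule.mem_span_singleton.mp (hw h0ker)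
      obtain ⟨b, hb⟩ := Submodule.mem_span_singleton.mp (hw hyker)
      have ha0 : a ≠ 0 := by
        rintro rfl
        rw [zero_smul] at ha
        exact hc0 ha.symm
      have hy : y = (b * a⁻¹) • c 0 := by
        rw [← ha, smul_smul, mul_assoc, inv_mul_cancel₀ ha0, mul_one, hb]
      apply hy''
      ext i
      have := hyrepr i.succ
      rw [Fin.cons_succ] at this
      rw [← this, hy, map_smul, Finsupp.smul_apply, hrepr0, smul_zero]
      rfl
  · rintro ⟨hq, hdet⟩
    have hker : LinearMap.ker (QuadraticMap.polarBilin q) ≤ K ∙ c 0 := by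
      intro x hx
      rw [LinearMap.mem_ker] at hx
      have hx'' : (fun i : Fin k => c.repr x i.succ) = 0 := by
        apply Matrix.eq_zero_of_vecMul_eq_zero hdet
        ext j
        rw [← polar_succ_eq_vecMul c q h0 x j, ← QuadraticMap.polarBilin_apply_apply, hx]
        simp
      rw [Submodule.mem_span_singleton]
      refine ⟨c.repr x 0, ?_⟩
      conv_rhs => rw [← c.sum_repr x]
      rw [Fin.sum_univ_succ]
      have : ∑ i : Fin k, c.repr x i.succ • c i.succ = 0 := by
        apply Finset.sum_eq_zero
        intro i _
        rw [show c.repr x i.succ = 0 from congrFun hx'' i, zero_smul]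
      rw [this, add_zero]
    refine ⟨?_, ?_⟩
    · rw [eq_bot_iff]
      intro x hx
      obtain ⟨a, rfl⟩ := Submodule.mem_span_singleton.mp
        (hker (QuadraticMap.radical_le_ker_polarBilin hx))
      have hqx : q (a • c 0) = 0 := hx.1
      rw [QuadraticMap.map_smul, smul_eq_mul] at hqx
      have ha : a = 0 := by
        rcases mul_eq_zero.mp hqx with h | h
        · exact mul_self_eq_zero.mp h
        · exact absurd h hq
      rw [ha, zero_smul]
      exact Submodule.zero_mem _
    · exact (Submodule.rank_mono hker).trans ((rank_span_le _).trans (by simp))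

/-- Over a field: the half-discriminant in an odd-rank basis is nonzero iff the form is
nondegenerate. -/
theorem halfDisc_ne_zero_iff_nondegenerate {k : ℕ} (hn : Odd (k + 1))
    (c : Module.Basis (Fin (k + 1)) K V) (q : QuadraticForm K V) :
    halfDisc c (LinearEquiv.refl K K) q ≠ 0 ↔ q.Nondegenerate := by
  classical
  by_cases h2 : (2 : K) = 0
  · haveI : Module.Finite K V := Module.Finite.of_basis c
    haveI : Module.Free K V := Module.Free.of_basis c
    have hdet : (LinearMap.BilinForm.toMatrix c (QuadraticMap.polarBilin q)).det = 0 := by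
      rw [← two_mul_halfDisc hn, h2, zero_mul]
    have hker : LinearMap.ker (QuadraticMap.polarBilin q) ≠ ⊥ := by
      intro h
      have := (LinearMap.BilinForm.nondegenerate_iff_ker_eq_bot
        (B := QuadraticMap.polarBilin q)).mpr h
      exact (LinearMap.BilinForm.nondegenerate_iff_det_ne_zero c).mp this hdet
    obtain ⟨v, hv, hv0⟩ := (Submodule.ne_bot_iff _).mp hker
    obtain ⟨c', hc'⟩ := exists_basis_zero_eq c v hv0
    have h0 : QuadraticMap.polarBilin q (c' 0) = 0 := by
      rw [hc']
      exact hv
    rw [nondegenerate_iff_of_adapted c' q h0, ← isUnit_iff_ne_zero,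
      isUnit_halfDisc_iff_of_basis hn c' c q, isUnit_iff_ne_zero,
      halfDisc_of_adapted hn c' q, mul_ne_zero_iff]
    intro j
    rw [← QuadraticMap.polarBilin_apply_apply, h0]
    simp
  · exact halfDisc_ne_zero_iff_of_two_ne_zero hn c q h2

end Field

section BaseChange

open TensorProduct

variable {R : Type*} [CommRing R] {M : Type*} [AddCommGroup M] [Module R M] [Module.Free R M]
variable (A : Type*) [CommRing A] [Algebra R A]

lemma baseChangeForm_one_tmul (Q : QuadraticForm R M) (x : M) :
    baseChangeForm A Q ((1 : A) ⊗ₜ[R] x) = algebraMap R A (Q x) := by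
  rw [baseChangeForm, LinearMap.compQuadraticMap_apply, baseChange_tmul, LinearEquiv.coe_coe,
    AlgebraTensorModule.rid_tmul, mul_one, Algebra.algebraMap_eq_smul_one]

lemma polar_baseChangeForm_one_tmul (Q : QuadraticForm R M) (x y : M) :
    QuadraticMap.polar (baseChangeForm A Q) ((1 : A) ⊗ₜ[R] x) ((1 : A) ⊗ₜ[R] y) =
      algebraMap R A (QuadraticMap.polar Q x y) := by
  simp only [QuadraticMap.polar, ← TensorProduct.tmul_add, baseChangeForm_one_tmul, map_sub]

/-- The half-discriminant commutes with base change. -/
theorem halfDisc_baseChangeForm {n : ℕ} (b : Module.Basis (Fin n) R M) (Q : QuadraticForm R M) :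
    halfDisc (b.baseChange A) (LinearEquiv.refl A A) (baseChangeForm A Q) =
      algebraMap R A (halfDisc b (LinearEquiv.refl R R) Q) := by
  unfold halfDisc
  rw [MvPolynomial.eval₂_comp_left (algebraMap R A)]
  congr 1
  · exact (RingHom.ext_int _ _)
  · ext p
    induction p using Sym2.ind with
    | _ i j =>
      simp only [coeffs_mk, Function.comp_apply, LinearEquiv.refl_apply,
        Module.Basis.baseChange_apply, baseChangeForm_one_tmul, polar_baseChangeForm_one_tmul]
      split_ifs <;> rfl

end BaseChange

end Groth.Agent.Lib.Helper41.HalfDisc
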