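import Groth.Prelude.Def_QuadGrp
import Mathlib.Tactic

/-!
# Computations for the split quadratic forms and their Clifford algebras (helper41)
-/

set_option autoImplicit false

namespace Groth.Agent.Lib.Helper41.SplitClifford

open QuadGrp

section Abstract

variable {C : Type*} [Ring C] {m : ℕ} (E : Fin m × Fin 2 → C)

/-- `w i = 1 - 2 a_i b_i`. -/
def w (i : Fin m) : C := 1 - 2 * (E (i, 0) * E (i, 1))

variable (h1 : ∀ p, E p * E p = 0)
  (h2 : ∀ i, E (i, 0) * E (i, 1) + E (i, 1) * E (i, 0) = 1)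
  (h3 : ∀ p q : Fin m × Fin 2, p.1 ≠ q.1 → E p * E q = - (E q * E p))

include h1 h2 in
lemma w_mul_w (i : Fin m) : w E i * w E i = 1 := by
  have hba : E (i, 1) * E (i, 0) = 1 - E (i, 0) * E (i, 1) := eq_sub_of_add_eq' (h2 i)
  have hbb := h1 (i, 1)
  unfold w
  generalize E (i, 0) = a at *
  generalize E (i, 1) = b at *
  calc (1 - 2 * (a * b)) * (1 - 2 * (a * b))
      = 1 - 4 * (a * b) + 4 * (a * (b * a) * b) := by noncomm_ring
    _ = 1 - 4 * (a * b) + 4 * (a * (1 - a * b) * b) := by rw [hba]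
    _ = 1 - 4 * (a * a * (b * b)) := by noncomm_ring
    _ = 1 := by rw [hbb]; simp

include h1 h2 in
lemma a_mul_w (i : Fin m) : E (i, 0) * w E i = - (w E i * E (i, 0)) := by
  have hba : E (i, 1) * E (i, 0) = 1 - E (i, 0) * E (i, 1) := eq_sub_of_add_eq' (h2 i)
  have haa := h1 (i, 0)
  unfold w
  generalize E (i, 0) = a at *
  generalize E (i, 1) = b at *
  have e1 : a * (1 - 2 * (a * b)) = a := by
    calc a * (1 - 2 * (a * b)) = a - 2 * (a * a * b) := by noncomm_ring
      _ = a := by rw [haa]; simp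
  have e2 : (1 - 2 * (a * b)) * a = -a := by
    calc (1 - 2 * (a * b)) * a = a - 2 * (a * (b * a)) := by noncomm_ring
      _ = a - 2 * (a * (1 - a * b)) := by rw [hba]
      _ = -a + 2 * (a * a * b) := by noncomm_ring
      _ = -a := by rw [haa]; simp
  rw [e1, e2, neg_neg]

include h1 h2 in
lemma b_mul_w (i : Fin m) : E (i, 1) * w E i = - (w E i * E (i, 1)) := by
  have hba : E (i, 1) * E (i, 0) = 1 - E (i, 0) * E (i, 1) := eq_sub_of_add_eq' (h2 i)
  have hbb := h1 (i, 1)
  unfold w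
  generalize E (i, 0) = a at *
  generalize E (i, 1) = b at *
  have e1 : b * (1 - 2 * (a * b)) = -b := by
    calc b * (1 - 2 * (a * b)) = b - 2 * ((b * a) * b) := by noncomm_ring
      _ = b - 2 * ((1 - a * b) * b) := by rw [hba]
      _ = - b + 2 * (a * (b * b)) := by noncomm_ring
      _ = - b := by rw [hbb]; simp
  have e2 : (1 - 2 * (a * b)) * b = b := by
    calc (1 - 2 * (a * b)) * b = b - 2 * (a * (b * b)) := by noncomm_ring
      _ = b := by rw [hbb]; simp
  rw [e1, e2]

include h3 in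
lemma E_mul_w_of_ne (p : Fin m × Fin 2) (i : Fin m) (hp : p.1 ≠ i) : E p * w E i = w E i * E p := by
  have ha : E p * E (i, 0) = - (E (i, 0) * E p) := h3 p (i, 0) hp
  have hb : E p * E (i, 1) = - (E (i, 1) * E p) := h3 p (i, 1) hp
  unfold w
  generalize E (i, 0) = a at *
  generalize E (i, 1) = b at *
  generalize E p = x at *
  calc x * (1 - 2 * (a * b)) = x - 2 * ((x * a) * b) := by noncomm_ring
    _ = x - 2 * ((-(a * x)) * b) := by rw [ha]
    _ = x + 2 * (a * (x * b)) := by noncomm_ring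
    _ = x + 2 * (a * (-(b * x))) := by rw [hb]
    _ = (1 - 2 * (a * b)) * x := by noncomm_ring

include h1 h2 in
lemma E_mul_w_self (p : Fin m × Fin 2) : E p * w E p.1 = - (w E p.1 * E p) := by
  obtain ⟨i, s⟩ := p
  fin_cases s
  · exact a_mul_w E h1 h2 i
  · exact b_mul_w E h1 h2 i

include h3 in
lemma w_commute (i k : Fin m) (hik : i ≠ k) : Commute (w E i) (w E k) := by
  have ha := E_mul_w_of_ne E h3 (i, 0) k hik
  have hb := E_mul_w_of_ne E h3 (i, 1) k hik
  have : Commute (E (i, 0) * E (i, 1)) (w E k) := Commute.mul_left ha hb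
  unfold w at this ⊢
  exact ((Commute.one_left _).sub_left ((Commute.ofNat_left _ _).mul_left this))

/-- product over a list -/
def W (L : List (Fin m)) : C := (L.map (w E)).prod

include h3 in
lemma E_mul_W_of_notMem (p : Fin m × Fin 2) (L : List (Fin m)) (hp : p.1 ∉ L) :
    E p * W E L = W E L * E p := by
  refine Commute.list_prod_right _ _ ?_
  intro x hx
  obtain ⟨i, hi, rfl⟩ := List.mem_map.mp hx
  exact E_mul_w_of_ne E h3 p i (fun h => hp (h ▸ hi))

include h1 h2 h3 in
lemma E_mul_W_of_mem (p : Fin m × Fin 2) (L : List (Fin m)) (hL : L.Nodup) (hp : p.1 ∈ L) :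
    E p * W E L = - (W E L * E p) := by
  induction L with
  | nil => simp at hp
  | cons i L ih =>
    rw [List.nodup_cons] at hL
    simp only [W, List.map_cons, List.prod_cons]
    by_cases hi : p.1 = i
    · subst hi
      have := E_mul_W_of_notMem E h3 p L hL.1
      unfold W at this
      rw [← mul_assoc, E_mul_w_self E h1 h2 p, neg_mul, mul_assoc, this, mul_assoc]
    · have hp' : p.1 ∈ L := by
        rcases List.mem_cons.mp hp with h | h
        · exact absurd h hi
        · exact h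
      have := ih hL.2 hp'
      unfold W at this
      rw [← mul_assoc, E_mul_w_of_ne E h3 p i hi, mul_assoc, this, mul_neg, mul_assoc]

include h1 h2 h3 in
lemma W_mul_W (L : List (Fin m)) (hL : L.Nodup) : W E L * W E L = 1 := by
  induction L with
  | nil => simp [W]
  | cons i L ih =>
    rw [List.nodup_cons] at hL
    have hc : Commute (w E i) (W E L) := by
      refine Commute.list_prod_right _ _ ?_
      intro x hx
      obtain ⟨k, hk, rfl⟩ := List.mem_map.mp hx
      exact w_commute E h3 i k (fun h => hL.1 (h ▸ hk))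
    have ih' := ih hL.2
    simp only [W, List.map_cons, List.prod_cons] at ih' ⊢
    change w E i * W E L * (w E i * W E L) = 1
    rw [mul_assoc, ← mul_assoc (W E L), ← hc.eq, mul_assoc, ← mul_assoc, ← mul_assoc, w_mul_w E h1 h2,
      one_mul]
    exact ih'

end Abstract

section Eval

variable (R : Type*) [CommRing R]

lemma splitForm_apply (n : ℕ) (x : Fin n → R) :
    splitForm R n x =
      (∑ i : Fin (n / 2), x ⟨2 * i + n % 2, by omega⟩ * x ⟨2 * i + 1 + n % 2, by omega⟩) +
      (if h : n % 2 = 1 then x ⟨0, by omega⟩ * x ⟨0, by omega⟩ else 0) := by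
  unfold splitForm
  rw [add_apply, sum_apply]
  congr 1
  split_ifs with h
  · simp
  · simp

lemma splitForm_even_apply (m : ℕ) (x : Fin (m * 2) → R) :
    splitForm R (m * 2) x = ∑ i : Fin m, x (finProdFinEquiv (i, 0)) * x (finProdFinEquiv (i, 1)) := by
  rw [splitForm_apply]
  have h0 : (m * 2) % 2 = 0 := Nat.mul_mod_left m 2
  rw [dif_neg (by omega), add_zero]
  refine Fintype.sum_equiv (finCongr (by omega)) _ _ ?_
  intro i
  congr 2 <;> (apply Fin.ext; simp [h0]; try omega)

lemma polar_splitForm_even (m : ℕ) (x y : Fin (m * 2) → R) :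
    QuadraticMap.polar (splitForm R (m * 2)) x y =
      ∑ i : Fin m, (x (finProdFinEquiv (i, 0)) * y (finProdFinEquiv (i, 1)) +
        y (finProdFinEquiv (i, 0)) * x (finProdFinEquiv (i, 1))) := by
  unfold QuadraticMap.polar
  rw [splitForm_even_apply, splitForm_even_apply, splitForm_even_apply, ← Finset.sum_sub_distrib,
    ← Finset.sum_sub_distrib]
  refine Finset.sum_congr rfl fun i _ => ?_
  simp only [Pi.add_apply]
  ring

/-- the basis vectors of the Clifford algebra of the even split form, indexed by pairs -/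
noncomputable def Ev (m : ℕ) (p : Fin m × Fin 2) : CliffordAlgebra (splitForm R (m * 2)) :=
  CliffordAlgebra.ι (splitForm R (m * 2)) (Pi.single (finProdFinEquiv p) 1)

lemma single_apply' (m : ℕ) (p q : Fin m × Fin 2) :
    (Pi.single (finProdFinEquiv p) (1 : R) : Fin (m * 2) → R) (finProdFinEquiv q) = if q = p then 1 else 0 := by
  rw [Pi.single_apply]
  simp only [EmbeddingLike.apply_eq_iff_eq]

lemma Ev_sq (m : ℕ) (p : Fin m × Fin 2) : Ev R m p * Ev R m p = 0 := by
  unfold Ev
  rw [CliffordAlgebra.ι_sq_scalar, splitForm_even_apply]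
  simp only [single_apply']
  rw [Finset.sum_eq_zero, map_zero]
  intro i _
  by_cases h : (i, (0 : Fin 2)) = p
  · subst h; simp
  · simp [h]

lemma Ev_pair (m : ℕ) (i : Fin m) : Ev R m (i, 0) * Ev R m (i, 1) + Ev R m (i, 1) * Ev R m (i, 0) = 1 := by
  unfold Ev
  rw [CliffordAlgebra.ι_mul_ι_add_swap, polar_splitForm_even]
  simp only [single_apply']
  rw [Finset.sum_eq_single i]
  · simp
  · intro k _ hk
    simp [hk]
  · simp

lemma Ev_anti (m : ℕ) (p q : Fin m × Fin 2) (hpq : p.1 ≠ q.1) : Ev R m p * Ev R m q = - (Ev R m q * Ev R m p) := by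
  rw [eq_neg_iff_add_eq_zero]
  unfold Ev
  rw [CliffordAlgebra.ι_mul_ι_add_swap, polar_splitForm_even]
  simp only [single_apply']
  rw [Finset.sum_eq_zero, map_zero]
  intro i _
  have h1 : ¬ ((i, (0 : Fin 2)) = p ∧ (i, (1 : Fin 2)) = q) := by
    rintro ⟨rfl, rfl⟩; exact hpq rfl
  have h2 : ¬ ((i, (0 : Fin 2)) = q ∧ (i, (1 : Fin 2)) = p) := by
    rintro ⟨rfl, rfl⟩; exact hpq rfl
  by_cases ha : (i, (0 : Fin 2)) = p <;> by_cases hb : (i, (1 : Fin 2)) = q <;>
    by_cases hc : (i, (0 : Fin 2)) = q <;> by_cases hd : (i, (1 : Fin 2)) = p <;> simp_all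

end Eval

section Three

set_option linter.unusedSimpArgs false

variable {k : Type*} [CommRing k] {C : Type*} [Ring C] [Algebra k C]

/-- Relations of the Clifford algebra of `x₀² + x₁ x₂`. -/
structure Rel3 (e0 e1 e2 : C) : Prop where
  h00 : e0 * e0 = 1
  h11 : e1 * e1 = 0
  h22 : e2 * e2 = 0
  h10 : e1 * e0 = -(e0 * e1)
  h20 : e2 * e0 = -(e0 * e2)
  h21 : e2 * e1 = 1 - e1 * e2

namespace Rel3

variable {e0 e1 e2 : C} (h : Rel3 e0 e1 e2)

include h

lemma a00 (x : C) : e0 * (e0 * x) = x := by rw [← mul_assoc, h.h00, one_mul]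
lemma a11 (x : C) : e1 * (e1 * x) = 0 := by rw [← mul_assoc, h.h11, zero_mul]
lemma a22 (x : C) : e2 * (e2 * x) = 0 := by rw [← mul_assoc, h.h22, zero_mul]
lemma a10 (x : C) : e1 * (e0 * x) = -(e0 * (e1 * x)) := by rw [← mul_assoc, h.h10, neg_mul, mul_assoc]
lemma a20 (x : C) : e2 * (e0 * x) = -(e0 * (e2 * x)) := by rw [← mul_assoc, h.h20, neg_mul, mul_assoc]
lemma a21 (x : C) : e2 * (e1 * x) = x - e1 * (e2 * x) := by
  rw [← mul_assoc, h.h21, sub_mul, one_mul, mul_assoc]

end Rel3

/-- general even element -/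
def el (e0 e1 e2 : C) (a b c d : k) : C := a • (1 : C) + b • (e0 * e1) + c • (e0 * e2) + d • (e1 * e2)

/-- general vector -/
def vec (e0 e1 e2 : C) (x0 x1 x2 : k) : C := x0 • e0 + x1 • e1 + x2 • e2

variable {e0 e1 e2 : C} (h : Rel3 e0 e1 e2)

include h in
lemma el_mul_el (a b c d a' b' c' d' : k) :
    el e0 e1 e2 a b c d * el e0 e1 e2 a' b' c' d' =
      el e0 e1 e2 (a * a' - b' * c) (a * b' + a' * b + b' * d) (a * c' + a' * c + c * d')
        (a * d' + a' * d - b * c' + b' * c + d * d') := by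
  unfold el
  simp only [mul_add, add_mul, smul_mul_assoc, mul_smul_comm, mul_assoc, mul_one, one_mul,
    h.h00, h.h11, h.h22, h.h10, h.h20, h.h21, h.a00, h.a11, h.a22, h.a10, h.a20, h.a21,
    mul_neg, neg_mul, mul_sub, sub_mul, mul_zero, zero_mul, smul_neg, smul_sub, smul_zero, neg_zero,
    sub_zero, neg_neg, smul_add, smul_smul]
  module


include h in
lemma vec_mul_vec (x0 x1 x2 y0 y1 y2 : k) :
    vec e0 e1 e2 x0 x1 x2 * vec e0 e1 e2 y0 y1 y2 =
      el e0 e1 e2 (x0 * y0 + x2 * y1) (x0 * y1 - x1 * y0) (x0 * y2 - x2 * y0) (x1 * y2 - x2 * y1) := by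
  unfold el vec
  simp only [mul_add, add_mul, smul_mul_assoc, mul_smul_comm, mul_assoc, mul_one, one_mul,
    h.h00, h.h11, h.h22, h.h10, h.h20, h.h21, h.a00, h.a11, h.a22, h.a10, h.a20, h.a21,
    mul_neg, neg_mul, mul_sub, sub_mul, mul_zero, zero_mul, smul_neg, smul_sub, smul_zero, neg_zero,
    sub_zero, neg_neg, smul_add, smul_smul]
  module

include h in
lemma el_mul_bar (a b c d : k) :
    el e0 e1 e2 a b c d * el e0 e1 e2 (a + d) (-b) (-c) (-d) = (a * a + a * d + b * c) • (1 : C) := by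
  unfold el
  simp only [mul_add, add_mul, smul_mul_assoc, mul_smul_comm, mul_assoc, mul_one, one_mul,
    h.h00, h.h11, h.h22, h.h10, h.h20, h.h21, h.a00, h.a11, h.a22, h.a10, h.a20, h.a21,
    mul_neg, neg_mul, mul_sub, sub_mul, mul_zero, zero_mul, smul_neg, smul_sub, smul_zero, neg_zero,
    sub_zero, neg_neg, smul_add, smul_smul]
  module

include h in
lemma el_mul_vec_mul_bar (a b c d x0 x1 x2 : k) :
    el e0 e1 e2 a b c d * vec e0 e1 e2 x0 x1 x2 * el e0 e1 e2 (a + d) (-b) (-c) (-d) =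
      vec e0 e1 e2
        (a * a * x0 + a * b * x2 + a * c * x1 + a * d * x0 - b * c * x0 + c * d * x1)
        (a * a * x1 - 2 * a * b * x0 + 2 * a * d * x1 - b * b * x2 - 2 * b * d * x0 + d * d * x1)
        (a * a * x2 - 2 * a * c * x0 - c * c * x1) := by
  unfold el vec
  simp only [mul_add, add_mul, smul_mul_assoc, mul_smul_comm, mul_assoc, mul_one, one_mul,
    h.h00, h.h11, h.h22, h.h10, h.h20, h.h21, h.a00, h.a11, h.a22, h.a10, h.a20, h.a21,
    mul_neg, neg_mul, mul_sub, sub_mul, mul_zero, zero_mul, smul_neg, smul_sub, smul_zero, neg_zero,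
    sub_zero, neg_neg, smul_add, smul_smul]
  module

lemma el_add_bar (a b c d : k) :
    el e0 e1 e2 a b c d + el e0 e1 e2 (a + d) (-b) (-c) (-d) = (2 * a + d) • (1 : C) := by
  unfold el
  module

lemma el_add (a b c d a' b' c' d' : k) :
    el e0 e1 e2 a b c d + el e0 e1 e2 a' b' c' d' = el e0 e1 e2 (a + a') (b + b') (c + c') (d + d') := by
  unfold el
  module

end Three

section ThreeClifford

open CliffordAlgebra

variable (k : Type*) [CommRing k]

lemma splitForm_three_apply (x : Fin 3 → k) : splitForm k 3 x = x 1 * x 2 + x 0 * x 0 := by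
  rw [splitForm_apply]
  rw [dif_pos (by norm_num)]
  congr 1
  exact Fin.sum_univ_one _

/-- the standard basis vectors in the Clifford algebra of `x₀² + x₁x₂` -/
noncomputable def g3 (i : Fin 3) : CliffordAlgebra (splitForm k 3) :=
  ι (splitForm k 3) (Pi.single i 1)

lemma g3_sq (i : Fin 3) : g3 k i * g3 k i = algebraMap k _ (if i = 0 then 1 else 0) := by
  unfold g3
  rw [ι_sq_scalar, splitForm_three_apply]
  fin_cases i <;> simp

lemma g3_swap (i j : Fin 3) : g3 k i * g3 k j + g3 k j * g3 k i =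
    algebraMap k _ (QuadraticMap.polar (splitForm k 3) (Pi.single i 1) (Pi.single j 1)) := by
  unfold g3
  rw [ι_mul_ι_add_swap]

lemma rel3 : Rel3 (g3 k 0) (g3 k 1) (g3 k 2) where
  h00 := by rw [g3_sq]; simp
  h11 := by rw [g3_sq]; simp
  h22 := by rw [g3_sq]; simp
  h10 := by
    rw [eq_neg_iff_add_eq_zero, g3_swap]
    simp [QuadraticMap.polar, splitForm_three_apply]
  h20 := by
    rw [eq_neg_iff_add_eq_zero, g3_swap]
    simp [QuadraticMap.polar, splitForm_three_apply]
  h21 := by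
    rw [eq_sub_iff_add_eq, g3_swap]
    simp [QuadraticMap.polar, splitForm_three_apply]

lemma ι_eq_vec (x : Fin 3 → k) :
    ι (splitForm k 3) x = vec (g3 k 0) (g3 k 1) (g3 k 2) (x 0) (x 1) (x 2) := by
  have hx : x = x 0 • Pi.single 0 1 + x 1 • Pi.single 1 1 + x 2 • Pi.single 2 1 := by
    ext i; fin_cases i <;> simp
  conv_lhs => rw [hx]
  simp only [map_add, map_smul, vec, g3]

lemma vec_eq_ι (x0 x1 x2 : k) :
    vec (g3 k 0) (g3 k 1) (g3 k 2) x0 x1 x2 = ι (splitForm k 3) ![x0, x1, x2] := by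
  rw [ι_eq_vec]; simp

lemma even_eq_el (u : CliffordAlgebra (splitForm k 3)) (hu : u ∈ evenOdd (splitForm k 3) 0) :
    ∃ a b c d : k, u = el (g3 k 0) (g3 k 1) (g3 k 2) a b c d := by
  induction u, hu using even_induction with
  | algebraMap r =>
    refine ⟨r, 0, 0, 0, ?_⟩
    simp [el, Algebra.algebraMap_eq_smul_one]
  | add x y hx hy ihx ihy =>
    obtain ⟨a, b, c, d, rfl⟩ := ihx
    obtain ⟨a', b', c', d', rfl⟩ := ihy
    exact ⟨_, _, _, _, el_add _ _ _ _ _ _ _ _⟩
  | ι_mul_ι_mul m₁ m₂ x hx ih =>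
    obtain ⟨a, b, c, d, rfl⟩ := ih
    rw [ι_eq_vec, ι_eq_vec, vec_mul_vec (rel3 k), el_mul_el (rel3 k)]
    exact ⟨_, _, _, _, rfl⟩

end ThreeClifford

section ThreeFinal

open CliffordAlgebra
open scoped Pointwise

variable (k : Type*) [Field k]

lemma conj_mem (u : (CliffordAlgebra (splitForm k 3))ˣ)
    (hu : (u : CliffordAlgebra (splitForm k 3)) ∈ evenOdd (splitForm k 3) 0) (x : Fin 3 → k) :
    ∃ y : Fin 3 → k, (u : CliffordAlgebra (splitForm k 3)) * ι (splitForm k 3) x * ↑u⁻¹ =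
      ι (splitForm k 3) y := by
  obtain ⟨a, b, c, d, hel⟩ := even_eq_el k _ hu
  have hbar := el_mul_bar (rel3 k) a b c d
  rw [← hel] at hbar
  by_cases h0 : a * a + a * d + b * c = 0
  · have hub : el (g3 k 0) (g3 k 1) (g3 k 2) (a + d) (-b) (-c) (-d) = 0 := by
      have := congrArg (fun z => (↑u⁻¹ : CliffordAlgebra (splitForm k 3)) * z) hbar
      simpa [← mul_assoc, h0] using this
    have hsum := el_add_bar (e0 := g3 k 0) (e1 := g3 k 1) (e2 := g3 k 2) a b c d
    rw [hub, add_zero, ← hel] at hsum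
    refine ⟨x, ?_⟩
    have hcomm : (u : CliffordAlgebra (splitForm k 3)) * ι (splitForm k 3) x =
        ι (splitForm k 3) x * u := by
      rw [hsum, smul_mul_assoc, one_mul, mul_smul_comm, mul_one]
    rw [hcomm, mul_assoc, Units.mul_inv, mul_one]
  · have hinv : (↑u⁻¹ : CliffordAlgebra (splitForm k 3)) =
        (a * a + a * d + b * c)⁻¹ • el (g3 k 0) (g3 k 1) (g3 k 2) (a + d) (-b) (-c) (-d) := by
      apply Units.inv_eq_of_mul_eq_one_right
      rw [mul_smul_comm, hbar, smul_smul, inv_mul_cancel₀ h0, one_smul]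
    rw [hinv, mul_smul_comm, hel, ι_eq_vec, el_mul_vec_mul_bar (rel3 k), vec_eq_ι, ← map_smul]
    exact ⟨_, rfl⟩

theorem evenUnits_le_GPin'_three : evenUnits (splitForm k 3) ≤ GPin' (splitForm k 3) := by
  have key : ∀ u ∈ evenUnits (splitForm k 3),
      ConjAct.toConjAct u • LinearMap.range (ι (splitForm k 3)) ≤ LinearMap.range (ι (splitForm k 3)) := by
    intro u hu z hz
    obtain ⟨v, hv, rfl⟩ := (Submodule.mem_smul_pointwise_iff_exists _ _ _).mp hz
    obtain ⟨x, rfl⟩ := hv
    obtain ⟨y, hy⟩ := conj_mem k u hu x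
    exact ⟨y, hy.symm⟩
  intro u hu
  rw [mem_GPin']
  apply le_antisymm (key u hu)
  intro z hz
  have h1 := key u⁻¹ (inv_mem hu) (Submodule.smul_mem_pointwise_smul z (ConjAct.toConjAct u⁻¹) _ hz)
  have h2 := Submodule.smul_mem_pointwise_smul _ (ConjAct.toConjAct u) _ h1
  rwa [map_inv, smul_inv_smul] at h2

end ThreeFinal

end Groth.Agent.Lib.Helper41.SplitClifford
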