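import Groth.Agent.Lib.Helper41.FppfPoints
import Groth.Agent.Lib.Helper93.ActionOpen

/-!
# Points calculus for actions of group schemes (helper41)

* `orbit_pt` : `g ≫ a.orbitMap o = g · o` on `T`-points.
* `whiskerLeft_act_pt` : `lift g x ≫ (G ◁ f) = lift g (x ≫ f)`.
* `uEE_whiskerLeft` : for `π : Y ⟶ Z` flat surjective between l.f.t. `k`-schemes and `G` l.f.t.,
  `G ◁ π` is a universally effective epimorphism in `Over (Spec k)`.
-/

set_option autoImplicit false
universe u
open CategoryTheory CategoryTheory.Limits MonoidalCategory CartesianMonoidalCategory MonObj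
  AlgebraicGeometry

namespace Groth.Agent.Lib.Helper41.ActionPoints

open Groth.Agent.H26 Groth.Agent.Lib.Helper93.ActionOpen

section General

variable {S : Scheme.{u}} {G X : Over S} [GrpObj G]

theorem orbit_pt (a : AlgGrp.Action G X) (o : 𝟙_ (Over S) ⟶ X) {T : Over S} (g : T ⟶ G) :
    g ≫ a.orbitMap o = lift g (toUnit T ≫ o) ≫ a.act := by
  unfold AlgGrp.Action.orbitMap
  rw [← Category.assoc, comp_lift, Category.comp_id, ← Category.assoc,
    toUnit_unique (g ≫ toUnit G) (toUnit T)]

theorem orbit_mul (a : AlgGrp.Action G X) (o : 𝟙_ (Over S) ⟶ X) {T : Over S} (g h : T ⟶ G) :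
    (g * h) ≫ a.orbitMap o = lift g (h ≫ a.orbitMap o) ≫ a.act := by
  rw [orbit_pt, orbit_pt, act_mul]

end General

section Field

variable {k : Type u} [Field k]

theorem locallyOfFiniteType_tensor (A B : Over (Spec (CommRingCat.of k)))
    [LocallyOfFiniteType A.hom] [LocallyOfFiniteType B.hom] : LocallyOfFiniteType (A ⊗ B).hom := by
  have h1 : LocallyOfFiniteType (snd A B).left := by
    rw [Over.snd_left]
    infer_instance
  rw [← Over.w (snd A B)]
  infer_instance

theorem uEE_whiskerLeft (G : Over (Spec (CommRingCat.of k))) {Y Z : Over (Spec (CommRingCat.of k))}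
    [LocallyOfFiniteType G.hom] [LocallyOfFiniteType Y.hom] [LocallyOfFiniteType Z.hom]
    (π : Y ⟶ Z) [Flat π.left] [Surjective π.left] :
    UEE (Over (Spec (CommRingCat.of k))) (G ◁ π) := by
  have hpb := isPullback_whiskerLeft_snd G π
  have h1 : Flat (G ◁ π).left := MorphismProperty.of_isPullback (P := @Flat) hpb.flip inferInstance
  have h2 : Surjective (G ◁ π).left :=
    MorphismProperty.of_isPullback (P := @Surjective) hpb.flip inferInstance
  have h3 := locallyOfFiniteType_tensor G Y
  have h4 := locallyOfFiniteType_tensor G Z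
  exact Groth.Agent.Lib.Helper41.FppfPoints.uEE_of_flat_surjective (G ◁ π)

end Field

end Groth.Agent.Lib.Helper41.ActionPoints
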