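import Groth.Agent.Lib.Helper41.ActionPoints

/-!
# More fppf calculus in `Over (Spec k)` (helper41)

* `isPullback_whiskerRight_fst` : scheme-level cartesian square for `f ▷ G`.
* `uEE_whiskerRight`, `uEE_tensorHom`, `epi_tensorHom` : products of flat surjective morphisms between
  l.f.t. `k`-schemes are universally effective epimorphisms.
* `exists_desc_of_isKernel` : a homomorphism trivial on the kernel of an fppf homomorphism `q` factors
  uniquely through `q`, by a homomorphism.
-/

set_option autoImplicit false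
universe u
open CategoryTheory CategoryTheory.Limits MonoidalCategory CartesianMonoidalCategory MonObj
  AlgebraicGeometry

namespace Groth.Agent.Lib.Helper41.ActionPoints2

open Groth.Agent.H26 Groth.Agent.Lib.Helper41.ActionPoints

theorem isPullback_whiskerRight_fst {S : Scheme.{u}} (G : Over S) {Y Z : Over S} (f : Y ⟶ Z) :
    IsPullback (f ▷ G).left (fst Y G).left (fst Z G).left f.left := by
  have hright : IsPullback (pullback.snd Z.hom G.hom) (pullback.fst Z.hom G.hom) G.hom Z.hom :=
    (IsPullback.of_hasPullback _ _).flip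
  have houter : IsPullback ((f ▷ G).left ≫ pullback.snd Z.hom G.hom) (pullback.fst Y.hom G.hom)
      G.hom (f.left ≫ Z.hom) := by
    rw [Over.whiskerRight_left_snd, Over.w f]
    exact (IsPullback.of_hasPullback _ _).flip
  exact IsPullback.of_right houter (Over.whiskerRight_left_fst f) hright

section Field

variable {k : Type u} [Field k]

theorem uEE_whiskerRight (G : Over (Spec (CommRingCat.of k))) {Y Z : Over (Spec (CommRingCat.of k))}
    [LocallyOfFiniteType G.hom] [LocallyOfFiniteType Y.hom] [LocallyOfFiniteType Z.hom]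
    (π : Y ⟶ Z) [Flat π.left] [Surjective π.left] :
    UEE (Over (Spec (CommRingCat.of k))) (π ▷ G) := by
  have hpb := isPullback_whiskerRight_fst G π
  have h1 : Flat (π ▷ G).left := MorphismProperty.of_isPullback (P := @Flat) hpb.flip inferInstance
  have h2 : Surjective (π ▷ G).left :=
    MorphismProperty.of_isPullback (P := @Surjective) hpb.flip inferInstance
  have h3 := locallyOfFiniteType_tensor Y G
  have h4 := locallyOfFiniteType_tensor Z G
  exact Groth.Agent.Lib.Helper41.FppfPoints.uEE_of_flat_surjective (π ▷ G)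

theorem epi_tensorHom {Y Z Y' Z' : Over (Spec (CommRingCat.of k))}
    [LocallyOfFiniteType Y.hom] [LocallyOfFiniteType Z.hom]
    [LocallyOfFiniteType Y'.hom] [LocallyOfFiniteType Z'.hom]
    (π : Y ⟶ Z) [Flat π.left] [Surjective π.left] (π' : Y' ⟶ Z') [Flat π'.left] [Surjective π'.left] :
    Epi (π ⊗ₘ π') := by
  have h1 : Epi (π ▷ Y') := (uEE_whiskerRight Y' π).epi
  have h2 : Epi (Z ◁ π') := (uEE_whiskerLeft Z π').epi
  rw [tensorHom_def]
  infer_instance

/-- A homomorphism trivial on the kernel of a flat surjective homomorphism `q` factors uniquely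
through `q`, and the factorisation is a homomorphism. -/
theorem exists_desc_of_isKernel {G N Q H : Over (Spec (CommRingCat.of k))} [GrpObj G] [GrpObj Q]
    [GrpObj H] [LocallyOfFiniteType G.hom] [LocallyOfFiniteType Q.hom]
    (q : G ⟶ Q) [IsMonHom q] [Flat q.left] [Surjective q.left] (i : N ⟶ G)
    (hK : AlgGrp.IsKernel i q) (φ : G ⟶ H) [IsMonHom φ] (hφ : i ≫ φ = 1) :
    ∃ φ' : Q ⟶ H, IsMonHom φ' ∧ q ≫ φ' = φ ∧ ∀ φ'' : Q ⟶ H, q ≫ φ'' = φ → φ'' = φ' := by
  have hU := Groth.Agent.Lib.Helper41.FppfPoints.uEE_of_flat_surjective q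
  have he : EffectiveEpi q := hU.effectiveEpi
  have hepi : Epi q := hU.epi
  have hcoeq : ∀ {Z : Over (Spec (CommRingCat.of k))} (g₁ g₂ : Z ⟶ G),
      g₁ ≫ q = g₂ ≫ q → g₁ ≫ φ = g₂ ≫ φ := by
    intro Z g₁ g₂ hg
    have h1 : (g₁⁻¹ * g₂) ≫ q = 1 := by
      rw [MonObj.mul_comp, GrpObj.inv_comp, hg, inv_mul_cancel]
    obtain ⟨n, hn⟩ := Groth.Agent.Lib.Helper41.FppfPoints.mem_of_isKernel hK _ h1
    have h2 : (g₁⁻¹ * g₂) ≫ φ = 1 := by
      rw [← hn, Category.assoc, hφ, MonObj.comp_one]
    rw [MonObj.mul_comp, GrpObj.inv_comp, inv_mul_eq_one] at h2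
    exact h2
  let φ' : Q ⟶ H := EffectiveEpi.desc q φ hcoeq
  have hφ' : q ≫ φ' = φ := EffectiveEpi.fac _ _ _
  refine ⟨φ', ⟨?_, ?_⟩, hφ', ?_⟩
  · rw [← IsMonHom.one_hom q, Category.assoc, hφ', IsMonHom.one_hom]
  · have := epi_tensorHom q q
    rw [← cancel_epi (q ⊗ₘ q), ← Category.assoc, ← IsMonHom.mul_hom, Category.assoc, hφ',
      ← Category.assoc, MonoidalCategory.tensorHom_comp_tensorHom, hφ', IsMonHom.mul_hom]
  · intro φ'' h
    rw [← cancel_epi q, h, hφ']

end Field

end Groth.Agent.Lib.Helper41.ActionPoints2
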