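import Groth.Agent.Lib.Helper41.AdamsGamma

/-!
# Eigenspace decomposition of `ℚ ⊗ K` under `ψ^j` when the γ-filtration is finite
-/

set_option autoImplicit false
open Finset TensorProduct

namespace Groth.Agent.Lib.Helper41.AdamsEigen

universe u

open LambdaRing Groth.Agent.Lib.Helper41.AdamsGamma Groth.Agent.Lib.Helper16

variable {K : Type u} [CommRing K] [LambdaOps K]

/-- `ℚF^n`: the `ℚ`-span of the image of `F^n`. -/
def QF (P : PosStructure K) (n : ℕ) : Submodule ℚ (ℚ ⊗[ℤ] K) :=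
  Submodule.span ℚ ((fun x : K => (1 : ℚ) ⊗ₜ[ℤ] x) '' (gammaFiltration P n : Set K))

theorem QF_antitone (P : PosStructure K) {n n' : ℕ} (h : n ≤ n') : QF P n' ≤ QF P n := by
  apply Submodule.span_mono
  apply Set.image_mono
  exact gammaFiltration_antitone P h

theorem QF_eq_bot (P : PosStructure K) (d : ℕ) (hd : gammaFiltration P (d + 1) = ⊥) (n : ℕ)
    (hn : d + 1 ≤ n) : QF P n = ⊥ := by
  apply le_antisymm _ bot_le
  refine le_trans (QF_antitone P hn) ?_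
  unfold QF
  rw [hd, Submodule.span_le]
  rintro _ ⟨x, hx, rfl⟩
  have : x = 0 := by simpa using hx
  simp [this]

theorem QF_zero (P : PosStructure K) : QF P 0 = ⊤ := by
  rw [eq_top_iff]
  intro v _
  induction v using TensorProduct.induction_on with
  | zero => exact Submodule.zero_mem _
  | tmul q x =>
    have : q ⊗ₜ[ℤ] x = q • ((1 : ℚ) ⊗ₜ[ℤ] x) := by
      rw [TensorProduct.smul_tmul', smul_eq_mul, mul_one]
    rw [this]
    apply Submodule.smul_mem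
    apply Submodule.subset_span
    exact ⟨x, one_mem_gammaFiltration_zero P x, rfl⟩
  | add a b ha hb => exact Submodule.add_mem _ (ha trivial) (hb trivial)

omit [LambdaOps K] in
theorem natCast_smul_one_tmul (c : ℕ) (x : K) :
    (c : ℚ) • ((1 : ℚ) ⊗ₜ[ℤ] x) = (1 : ℚ) ⊗ₜ[ℤ] ((c : K) * x) := by
  rw [TensorProduct.smul_tmul', smul_eq_mul, mul_one]
  have h1 : (c : ℚ) = (c : ℤ) • (1 : ℚ) := by simp
  have h2 : (c : K) * x = (c : ℤ) • x := by simp
  rw [h1, h2, TensorProduct.smul_tmul]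

omit [LambdaOps K] in
theorem pow_ne_pow (j : ℕ) (hj : 2 ≤ j) {a b : ℕ} (hab : a ≠ b) : (j : ℚ) ^ a - (j : ℚ) ^ b ≠ 0 := by
  intro h
  have h2 : (j : ℚ) ^ a = (j : ℚ) ^ b := sub_eq_zero.mp h
  have hj0 : (0 : ℚ) < (j : ℚ) := by exact_mod_cast (by omega : 0 < j)
  have hj1 : (j : ℚ) ≠ 1 := by
    intro h1
    have : j = 1 := by exact_mod_cast h1
    omega
  exact hab (pow_right_injective₀ hj0 hj1 h2)

section

variable (P : PosStructure K) (hK : HasSplitting K P) (j : ℕ)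
  (Ψ : ℚ ⊗[ℤ] K →ₗ[ℚ] ℚ ⊗[ℤ] K)
  (hΨ : ∀ x : K, Ψ (1 ⊗ₜ[ℤ] x) = 1 ⊗ₜ[ℤ] adams P j x)

include hK hΨ

theorem map_sub_mem (n : ℕ) (v : ℚ ⊗[ℤ] K) (hv : v ∈ QF P n) :
    Ψ v - ((j : ℚ) ^ n) • v ∈ QF P (n + 1) := by
  unfold QF at hv
  induction hv using Submodule.span_induction with
  | mem v hv =>
    obtain ⟨x, hx, rfl⟩ := hv
    have h1 : ((j : ℚ) ^ n) • ((1 : ℚ) ⊗ₜ[ℤ] x) = (1 : ℚ) ⊗ₜ[ℤ] ((j : K) ^ n * x) := by
      have := natCast_smul_one_tmul (j ^ n) x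
      push_cast at this
      exact this
    rw [hΨ, h1, ← TensorProduct.tmul_sub]
    apply Submodule.subset_span
    exact ⟨_, adams_sub_pow_mul_mem P hK j n x hx, rfl⟩
  | zero => simp
  | add a b _ _ ha hb =>
    have : Ψ (a + b) - ((j : ℚ) ^ n) • (a + b) =
        (Ψ a - ((j : ℚ) ^ n) • a) + (Ψ b - ((j : ℚ) ^ n) • b) := by
      rw [map_add, smul_add]; abel
    rw [this]
    exact Submodule.add_mem _ ha hb
  | smul c a _ ha =>
    have : Ψ (c • a) - ((j : ℚ) ^ n) • (c • a) = c • (Ψ a - ((j : ℚ) ^ n) • a) := by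
      rw [map_smul, smul_sub, smul_comm]
    rw [this]
    exact Submodule.smul_mem _ _ ha

theorem map_mem (n : ℕ) (v : ℚ ⊗[ℤ] K) (hv : v ∈ QF P n) : Ψ v ∈ QF P n := by
  have h1 := QF_antitone P (Nat.le_succ n) (map_sub_mem P hK j Ψ hΨ n v hv)
  have h2 := Submodule.smul_mem _ ((j : ℚ) ^ n) hv
  have := Submodule.add_mem _ h1 h2
  rwa [sub_add_cancel] at this

/-- an eigenvector for `j^m` lying in `ℚF^k`, `k ≠ m`, lies in `ℚF^{k+1}` -/
theorem eigen_step (hj : 2 ≤ j) (m k : ℕ) (hmk : m ≠ k) (v : ℚ ⊗[ℤ] K)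
    (hv : Ψ v = ((j : ℚ) ^ m) • v) (hk : v ∈ QF P k) : v ∈ QF P (k + 1) := by
  have h1 := map_sub_mem P hK j Ψ hΨ k v hk
  rw [hv, ← sub_smul] at h1
  have hc := pow_ne_pow j hj hmk
  have := Submodule.smul_mem _ ((j : ℚ) ^ m - (j : ℚ) ^ k)⁻¹ h1
  rwa [smul_smul, inv_mul_cancel₀ hc, one_smul] at this

theorem eigen_le_QF (hj : 2 ≤ j) (m : ℕ) (v : ℚ ⊗[ℤ] K) (hv : Ψ v = ((j : ℚ) ^ m) • v) :
    v ∈ QF P m := by
  have key : ∀ k, k ≤ m → v ∈ QF P k := by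
    intro k
    induction k with
    | zero => intro _; rw [QF_zero]; trivial
    | succ k ih =>
      intro hk
      exact eigen_step P hK j Ψ hΨ hj m k (by omega) v hv (ih (by omega))
  exact key m le_rfl

theorem eigen_inf_QF (hj : 2 ≤ j) (d : ℕ) (hd : gammaFiltration P (d + 1) = ⊥) (m : ℕ)
    (v : ℚ ⊗[ℤ] K) (hv : Ψ v = ((j : ℚ) ^ m) • v) (hv' : v ∈ QF P (m + 1)) : v = 0 := by
  have key : ∀ t, v ∈ QF P (m + 1 + t) := by
    intro t
    induction t with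
    | zero => exact hv'
    | succ t ih => exact eigen_step P hK j Ψ hΨ hj m (m + 1 + t) (by omega) v hv ih
  have := key d
  rw [QF_eq_bot P d hd _ (by omega)] at this
  simpa using this

/-- `Ψ − j^m` is surjective on `ℚF^n` for `n > m`. -/
theorem solvable (hj : 2 ≤ j) (d : ℕ) (hd : gammaFiltration P (d + 1) = ⊥) (m : ℕ) :
    ∀ t n : ℕ, d + 1 ≤ n + t → m < n → ∀ w ∈ QF P n, ∃ v₁ ∈ QF P n, Ψ v₁ - ((j : ℚ) ^ m) • v₁ = w := by
  intro t
  induction t with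
  | zero =>
    intro n hn _ w hw
    rw [QF_eq_bot P d hd n (by omega)] at hw
    have : w = 0 := by simpa using hw
    exact ⟨0, Submodule.zero_mem _, by simp [this]⟩
  | succ t ih =>
    intro n hn hmn w hw
    have hc := pow_ne_pow j hj (show n ≠ m by omega)
    set c := (j : ℚ) ^ n - (j : ℚ) ^ m with hcdef
    set v' := c⁻¹ • w with hv'
    have hv'mem : v' ∈ QF P n := Submodule.smul_mem _ _ hw
    have h1 := map_sub_mem P hK j Ψ hΨ n v' hv'mem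
    obtain ⟨v'', hv''mem, hv''⟩ := ih (n + 1) (by omega) (by omega) _ h1
    refine ⟨v' - v'', Submodule.sub_mem _ hv'mem (QF_antitone P (Nat.le_succ n) hv''mem), ?_⟩
    rw [map_sub, smul_sub]
    have h2 : Ψ v' - (j : ℚ) ^ m • v' = (Ψ v' - (j : ℚ) ^ n • v') + c • v' := by
      rw [hcdef, sub_smul]; abel
    have h3 : c • v' = w := by rw [hv', smul_smul, mul_inv_cancel₀ hc, one_smul]
    calc Ψ v' - Ψ v'' - ((j : ℚ) ^ m • v' - (j : ℚ) ^ m • v'')
        = (Ψ v' - (j : ℚ) ^ m • v') - (Ψ v'' - (j : ℚ) ^ m • v'') := by abel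
      _ = w := by rw [hv'', h2, h3]; abel

theorem QF_le_eigen_sup (hj : 2 ≤ j) (d : ℕ) (hd : gammaFiltration P (d + 1) = ⊥) (m : ℕ) :
    QF P m ≤ Module.End.eigenspace Ψ ((j : ℚ) ^ m) ⊔ QF P (m + 1) := by
  intro v hv
  have hw := map_sub_mem P hK j Ψ hΨ m v hv
  obtain ⟨v₁, hv₁, h1⟩ := solvable P hK j Ψ hΨ hj d hd m d (m + 1) (by omega) (by omega) _ hw
  have : v = (v - v₁) + v₁ := by abel
  rw [this]
  apply Submodule.add_mem_sup _ hv₁
  rw [Module.End.mem_eigenspace_iff, map_sub, smul_sub]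
  have : Ψ v - Ψ v₁ - ((j : ℚ) ^ m • v - (j : ℚ) ^ m • v₁) =
      (Ψ v - (j : ℚ) ^ m • v) - (Ψ v₁ - (j : ℚ) ^ m • v₁) := by abel
  exact sub_eq_zero.mp (by rw [this, h1, sub_self])

/-- `ℚF^m = V(m) ⊕ ℚF^{m+1}`. -/
theorem eigen_decomp (hj : 2 ≤ j) (d : ℕ) (hd : gammaFiltration P (d + 1) = ⊥) (m : ℕ) :
    Module.End.eigenspace Ψ ((j : ℚ) ^ m) ⊔ QF P (m + 1) = QF P m ∧
      Module.End.eigenspace Ψ ((j : ℚ) ^ m) ⊓ QF P (m + 1) = ⊥ := by
  constructor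
  · apply le_antisymm
    · apply sup_le
      · intro v hv
        exact eigen_le_QF P hK j Ψ hΨ hj m v (Module.End.mem_eigenspace_iff.mp hv)
      · exact QF_antitone P (Nat.le_succ m)
    · exact QF_le_eigen_sup P hK j Ψ hΨ hj d hd m
  · rw [eq_bot_iff]
    intro v hv
    rw [Submodule.mem_inf] at hv
    have := eigen_inf_QF P hK j Ψ hΨ hj d hd m v (Module.End.mem_eigenspace_iff.mp hv.1) hv.2
    simp [this]

/-- `ℚ ⊗ K` is the sum of the eigenspaces `V(m)`, `m ≤ d`. -/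
theorem iSup_eigenspace_eq_top (hj : 2 ≤ j) (d : ℕ) (hd : gammaFiltration P (d + 1) = ⊥) :
    (⨆ m ∈ range (d + 1), Module.End.eigenspace Ψ ((j : ℚ) ^ m)) = ⊤ := by
  have key : ∀ t m : ℕ, d + 1 ≤ m + t →
      QF P m ≤ ⨆ m ∈ range (d + 1), Module.End.eigenspace Ψ ((j : ℚ) ^ m) := by
    intro t
    induction t with
    | zero =>
      intro m hm
      rw [QF_eq_bot P d hd m (by omega)]
      exact bot_le
    | succ t ih =>
      intro m hm
      by_cases hmd : d + 1 ≤ m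
      · rw [QF_eq_bot P d hd m hmd]
        exact bot_le
      · refine le_trans (QF_le_eigen_sup P hK j Ψ hΨ hj d hd m) ?_
        apply sup_le
        · exact le_biSup (fun m => Module.End.eigenspace Ψ ((j : ℚ) ^ m))
            (Finset.mem_range.mpr (by omega))
        · exact ih (m + 1) (by omega)
  rw [eq_top_iff, ← QF_zero P]
  exact key (d + 1) 0 (by omega)

end

section Commute

variable (P : PosStructure K) (hK : HasSplitting K P) (j l : ℕ)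
  (Ψj Ψl : ℚ ⊗[ℤ] K →ₗ[ℚ] ℚ ⊗[ℤ] K)
  (hΨj : ∀ x : K, Ψj (1 ⊗ₜ[ℤ] x) = 1 ⊗ₜ[ℤ] adams P j x)
  (hΨl : ∀ x : K, Ψl (1 ⊗ₜ[ℤ] x) = 1 ⊗ₜ[ℤ] adams P l x)

include hK hΨj hΨl

theorem comm_apply (v : ℚ ⊗[ℤ] K) : Ψj (Ψl v) = Ψl (Ψj v) := by
  induction v using TensorProduct.induction_on with
  | zero => simp
  | tmul q x =>
    have : q ⊗ₜ[ℤ] x = q • ((1 : ℚ) ⊗ₜ[ℤ] x) := by
      rw [TensorProduct.smul_tmul', smul_eq_mul, mul_one]
    rw [this, map_smul, map_smul, map_smul, map_smul, hΨl, hΨj, hΨj, hΨl,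
      adams_adams P hK, adams_adams P hK, mul_comm]
  | add a b ha hb => rw [map_add, map_add, map_add, map_add, ha, hb]

theorem eigenspace_le (hj : 2 ≤ j) (d : ℕ) (hd : gammaFiltration P (d + 1) = ⊥) (m : ℕ) :
    Module.End.eigenspace Ψj ((j : ℚ) ^ m) ≤ Module.End.eigenspace Ψl ((l : ℚ) ^ m) := by
  intro v hv
  rw [Module.End.mem_eigenspace_iff] at hv ⊢
  have hvm := eigen_le_QF P hK j Ψj hΨj hj m v hv
  have hw := map_sub_mem P hK l Ψl hΨl m v hvm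
  have hwe : Ψj (Ψl v - (l : ℚ) ^ m • v) = (j : ℚ) ^ m • (Ψl v - (l : ℚ) ^ m • v) := by
    rw [map_sub, map_smul, comm_apply P hK j l Ψj Ψl hΨj hΨl, hv, map_smul, smul_sub, smul_comm]
  have := eigen_inf_QF P hK j Ψj hΨj hj d hd m _ hwe hw
  exact sub_eq_zero.mp this

end Commute

end Groth.Agent.Lib.Helper41.AdamsEigen
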