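import Groth.Agent.Lib.Helper41.SymmWeight

/-!
# The universal polynomial for `ψ^j(γ^r) - j^r γ^r`

`e_r((1+a_i)^j - 1) - j^r e_r(a)` is a polynomial of weight `≥ r + 1` in the `e_k(a)`.
-/

set_option autoImplicit false
open Finset

namespace Groth.Agent.Lib.Helper41.SymmWeight

open MvPolynomial

theorem prod_sub_prod_mem {A : Type*} [CommRing A] (I : Ideal A) {ι : Type*} (T : Finset ι)
    (x y : ι → A) (hx : ∀ i ∈ T, x i ∈ I) (hy : ∀ i ∈ T, y i ∈ I)
    (hxy : ∀ i ∈ T, x i - y i ∈ I ^ 2) :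
    ∏ i ∈ T, x i - ∏ i ∈ T, y i ∈ I ^ (T.card + 1) ∧ ∏ i ∈ T, y i ∈ I ^ T.card := by
  classical
  induction T using Finset.induction_on with
  | empty => simp
  | insert a T ha ih =>
    have ih' := ih (fun i hi => hx i (Finset.mem_insert_of_mem hi))
      (fun i hi => hy i (Finset.mem_insert_of_mem hi))
      (fun i hi => hxy i (Finset.mem_insert_of_mem hi))
    rw [Finset.prod_insert ha, Finset.prod_insert ha, Finset.card_insert_of_notMem ha]
    constructor
    · have e : x a * ∏ i ∈ T, x i - y a * ∏ i ∈ T, y i =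
          x a * (∏ i ∈ T, x i - ∏ i ∈ T, y i) + (x a - y a) * ∏ i ∈ T, y i := by ring
      rw [e]
      apply Ideal.add_mem
      · have := Ideal.mul_mem_mul (hx a (Finset.mem_insert_self a T)) ih'.1
        rwa [← pow_succ'] at this
      · have := Ideal.mul_mem_mul (hxy a (Finset.mem_insert_self a T)) ih'.2
        rw [← pow_add, add_comm 2] at this
        exact this
    · have := Ideal.mul_mem_mul (hy a (Finset.mem_insert_self a T)) ih'.2
      rwa [← pow_succ'] at this

theorem one_add_pow_sub_mem {A : Type*} [CommRing A] (I : Ideal A) (a : A) (ha : a ∈ I) (j : ℕ) :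
    (1 + a) ^ j - 1 - (j : A) * a ∈ I ^ 2 := by
  induction j with
  | zero => simp
  | succ j ih =>
    have e : (1 + a) ^ (j + 1) - 1 - ((j + 1 : ℕ) : A) * a =
        (1 + a) * ((1 + a) ^ j - 1 - (j : A) * a) + (j : A) * a ^ 2 := by
      push_cast; ring
    rw [e]
    exact Ideal.add_mem _ (Ideal.mul_mem_left _ _ ih) (Ideal.mul_mem_left _ _ (Ideal.pow_mem_pow ha 2))

theorem one_add_pow_sub_one_mem {A : Type*} [CommRing A] (I : Ideal A) (a : A) (ha : a ∈ I) (j : ℕ) :
    (1 + a) ^ j - 1 ∈ I := by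
  have h1 := Ideal.pow_le_self (two_ne_zero) (one_add_pow_sub_mem I a ha j)
  have h2 : (1 + a) ^ j - 1 = ((1 + a) ^ j - 1 - (j : A) * a) + (j : A) * a := by ring
  rw [h2]
  exact Ideal.add_mem _ h1 (Ideal.mul_mem_left _ _ ha)

/-- the symmetric polynomial `e_r((1 + X_i)^j - 1) - j^r e_r(X)` -/
noncomputable def adamsSym (m j r : ℕ) : MvPolynomial (Fin m) ℤ :=
  aeval (fun i : Fin m => (1 + X i : MvPolynomial (Fin m) ℤ) ^ j - 1) (esymm (Fin m) ℤ r) -
    C ((j : ℤ) ^ r) * esymm (Fin m) ℤ r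

theorem adamsSym_isSymmetric (m j r : ℕ) : (adamsSym m j r).IsSymmetric := by
  unfold adamsSym
  apply IsSymmetric.sub
  · intro e
    rw [comp_aeval_apply]
    have h : (fun i : Fin m => rename e ((1 + X i : MvPolynomial (Fin m) ℤ) ^ j - 1)) =
        (fun i : Fin m => (1 + X i : MvPolynomial (Fin m) ℤ) ^ j - 1) ∘ e := by
      funext i
      simp
    rw [h, ← aeval_rename, esymm_isSymmetric (Fin m) ℤ r e]
  · exact (IsSymmetric.C _).mul (esymm_isSymmetric _ _ _)

theorem adamsSym_eq_sum (m j r : ℕ) :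
    adamsSym m j r = ∑ T ∈ powersetCard r (univ : Finset (Fin m)),
      (∏ i ∈ T, ((1 + X i : MvPolynomial (Fin m) ℤ) ^ j - 1) -
        ∏ i ∈ T, ((j : MvPolynomial (Fin m) ℤ) * X i)) := by
  unfold adamsSym
  rw [esymm, map_sum, Finset.mul_sum, ← Finset.sum_sub_distrib]
  refine Finset.sum_congr rfl fun T hT => ?_
  have hc : T.card = r := (Finset.mem_powersetCard.mp hT).2
  rw [map_prod, Finset.prod_mul_distrib, Finset.prod_const, hc]
  simp

theorem adamsSym_mem (m j r : ℕ) : adamsSym m j r ∈ idealOfVars (Fin m) ℤ ^ (r + 1) := by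
  rw [adamsSym_eq_sum]
  apply Ideal.sum_mem
  intro T hT
  have hc : T.card = r := (Finset.mem_powersetCard.mp hT).2
  have hX : ∀ i : Fin m, (X i : MvPolynomial (Fin m) ℤ) ∈ idealOfVars (Fin m) ℤ :=
    fun i => Ideal.subset_span ⟨i, rfl⟩
  have := (prod_sub_prod_mem (idealOfVars (Fin m) ℤ) T
    (fun i => (1 + X i : MvPolynomial (Fin m) ℤ) ^ j - 1)
    (fun i => (j : MvPolynomial (Fin m) ℤ) * X i)
    (fun i _ => one_add_pow_sub_one_mem _ _ (hX i) j)
    (fun i _ => Ideal.mul_mem_left _ _ (hX i))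
    (fun i _ => one_add_pow_sub_mem _ _ (hX i) j)).1
  rwa [hc] at this

/-- The universal polynomial `Q_{j,r}` in the elementary symmetric functions, of weight `≥ r + 1`. -/
theorem exists_adams_poly (m j r : ℕ) :
    ∃ Q : MvPolynomial (Fin m) ℤ, (∀ x ∈ Q.support, r + 1 ≤ wt x) ∧
      aeval (fun i : Fin m => esymm (Fin m) ℤ (i + 1)) Q = adamsSym m j r := by
  obtain ⟨Q, hQ⟩ := esymmAlgHom_surjective (σ := Fin m) (n := m) ℤ (by simp)
    ⟨adamsSym m j r, adamsSym_isSymmetric m j r⟩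
  have hQ' : aeval (fun i : Fin m => esymm (Fin m) ℤ (i + 1)) Q = adamsSym m j r := by
    rw [← esymmAlgHom_apply, hQ]
  refine ⟨Q, ?_, hQ'⟩
  apply le_wt_of_mem_support (σ := Fin m) (by simp) Q (r + 1)
  rw [hQ']
  exact adamsSym_mem m j r

/-- Specialisation to a multiset `t` of `m` elements of a commutative ring. -/
theorem aeval_adamsSym_multiset {A : Type*} [CommRing A] (m j r : ℕ) (a : Fin m → A) :
    aeval a (adamsSym m j r) =
      ((univ.val.map a).map fun b => (1 + b) ^ j - 1).esymm r -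
        (j : A) ^ r * (univ.val.map a).esymm r := by
  unfold adamsSym
  rw [map_sub, map_mul, comp_aeval_apply, aeval_esymm_eq_multiset_esymm, aeval_esymm_eq_multiset_esymm,
    Multiset.map_map]
  congr 2
  · congr 1
    funext i
    simp
  · simp

theorem exists_fun_of_card {A : Type*} (t : Multiset A) (m : ℕ) (h : Multiset.card t = m) :
    ∃ a : Fin m → A, (univ : Finset (Fin m)).val.map a = t := by
  subst h
  obtain ⟨l, rfl⟩ : ∃ l : List A, t = ↑l := ⟨t.toList, (Multiset.coe_toList t).symm⟩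
  refine ⟨fun i => l.get (Fin.cast (by simp) i), ?_⟩
  rw [Fin.univ_val_map]
  congr 1
  apply List.ext_get
  · simp
  · intro n h1 h2
    simp

/-- The universal polynomial evaluated on a multiset of `m` elements. -/
theorem exists_adams_poly_multiset (m j r : ℕ) :
    ∃ Q : MvPolynomial (Fin m) ℤ, (∀ x ∈ Q.support, r + 1 ≤ wt x) ∧
      ∀ {A : Type*} [CommRing A] (t : Multiset A), Multiset.card t = m →
        aeval (fun i : Fin m => t.esymm ((i : ℕ) + 1)) Q =
          (t.map fun b => (1 + b) ^ j - 1).esymm r - (j : A) ^ r * t.esymm r := by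
  obtain ⟨Q, hQw, hQe⟩ := exists_adams_poly m j r
  refine ⟨Q, hQw, ?_⟩
  intro A _ t ht
  obtain ⟨a, rfl⟩ := exists_fun_of_card t m ht
  have h1 := congrArg (aeval a) hQe
  rw [comp_aeval_apply, aeval_adamsSym_multiset] at h1
  rw [← h1]
  congr 2
  funext i
  rw [aeval_esymm_eq_multiset_esymm]

end Groth.Agent.Lib.Helper41.SymmWeight
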