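import Groth.Agent.Lib.Helper14.QuasiAffineGroup
import Groth.Prelude.Def_CoactBr
import Groth.Agent.Lib.Helper93.ActionOpen

/-!
# Affinization of an action (helper41)

For a quasi-compact quasi-separated scheme `X` over a field `k` with an action of a qcqs group scheme
`G`, the affinization `Spec Γ(X, O_X)` carries a unique action of `G` for which the canonical map
`X ⟶ Spec Γ(X, O_X)` is equivariant (Künneth in degree zero).
-/

set_option autoImplicit false
set_option linter.unusedSectionVars false
universe u

open CategoryTheory Limits MonoidalCategory CartesianMonoidalCategory MonObj AlgebraicGeometry Opposite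

namespace Groth.Agent.Lib.Helper41.AffinizeAction

open Groth.Agent.Lib.Helper14.QuasiAffineGroup

variable {k : Type u} [Field k]

/-- the ring of global functions of a `k`-scheme, as a type. -/
abbrev GammaAlg (X : Over (Spec (CommRingCat.of k))) : Type u := Γ(X.left, ⊤)

noncomputable instance algebraGammaAlg (X : Over (Spec (CommRingCat.of k))) : Algebra k (GammaAlg X) :=
  ((Scheme.ΓSpecIso (CommRingCat.of k)).inv ≫ X.hom.appTop).hom.toAlgebra

theorem affMap_w (X : Over (Spec (CommRingCat.of k))) :
    X.left.toSpecΓ ≫ (CoactBr.sp k (GammaAlg X)).hom = X.hom := by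
  change X.left.toSpecΓ ≫ Spec.map ((Scheme.ΓSpecIso (CommRingCat.of k)).inv ≫ X.hom.appTop) = X.hom
  rw [Spec.map_comp, ← Category.assoc, ← Scheme.toSpecΓ_naturality, Category.assoc,
    toSpecΓ_SpecMap_ΓSpecIso_inv, Category.comp_id]

/-- the canonical map to the affinization, over `Spec k`. -/
noncomputable def affMap (X : Over (Spec (CommRingCat.of k))) : X ⟶ CoactBr.sp k (GammaAlg X) :=
  Over.homMk X.left.toSpecΓ (affMap_w X)

theorem affMap_left (X : Over (Spec (CommRingCat.of k))) : (affMap X).left = X.left.toSpecΓ := rfl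

instance isIso_affMap_appTop (X : Over (Spec (CommRingCat.of k))) :
    IsIso (affMap X).left.appTop := by
  change IsIso X.left.toSpecΓ.appTop
  rw [Scheme.toSpecΓ_appTop]; infer_instance

instance isAffine_sp (B : Type u) [CommRing B] [Algebra k B] : IsAffine (CoactBr.sp k B).left :=
  inferInstanceAs (IsAffine (Spec _))

variable {G X : Over (Spec (CommRingCat.of k))} [GrpObj G]
  [CompactSpace G.left] [QuasiSeparatedSpace G.left]
  [CompactSpace X.left] [QuasiSeparatedSpace X.left]

theorem isIso_whiskerLeft_affMap (W : Over (Spec (CommRingCat.of k)))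
    [CompactSpace W.left] [QuasiSeparatedSpace W.left] :
    IsIso (W ◁ affMap X).left.appTop := by
  have h0 : IsIso (𝟙 W : W ⟶ W).left.appTop := by
    rw [Over.id_left]; simp only [Scheme.Hom.id_appTop]; infer_instance
  have hX1 : CompactSpace (CoactBr.sp k (GammaAlg X)).left := inferInstance
  have hX2 : QuasiSeparatedSpace (CoactBr.sp k (GammaAlg X)).left := inferInstance
  have := isIso_tensorHom_left_appTop (𝟙 W) (affMap X)
  rwa [id_tensorHom] at this

/-- the action induced on the affinization. -/
theorem exists_action (a : AlgGrp.Action G X) :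
    ∃ b : AlgGrp.Action G (CoactBr.sp k (GammaAlg X)),
      (G ◁ affMap X) ≫ b.act = a.act ≫ affMap X := by
  have hq : IsIso (G ◁ affMap X).left.appTop := isIso_whiskerLeft_affMap G
  obtain ⟨m, hm⟩ := over_exists_lift_of_isIso_appTop (G ◁ affMap X) (a.act ≫ affMap X)
  have hU1 : CompactSpace (𝟙_ (Over (Spec (CommRingCat.of k)))).left :=
    inferInstanceAs (CompactSpace (Spec (CommRingCat.of k)))
  have hU2 : QuasiSeparatedSpace (𝟙_ (Over (Spec (CommRingCat.of k)))).left :=
    inferInstanceAs (QuasiSeparatedSpace (Spec (CommRingCat.of k)))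
  have hGG1 := compactSpace_tensorObj_left G G
  have hGG2 := quasiSeparatedSpace_tensorObj_left G G
  have hq1 : IsIso (𝟙_ (Over (Spec (CommRingCat.of k))) ◁ affMap X).left.appTop :=
    isIso_whiskerLeft_affMap _
  have hq2 : IsIso ((G ⊗ G) ◁ affMap X).left.appTop := isIso_whiskerLeft_affMap _
  refine ⟨⟨m, ?_, ?_⟩, hm⟩
  · apply over_ext_of_isIso_appTop (𝟙_ (Over (Spec (CommRingCat.of k))) ◁ affMap X)
    rw [← Category.assoc, whisker_exchange, Category.assoc, hm, ← Category.assoc, a.one_act,
      leftUnitor_naturality]
  · apply over_ext_of_isIso_appTop ((G ⊗ G) ◁ affMap X)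
    rw [← Category.assoc, whisker_exchange, Category.assoc, hm, ← Category.assoc, a.mul_act,
      ← Category.assoc ((G ⊗ G) ◁ affMap X), associator_naturality_right, Category.assoc,
      Category.assoc, Category.assoc, ← Category.assoc (G ◁ G ◁ affMap X),
      ← MonoidalCategory.whiskerLeft_comp, hm, MonoidalCategory.whiskerLeft_comp, Category.assoc, hm]

end Groth.Agent.Lib.Helper41.AffinizeAction
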