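import Mathlib

/-!
# A theorem of Baer on commutators of normal subgroups

If `A`, `B` are normal subgroups of a group such that `A ⊓ C(B)` has finite index in `A` and
`B ⊓ C(A)` has finite index in `B`, then `⁅A, B⁆` is finite.  We also give a relative form modulo
the normal subgroup `⁅A₀, B⁆ ⊔ ⁅A, B₀⁆`.
-/

set_option autoImplicit false

namespace Groth.Agent.Lib.Helper41.Baer

open Subgroup
open scoped commutatorElement Pointwise

variable {Q : Type*} [Group Q]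

theorem comm_mul_right (a y z : Q) : ⁅a, y * z⁆ = ⁅a, y⁆ * (y * ⁅a, z⁆ * y⁻¹) := by
  simp only [commutatorElement_def]; group

theorem comm_mul_left (x y z : Q) : ⁅x * y, z⁆ = x * ⁅y, z⁆ * x⁻¹ * ⁅x, z⁆ := by
  simp only [commutatorElement_def]; group

theorem comm_eq_one_of_commute {x y : Q} (h : Commute x y) : ⁅x, y⁆ = 1 := by
  rw [commutatorElement_eq_one_iff_commute]; exact h

/-- core of Baer's theorem -/
theorem finite_commutator_core (A B : Subgroup Q) [hAn : A.Normal] [hBn : B.Normal] (S : Finset Q)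
    (hS : ∀ a ∈ A, ∀ b ∈ B, ⁅a, b⁆ ∈ S) (n m : ℕ) (hn0 : n ≠ 0) (hm0 : m ≠ 0)
    (hn : ∀ b ∈ B, ∀ a ∈ A, Commute a (b ^ n)) (hm : ∀ a ∈ A, ∀ b ∈ B, Commute (a ^ m) b) :
    Finite (⁅A, B⁆ : Subgroup Q) := by
  classical
  set D : Subgroup Q := ⁅A, B⁆ with hD
  have hDn : D.Normal := Subgroup.commutator_normal A B
  have hDle : D ≤ A ⊓ B := Subgroup.commutator_le_inf A B
  have hDA : ∀ d ∈ D, d ∈ A := fun d hd => (hDle hd).1
  have hDB : ∀ d ∈ D, d ∈ B := fun d hd => (hDle hd).2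
  have hcD : ∀ a ∈ A, ∀ b ∈ B, ⁅a, b⁆ ∈ D := fun a ha b hb =>
    Subgroup.commutator_mem_commutator ha hb
  -- the generating set
  let S' : Set Q := { g | ∃ g₁ ∈ A, ∃ g₂ ∈ B, ⁅g₁, g₂⁆ = g }
  have hS'sub : S' ⊆ (S : Set Q) := by
    rintro _ ⟨a, ha, b, hb, rfl⟩
    exact hS a ha b hb
  have hS'fin : S'.Finite := S.finite_toSet.subset hS'sub
  have hDcl : D = closure S' := rfl
  have hfg : Group.FG D := by
    rw [Group.fg_iff_subgroup_fg, Subgroup.fg_iff]
    exact ⟨S', hDcl.symm, hS'fin⟩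
  have hcomfin : Finite (commutatorSet D) := by
    have h1 : commutatorSet D ⊆ (Subtype.val : D → Q) ⁻¹' (S : Set Q) := by
      rintro _ ⟨d₁, d₂, rfl⟩
      change ((⁅d₁, d₂⁆ : D) : Q) ∈ S
      have : ((⁅d₁, d₂⁆ : D) : Q) = ⁅(d₁ : Q), (d₂ : Q)⁆ := map_commutatorElement D.subtype d₁ d₂
      rw [this]
      exact hS _ (hDA _ d₁.2) _ (hDB _ d₂.2)
    exact ((S.finite_toSet.preimage Subtype.val_injective.injOn).subset h1).to_subtype
  have hfi : FiniteIndex (center D) := Subgroup.finiteIndex_center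
  set r : ℕ := (center D).index with hr
  have hr0 : r ≠ 0 := FiniteIndex.index_ne_zero
  let φ := MonoidHom.transferCenterPow D
  have hφ : ∀ d : D, (((φ d : center D) : D) : Q) = (d : Q) ^ r := by
    intro d
    have := MonoidHom.transferCenterPow_apply (G := D) d
    rw [this]
    rfl
  -- (F1) multiplicativity of `d ↦ d ^ r`
  have F1 : ∀ d ∈ D, ∀ d' ∈ D, (d * d') ^ r = d ^ r * d' ^ r := by
    intro d hd d' hd'
    have h := congrArg (fun z : center D => ((z : D) : Q)) (map_mul φ ⟨d, hd⟩ ⟨d', hd'⟩)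
    simp only [Subgroup.coe_mul] at h
    rw [hφ, hφ, hφ] at h
    exact h
  -- (F2) centrality of `d ^ r`
  have F2 : ∀ d ∈ D, ∀ x ∈ D, Commute x (d ^ r) := by
    intro d hd x hx
    have hz := (φ ⟨d, hd⟩).2
    rw [Subgroup.mem_center_iff] at hz
    have h := congrArg (fun z : D => (z : Q)) (hz ⟨x, hx⟩)
    simp only [Subgroup.coe_mul] at h
    rw [hφ] at h
    exact h
  have hpowD : ∀ d ∈ D, d ^ r ∈ D := fun d hd => pow_mem hd r
  have hconjD : ∀ (g : Q), ∀ d ∈ D, g * d * g⁻¹ ∈ D := fun g d hd => hDn.conj_mem d hd g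
  -- Claim 1
  have C1 : ∀ a ∈ A, ∀ x ∈ D, (⁅a, x⁆ ^ r) ^ n = 1 := by
    intro a ha x hx
    have hxB := hDB x hx
    have hind : ∀ j : ℕ, ⁅a, x ^ j⁆ ^ r = (⁅a, x⁆ ^ r) ^ j := by
      intro j
      induction j with
      | zero =>
        rw [pow_zero, pow_zero, commutatorElement_one_right, one_pow]
      | succ j ih =>
        have htj : ⁅a, x ^ j⁆ ∈ D := hcD a ha _ (pow_mem hxB j)
        rw [pow_succ', comm_mul_right, F1 _ (hcD a ha x hxB) _ (hconjD x _ htj), conj_pow, ih,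
          pow_succ']
        congr 1
        have hc : Commute x ((⁅a, x⁆ ^ r) ^ j) := by
          rw [← ih]
          exact F2 _ htj x hx
        rw [hc.eq, mul_assoc, mul_inv_cancel, mul_one]
    rw [← hind n]
    rw [comm_eq_one_of_commute (hn x hxB a ha), one_pow]
  -- Claim 2: elements of `A` commute with `(d ^ r) ^ n`
  have C2 : ∀ a ∈ A, ∀ d ∈ D, Commute a ((d ^ r) ^ n) := by
    intro a ha d hd
    have h1 : ⁅a, d⁆ ^ r = a * d ^ r * a⁻¹ * (d ^ r)⁻¹ := by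
      have e : ⁅a, d⁆ = (a * d * a⁻¹) * d⁻¹ := by rw [commutatorElement_def]
      rw [e, F1 _ (hconjD a d hd) _ (inv_mem hd), conj_pow, inv_pow]
    have h2 := C1 a ha d hd
    rw [h1] at h2
    have hc : Commute (a * d ^ r * a⁻¹) (d ^ r)⁻¹ := by
      have := F2 d hd (a * d ^ r * a⁻¹) (hconjD a _ (hpowD d hd))
      exact this.inv_right
    rw [hc.mul_pow, conj_pow, inv_pow, mul_inv_eq_one] at h2
    -- a * w^n * a⁻¹ = w^n
    change a * (d ^ r) ^ n = (d ^ r) ^ n * a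
    calc a * (d ^ r) ^ n = (a * (d ^ r) ^ n * a⁻¹) * a := by group
      _ = (d ^ r) ^ n * a := by rw [h2]
  -- Claim 3
  have C3 : ∀ a ∈ A, ∀ b ∈ B, (⁅a, b⁆ ^ r) ^ (n * m) = 1 := by
    intro a ha b hb
    have ht : ⁅a, b⁆ ∈ D := hcD a ha b hb
    have hind : ∀ j : ℕ, (⁅a ^ j, b⁆ ^ r) ^ n = ((⁅a, b⁆ ^ r) ^ n) ^ j := by
      intro j
      induction j with
      | zero =>
        rw [pow_zero, pow_zero, commutatorElement_one_left, one_pow, one_pow]
      | succ j ih =>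
        have hTj : ⁅a ^ j, b⁆ ∈ D := hcD _ (pow_mem ha j) b hb
        rw [pow_succ' a, comm_mul_left, F1 _ (hconjD a _ hTj) _ ht, conj_pow]
        have hc : Commute (a * ⁅a ^ j, b⁆ ^ r * a⁻¹) (⁅a, b⁆ ^ r) :=
          (F2 _ ht _ (hconjD a _ (hpowD _ hTj)))
        rw [hc.mul_pow, conj_pow]
        have h3 := C2 a ha _ hTj
        rw [h3.eq, mul_inv_cancel_right, ih, pow_succ]
    rw [pow_mul, ← hind m]
    rw [comm_eq_one_of_commute (hm a ha b hb), one_pow, one_pow]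
  -- every element of `D` is killed by `r * (n * m)`
  have hkill : ∀ d ∈ D, (d ^ r) ^ (n * m) = 1 := by
    intro d hd
    induction hd using Subgroup.closure_induction'' with
    | mem x hx =>
      obtain ⟨a, ha, b, hb, rfl⟩ := hx
      exact C3 a ha b hb
    | inv_mem x hx =>
      obtain ⟨a, ha, b, hb, rfl⟩ := hx
      rw [inv_pow, inv_pow, C3 a ha b hb, inv_one]
    | one => rw [one_pow, one_pow]
    | mul x y hx hy ihx ihy =>
      have hxD : x ∈ D := hx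
      have hyD : y ∈ D := hy
      rw [F1 x hxD y hyD, (F2 y hyD _ (hpowD x hxD)).mul_pow, ihx, ihy, one_mul]
  -- conclude
  have hfgc : Group.FG (center D) := Subgroup.fg_of_index_ne_zero (center D)
  have htors : IsMulTorsion (center D) := by
    intro z
    rw [isOfFinOrder_iff_pow_eq_one]
    refine ⟨r * (n * m), Nat.pos_of_ne_zero (mul_ne_zero hr0 (mul_ne_zero hn0 hm0)), ?_⟩
    apply Subtype.ext
    apply Subtype.ext
    have := hkill (z : D) (z : D).2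
    rw [← pow_mul] at this
    simpa using this
  have hfinc : Finite (center D) := by
    open scoped IsMulCommutative in
    exact CommGroup.finite_of_fg_isMulTorsion _ htors
  have hcard := (center D).card_mul_index
  refine Nat.finite_of_card_ne_zero ?_
  rw [← hcard]
  exact mul_ne_zero Finite.card_pos.ne' hr0

theorem exists_pow_mem_centralizer (A B : Subgroup Q) [A.Normal] (RB : Finset Q)
    (hRB : ∀ y ∈ B, ∃ s ∈ RB, s ∈ B ∧ s⁻¹ * y ∈ centralizer (A : Set Q)) :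
    ∃ n : ℕ, n ≠ 0 ∧ ∀ b ∈ B, b ^ n ∈ centralizer (A : Set Q) := by
  classical
  let H : Subgroup B := (centralizer (A : Set Q)).subgroupOf B
  let g : Q → B := fun q => if h : q ∈ B then ⟨q, h⟩ else 1
  have hcov : ⋃ i ∈ RB, g i • (H : Set B) = Set.univ := by
    rw [Set.eq_univ_iff_forall]
    intro y
    obtain ⟨s, hs, hsB, hsy⟩ := hRB y y.2
    simp only [Set.mem_iUnion]
    refine ⟨s, hs, ?_⟩
    rw [mem_leftCoset_iff]
    change (g s)⁻¹ * y ∈ H
    rw [Subgroup.mem_subgroupOf]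
    simp only [g, dif_pos hsB]
    exact hsy
  have hfi : H.FiniteIndex := Subgroup.finiteIndex_of_leftCoset_cover_const hcov
  refine ⟨H.index, FiniteIndex.index_ne_zero, ?_⟩
  intro b hb
  have := Subgroup.pow_index_mem H ⟨b, hb⟩
  rw [Subgroup.mem_subgroupOf] at this
  simpa using this

/-- **Baer's theorem**, with finite coset covers. -/
theorem finite_commutator (A B : Subgroup Q) [A.Normal] [B.Normal] (RA RB : Finset Q)
    (hRA : ∀ x ∈ A, ∃ r ∈ RA, r ∈ A ∧ r⁻¹ * x ∈ centralizer (B : Set Q))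
    (hRB : ∀ y ∈ B, ∃ s ∈ RB, s ∈ B ∧ s⁻¹ * y ∈ centralizer (A : Set Q)) :
    Finite (⁅A, B⁆ : Subgroup Q) := by
  classical
  obtain ⟨n, hn0, hn⟩ := exists_pow_mem_centralizer A B RB hRB
  obtain ⟨m, hm0, hm⟩ := exists_pow_mem_centralizer B A RA hRA
  let S : Finset Q := (RA ×ˢ RB).image (fun p => ⁅p.1, p.2⁆)
  refine finite_commutator_core A B S ?_ n m hn0 hm0 ?_ ?_
  · intro a ha b hb
    obtain ⟨r, hr, hrA, hra⟩ := hRA a ha
    obtain ⟨s, hs, hsB, hsb⟩ := hRB b hb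
    rw [Subgroup.mem_centralizer_iff] at hra hsb
    have hc1 : Commute b (r⁻¹ * a) := hra b hb
    have hc2 : Commute r (s⁻¹ * b) := hsb r hrA
    have hc2' : Commute r⁻¹ (s⁻¹ * b) := hc2.inv_left
    have e : ⁅a, b⁆ = ⁅r, s⁆ := by
      calc ⁅a, b⁆ = r * ((r⁻¹ * a) * b) * (r⁻¹ * a)⁻¹ * r⁻¹ * b⁻¹ := by
            rw [commutatorElement_def]; group
        _ = r * (b * (r⁻¹ * a)) * (r⁻¹ * a)⁻¹ * r⁻¹ * b⁻¹ := by rw [hc1.eq]
        _ = r * s * ((s⁻¹ * b) * r⁻¹) * (s⁻¹ * b)⁻¹ * s⁻¹ := by group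
        _ = r * s * (r⁻¹ * (s⁻¹ * b)) * (s⁻¹ * b)⁻¹ * s⁻¹ := by rw [hc2'.eq]
        _ = ⁅r, s⁆ := by rw [commutatorElement_def]; group
    rw [e]
    exact Finset.mem_image.mpr ⟨(r, s), Finset.mem_product.mpr ⟨hr, hs⟩, rfl⟩
  · intro b hb a ha
    have := hn b hb
    rw [Subgroup.mem_centralizer_iff] at this
    exact this a ha
  · intro a ha b hb
    have := hm a ha
    rw [Subgroup.mem_centralizer_iff] at this
    exact (this b hb).symm

/-- Relative form of Baer's theorem: finitely many cosets of `⁅A₀, B⁆ ⊔ ⁅A, B₀⁆` cover `⁅A, B⁆`. -/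
theorem exists_finite_cover (A B A₀ B₀ : Subgroup Q) [hA : A.Normal] [hB : B.Normal]
    [hA₀ : A₀.Normal] [hB₀ : B₀.Normal] (RA RB : Finset Q)
    (hRA : ∀ x ∈ A, ∃ r ∈ RA, r ∈ A ∧ r⁻¹ * x ∈ A₀)
    (hRB : ∀ y ∈ B, ∃ s ∈ RB, s ∈ B ∧ s⁻¹ * y ∈ B₀) :
    ∃ F : Finset Q, (∀ d ∈ F, d ∈ (⁅A, B⁆ : Subgroup Q)) ∧
      ∀ x ∈ (⁅A, B⁆ : Subgroup Q), ∃ d ∈ F, d⁻¹ * x ∈ (⁅A₀, B⁆ ⊔ ⁅A, B₀⁆ : Subgroup Q) := by
  classical
  set N : Subgroup Q := ⁅A₀, B⁆ ⊔ ⁅A, B₀⁆ with hN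
  have hNn : N.Normal := Subgroup.sup_normal _ _
  let π : Q →* Q ⧸ N := QuotientGroup.mk' N
  have hπs : Function.Surjective π := QuotientGroup.mk'_surjective N
  have hπ1 : ∀ z ∈ N, π z = 1 := fun z hz => (QuotientGroup.eq_one_iff z).mpr hz
  have hAn : (A.map π).Normal := hA.map π hπs
  have hBn : (B.map π).Normal := hB.map π hπs
  have hfin : Finite (⁅A.map π, B.map π⁆ : Subgroup (Q ⧸ N)) := by
    refine finite_commutator (A.map π) (B.map π) (RA.image π) (RB.image π) ?_ ?_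
    · rintro _ ⟨x, hx, rfl⟩
      obtain ⟨r, hr, hrA, hrx⟩ := hRA x hx
      refine ⟨π r, Finset.mem_image_of_mem π hr, Subgroup.mem_map_of_mem π hrA, ?_⟩
      rw [← map_inv, ← map_mul, Subgroup.mem_centralizer_iff]
      rintro _ ⟨y, hy, rfl⟩
      have h1 : ⁅r⁻¹ * x, y⁆ ∈ N :=
        (le_sup_left : (⁅A₀, B⁆ : Subgroup Q) ≤ N) (Subgroup.commutator_mem_commutator hrx hy)
      have h2 := hπ1 _ h1
      rw [map_commutatorElement, commutatorElement_eq_one_iff_mul_comm] at h2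
      exact h2.symm
    · rintro _ ⟨y, hy, rfl⟩
      obtain ⟨s, hs, hsB, hsy⟩ := hRB y hy
      refine ⟨π s, Finset.mem_image_of_mem π hs, Subgroup.mem_map_of_mem π hsB, ?_⟩
      rw [← map_inv, ← map_mul, Subgroup.mem_centralizer_iff]
      rintro _ ⟨x, hx, rfl⟩
      have h1 : ⁅x, s⁻¹ * y⁆ ∈ N :=
        (le_sup_right : (⁅A, B₀⁆ : Subgroup Q) ≤ N) (Subgroup.commutator_mem_commutator hx hsy)
      have h2 := hπ1 _ h1
      rw [map_commutatorElement, commutatorElement_eq_one_iff_mul_comm] at h2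
      exact h2
  rw [← Subgroup.map_commutator] at hfin
  have hft : Fintype ((⁅A, B⁆ : Subgroup Q).map π) := Fintype.ofFinite _
  have hch : ∀ q : (⁅A, B⁆ : Subgroup Q).map π, ∃ d ∈ (⁅A, B⁆ : Subgroup Q), π d = q := fun q => q.2
  choose d hd hdq using hch
  refine ⟨Finset.univ.image d, ?_, ?_⟩
  · intro z hz
    obtain ⟨q, -, rfl⟩ := Finset.mem_image.mp hz
    exact hd q
  · intro x hx
    let q : (⁅A, B⁆ : Subgroup Q).map π := ⟨π x, Subgroup.mem_map_of_mem π hx⟩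
    refine ⟨d q, Finset.mem_image_of_mem d (Finset.mem_univ q), ?_⟩
    have : π (d q) = π x := hdq q
    exact QuotientGroup.eq.mp this

end Groth.Agent.Lib.Helper41.Baer
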