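import Groth.Agent.Lib.Helper41.SmallestProps

/-!
# A dense multiplicatively stable set of points containing a nonempty open is everything (helper41)

`Γ` any group scheme over a field `k`.

* `eq_univ_of_dense_mul_stable` : `W ⊆ |Γ|` dense, stable under multiplication (pointwise on
  `Γ ⊗ Γ`), containing a nonempty open subset ⇒ `W = univ`.
-/

set_option autoImplicit false
universe u
open CategoryTheory MonoidalCategory CartesianMonoidalCategory MonObj AlgebraicGeometry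

namespace Groth.Agent.Lib.Helper41.DenseStable

variable {k : Type u} [Field k]

theorem eq_univ_of_dense_mul_stable (Γ : Over (Spec (CommRingCat.of k))) [GrpObj Γ]
    (W : Set Γ.left) (hW : Dense W) (U : Set Γ.left) (hU : IsOpen U) (hUne : U.Nonempty)
    (hUW : U ⊆ W)
    (hmul : ∀ w : (Γ ⊗ Γ).left, (fst Γ Γ).left.base w ∈ W → (snd Γ Γ).left.base w ∈ W →
      μ[Γ].left.base w ∈ W) : W = Set.univ := by
  have hsub : Subsingleton (Spec (CommRingCat.of k)) :=
    inferInstanceAs (Subsingleton (PrimeSpectrum k))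
  apply Set.eq_univ_of_forall
  intro p
  let Kp : Over (Spec (CommRingCat.of k)) := Over.mk (Γ.left.fromSpecResidueField p ≫ Γ.hom)
  let sp : Kp ⟶ Γ := Over.homMk (Γ.left.fromSpecResidueField p) rfl
  have hsp : ∀ c' : Kp.left, sp.left.base c' = p := fun c' =>
    Scheme.fromSpecResidueField_apply p c'
  let c : Kp.left := (IsLocalRing.closedPoint (Γ.left.residueField p) :
    PrimeSpectrum (Γ.left.residueField p))
  -- the maps
  let θ : Γ ⊗ Kp ⟶ Γ := (fst Γ Kp)⁻¹ * (snd Γ Kp ≫ sp)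
  let Ψ : Γ ⊗ Kp ⟶ Γ ⊗ Kp := lift θ (snd Γ Kp)
  let Ψ' : Γ ⊗ Kp ⟶ Γ ⊗ Kp := lift ((snd Γ Kp ≫ sp) * (fst Γ Kp)⁻¹) (snd Γ Kp)
  have h1 : Ψ ≫ Ψ' = 𝟙 _ := by
    apply CartesianMonoidalCategory.hom_ext
    · rw [Category.assoc, lift_fst, Category.id_comp, MonObj.comp_mul, GrpObj.comp_inv,
        ← Category.assoc, lift_snd, lift_fst]
      change (snd Γ Kp ≫ sp) * ((fst Γ Kp)⁻¹ * (snd Γ Kp ≫ sp))⁻¹ = fst Γ Kp
      group
    · rw [Category.assoc, lift_snd, lift_snd, Category.id_comp]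
  have h2 : Ψ' ≫ Ψ = 𝟙 _ := by
    apply CartesianMonoidalCategory.hom_ext
    · rw [Category.assoc, lift_fst, Category.id_comp]
      change Ψ' ≫ ((fst Γ Kp)⁻¹ * (snd Γ Kp ≫ sp)) = fst Γ Kp
      rw [MonObj.comp_mul, GrpObj.comp_inv, ← Category.assoc, lift_snd, lift_fst]
      group
    · rw [Category.assoc, lift_snd, lift_snd, Category.id_comp]
  have hΨiso : IsIso Ψ := ⟨Ψ', h1, h2⟩
  have hΨliso : IsIso Ψ.left := inferInstanceAs (IsIso ((Over.forget _).map Ψ))
  have hθ : θ = Ψ ≫ fst Γ Kp := (lift_fst _ _).symm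
  have huo : UniversallyOpen (fst Γ Kp).left := by
    rw [Over.fst_left]
    infer_instance
  have hfstopen : IsOpenMap (fst Γ Kp).left.base := (fst Γ Kp).left.isOpenMap
  have hθopen : IsOpenMap θ.left.base := by
    rw [hθ, Over.comp_left]
    change IsOpenMap ((fst Γ Kp).left.base ∘ Ψ.left.base)
    exact hfstopen.comp Ψ.left.homeomorph.isOpenMap
  -- the two sets
  have hV₁ : Dense ((fst Γ Kp).left.base ⁻¹' W) := hW.preimage hfstopen
  have hV₂open : IsOpen (θ.left.base ⁻¹' U) := hU.preimage θ.left.continuous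
  have hV₂ne : (θ.left.base ⁻¹' U).Nonempty := by
    obtain ⟨u, hu⟩ := hUne
    -- the point `(sp · u⁻¹ ... )`: use surjectivity of `θ`
    have hfsurj : Function.Surjective (fst Γ Kp).left.base := by
      intro y
      obtain ⟨z, hz1, hz2⟩ := Scheme.Pullback.exists_preimage_pullback (f := Γ.hom) (g := Kp.hom)
        y c (hsub.elim _ _)
      exact ⟨z, hz1⟩
    obtain ⟨z, hz⟩ := hfsurj u
    refine ⟨(inv Ψ.left).base z, ?_⟩
    change θ.left.base ((inv Ψ.left).base z) ∈ U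
    rw [hθ, Over.comp_left]
    change (fst Γ Kp).left.base (Ψ.left.base ((inv Ψ.left).base z)) ∈ U
    have : Ψ.left.base ((inv Ψ.left).base z) = z := by
      change (inv Ψ.left ≫ Ψ.left).base z = z
      rw [IsIso.inv_hom_id]
      rfl
    rw [this, hz]
    exact hu
  obtain ⟨v, hvU, hvW⟩ := hV₁.inter_open_nonempty _ hV₂open hV₂ne
  -- the point of `Γ ⊗ Γ`
  let Θ : Γ ⊗ Kp ⟶ Γ ⊗ Γ := lift (fst Γ Kp) θ
  have hΘμ : Θ ≫ μ[Γ] = snd Γ Kp ≫ sp := by
    rw [← Hom.mul_def]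
    change fst Γ Kp * ((fst Γ Kp)⁻¹ * (snd Γ Kp ≫ sp)) = _
    group
  have hp : μ[Γ].left.base (Θ.left.base v) = p := by
    change (Θ ≫ μ[Γ]).left.base v = p
    rw [hΘμ]
    exact hsp _
  rw [← hp]
  apply hmul
  · change (Θ ≫ fst Γ Γ).left.base v ∈ W
    rw [lift_fst]
    exact hvW
  · change (Θ ≫ snd Γ Γ).left.base v ∈ W
    rw [lift_snd]
    exact hUW hvU

end Groth.Agent.Lib.Helper41.DenseStable
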