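import Groth.Agent.Lib.Helper41.SchematicDensity
import Groth.Agent.Lib.Helper41.DenseStable
import Groth.Prelude.Def_Red

/-!
# Subgroups of a base-changed group scheme (helper41)

* `interObj`, `interFst`, `interSnd`, `interLift` : hand-made fibre product of two morphisms of
  `Over S` whose underlying scheme is the scheme-theoretic pullback.
* `range_interFst_mul_stable` : the image of the intersection of two subgroups is stable under
  multiplication (pointwise on `ΓS ⊗ ΓS`).
* `map_left_eq` : `((Over.pullback σ).map a).left = (a ▷ Over.mk σ).left`.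
* `map_word` : a monoidal functor sends words to words.
* `eq_univ_of_locallyClosed_mul_stable` : `ΓS = Γ₀ ×_k S` an `S`-group, `W ⊆ |ΓS|` locally closed,
  multiplicatively stable and containing the preimage of a dense subset of `Γ₀` ⇒ `W = univ`.
-/

set_option autoImplicit false
universe u
open CategoryTheory CategoryTheory.Limits MonoidalCategory CartesianMonoidalCategory MonObj
  AlgebraicGeometry

namespace Groth.Agent.Lib.Helper41.BaseChangeSubgroup

open Groth.Agent.Lib.Helper41.WordPoints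

section Inter

variable {S : Scheme.{u}} {ΓS GS Γ' : Over S} (iS : ΓS ⟶ GS) (i' : Γ' ⟶ GS)

/-- the fibre product of `iS` and `i'` with underlying scheme the pullback of schemes -/
noncomputable def interObj : Over S := Over.mk (pullback.fst iS.left i'.left ≫ ΓS.hom)

noncomputable def interFst : interObj iS i' ⟶ ΓS := Over.homMk (pullback.fst iS.left i'.left) rfl

noncomputable def interSnd : interObj iS i' ⟶ Γ' :=
  Over.homMk (pullback.snd iS.left i'.left) (by
    change pullback.snd iS.left i'.left ≫ Γ'.hom = pullback.fst iS.left i'.left ≫ ΓS.hom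
    rw [← Over.w i', ← Over.w iS, ← Category.assoc, ← Category.assoc, pullback.condition])

theorem interFst_left : (interFst iS i').left = pullback.fst iS.left i'.left := rfl

theorem interSnd_left : (interSnd iS i').left = pullback.snd iS.left i'.left := rfl

theorem inter_condition : interFst iS i' ≫ iS = interSnd iS i' ≫ i' := by
  ext
  exact pullback.condition

noncomputable def interLift {T : Over S} (a : T ⟶ ΓS) (b : T ⟶ Γ') (h : a ≫ iS = b ≫ i') :
    T ⟶ interObj iS i' :=
  Over.homMk (pullback.lift a.left b.left (by rw [← Over.comp_left, ← Over.comp_left, h])) (by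
    change pullback.lift a.left b.left _ ≫ pullback.fst iS.left i'.left ≫ ΓS.hom = T.hom
    rw [pullback.lift_fst_assoc, Over.w a])

theorem interLift_fst {T : Over S} (a : T ⟶ ΓS) (b : T ⟶ Γ') (h : a ≫ iS = b ≫ i') :
    interLift iS i' a b h ≫ interFst iS i' = a := by
  ext
  exact pullback.lift_fst _ _ _

theorem interLift_snd {T : Over S} (a : T ⟶ ΓS) (b : T ⟶ Γ') (h : a ≫ iS = b ≫ i') :
    interLift iS i' a b h ≫ interSnd iS i' = b := by
  ext
  exact pullback.lift_snd _ _ _

theorem range_interFst_mul_stable [GrpObj ΓS] [GrpObj GS] [GrpObj Γ'] [IsMonHom iS] [IsMonHom i']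
    (w : (ΓS ⊗ ΓS).left)
    (h1 : (fst ΓS ΓS).left.base w ∈ Set.range (pullback.fst iS.left i'.left).base)
    (h2 : (snd ΓS ΓS).left.base w ∈ Set.range (pullback.fst iS.left i'.left).base) :
    μ[ΓS].left.base w ∈ Set.range (pullback.fst iS.left i'.left).base := by
  obtain ⟨z₁, hz₁⟩ := h1
  obtain ⟨z₂, hz₂⟩ := h2
  obtain ⟨w', hw'⟩ := Groth.Agent.Lib.Helper41.ClosureSubgroup2.exists_preimage_tensorHom
    (interFst iS i') (interFst iS i') w z₁ z₂ hz₁ hz₂
  let Zo := interObj iS i'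
  let a : Zo ⊗ Zo ⟶ ΓS := (fst Zo Zo ≫ interFst iS i') * (snd Zo Zo ≫ interFst iS i')
  let b : Zo ⊗ Zo ⟶ Γ' := (fst Zo Zo ≫ interSnd iS i') * (snd Zo Zo ≫ interSnd iS i')
  have hab : a ≫ iS = b ≫ i' := by
    change ((fst Zo Zo ≫ interFst iS i') * (snd Zo Zo ≫ interFst iS i')) ≫ iS =
      ((fst Zo Zo ≫ interSnd iS i') * (snd Zo Zo ≫ interSnd iS i')) ≫ i'
    rw [MonObj.mul_comp, MonObj.mul_comp, Category.assoc, Category.assoc, Category.assoc,
      Category.assoc, inter_condition]
  let m := interLift iS i' a b hab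
  have hm : m ≫ interFst iS i' = a := interLift_fst iS i' a b hab
  have ha : a = (interFst iS i' ⊗ₘ interFst iS i') ≫ μ[ΓS] := by
    change (fst Zo Zo ≫ interFst iS i') * (snd Zo Zo ≫ interFst iS i') = _
    rw [Hom.mul_def, lift_fst_comp_snd_comp]
  refine ⟨m.left.base w', ?_⟩
  change (m ≫ interFst iS i').left.base w' = _
  rw [hm, ha, ← hw']
  rfl

end Inter

theorem map_left_eq {B S : Scheme.{u}} (σ : S ⟶ B) {T Γ : Over B} (a : T ⟶ Γ) :
    ((Over.pullback σ).map a).left = (a ▷ Over.mk σ).left := by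
  apply pullback.hom_ext
  · have h : (a ▷ Over.mk σ).left ≫ pullback.fst Γ.hom σ = pullback.fst T.hom σ ≫ a.left :=
      Over.whiskerRight_left_fst a
    rw [h]
    exact pullback.lift_fst _ _ _
  · have h : (a ▷ Over.mk σ).left ≫ pullback.snd Γ.hom σ = pullback.snd T.hom σ :=
      Over.whiskerRight_left_snd a
    rw [h]
    exact pullback.lift_snd _ _ _

section MapWord

open scoped Obj

variable {C D : Type*} [Category C] [Category D] [CartesianMonoidalCategory C]
  [CartesianMonoidalCategory D] (F : C ⥤ D) [F.Monoidal]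

theorem map_word {G X T : C} [GrpObj G] (f : X ⟶ G) (l : List ((T ⟶ X) × Bool)) :
    F.map (word f l) = word (F.map f) (l.map (fun xb => (F.map xb.1, xb.2))) := by
  induction l with
  | nil => rw [List.map_nil, word_nil, word_nil, Functor.map_one]
  | cons xb l ih =>
    rw [List.map_cons, word_cons, word_cons, Functor.map_mul, ih]
    congr 1
    unfold sgn
    by_cases hb : xb.2
    · simp only [hb, if_true, Functor.map_comp]
    · simp only [hb, Bool.false_eq_true, if_false, Functor.map_comp, Functor.map_inv']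

end MapWord

theorem isOpen_of_dense_of_isLocallyClosed {α : Type*} [TopologicalSpace α] {s : Set α}
    (hd : Dense s) (hl : IsLocallyClosed s) : IsOpen s := by
  obtain ⟨U, Z, hU, hZ, rfl⟩ := hl
  have hZu : Z = Set.univ := by
    have h1 : Dense Z := hd.mono Set.inter_subset_right
    rw [← hZ.closure_eq]
    exact h1.closure_eq
  rw [hZu, Set.inter_univ]
  exact hU

/-- `ΓS = Γ₀ ×_k S` an `S`-group scheme (`k` a field), `W ⊆ |ΓS|` locally closed, stable under
multiplication and containing the preimage of a dense subset of `Γ₀`.  Then `W` is everything. -/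
theorem eq_univ_of_locallyClosed_mul_stable {k : Type u} [Field k] {S : Scheme.{u}}
    (σ : S ⟶ Spec (CommRingCat.of k)) {Γ₀ : Scheme.{u}} (γ₀ : Γ₀ ⟶ Spec (CommRingCat.of k))
    (ΓS : Over S) [GrpObj ΓS] (pr : ΓS.left ⟶ Γ₀) (hpb : IsPullback pr ΓS.hom γ₀ σ)
    (D : Set Γ₀) (hD : Dense D) (W : Set ΓS.left) (hWlc : IsLocallyClosed W)
    (hDW : pr.base ⁻¹' D ⊆ W)
    (hmul : ∀ w : (ΓS ⊗ ΓS).left, (fst ΓS ΓS).left.base w ∈ W → (snd ΓS ΓS).left.base w ∈ W →
      μ[ΓS].left.base w ∈ W) : W = Set.univ := by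
  have hsub : Subsingleton (Spec (CommRingCat.of k)) :=
    inferInstanceAs (Subsingleton (PrimeSpectrum k))
  apply Set.eq_univ_of_forall
  intro p
  let Kp : Over S := Over.mk (ΓS.left.fromSpecResidueField p ≫ ΓS.hom)
  let sp : Kp ⟶ ΓS := Over.homMk (ΓS.left.fromSpecResidueField p) rfl
  have hsp : ∀ c' : Kp.left, sp.left.base c' = p := fun c' =>
    Scheme.fromSpecResidueField_apply p c'
  let c : Kp.left := (IsLocalRing.closedPoint (ΓS.left.residueField p) :
    PrimeSpectrum (ΓS.left.residueField p))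
  -- the maps
  let θ : ΓS ⊗ Kp ⟶ ΓS := (fst ΓS Kp)⁻¹ * (snd ΓS Kp ≫ sp)
  let Ψ : ΓS ⊗ Kp ⟶ ΓS ⊗ Kp := lift θ (snd ΓS Kp)
  let Ψ' : ΓS ⊗ Kp ⟶ ΓS ⊗ Kp := lift ((snd ΓS Kp ≫ sp) * (fst ΓS Kp)⁻¹) (snd ΓS Kp)
  have h1 : Ψ ≫ Ψ' = 𝟙 _ := by
    apply CartesianMonoidalCategory.hom_ext
    · rw [Category.assoc, lift_fst, Category.id_comp, MonObj.comp_mul, GrpObj.comp_inv,
        ← Category.assoc, lift_snd, lift_fst]
      change (snd ΓS Kp ≫ sp) * ((fst ΓS Kp)⁻¹ * (snd ΓS Kp ≫ sp))⁻¹ = fst ΓS Kp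
      group
    · rw [Category.assoc, lift_snd, lift_snd, Category.id_comp]
  have h2 : Ψ' ≫ Ψ = 𝟙 _ := by
    apply CartesianMonoidalCategory.hom_ext
    · rw [Category.assoc, lift_fst, Category.id_comp]
      change Ψ' ≫ ((fst ΓS Kp)⁻¹ * (snd ΓS Kp ≫ sp)) = fst ΓS Kp
      rw [MonObj.comp_mul, GrpObj.comp_inv, ← Category.assoc, lift_snd, lift_fst]
      group
    · rw [Category.assoc, lift_snd, lift_snd, Category.id_comp]
  have hΨiso : IsIso Ψ := ⟨Ψ', h1, h2⟩
  have hΨliso : IsIso Ψ.left := inferInstanceAs (IsIso ((Over.forget _).map Ψ))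
  have hθ : θ = Ψ ≫ fst ΓS Kp := (lift_fst _ _).symm
  -- the open projection to `Γ₀`
  let q : (ΓS ⊗ Kp).left ⟶ Γ₀ := (fst ΓS Kp).left ≫ pr
  have hq : IsPullback q (snd ΓS Kp).left γ₀ (Kp.hom ≫ σ) := by
    have h1 : IsPullback (fst ΓS Kp).left (snd ΓS Kp).left ΓS.hom Kp.hom := by
      rw [Over.fst_left, Over.snd_left]
      exact IsPullback.of_hasPullback _ _
    exact h1.paste_horiz hpb
  have huo : UniversallyOpen (Kp.hom ≫ σ) := inferInstance
  have hqo : UniversallyOpen q := MorphismProperty.of_isPullback hq.flip huo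
  have hqopen : IsOpenMap q.base := q.isOpenMap
  let WF : Set (ΓS ⊗ Kp).left := (fst ΓS Kp).left.base ⁻¹' W
  have hWFd : Dense WF := by
    have hd : Dense (q.base ⁻¹' D) := hD.preimage hqopen
    apply hd.mono
    intro v hv
    apply hDW
    exact hv
  have hWFlc : IsLocallyClosed WF := hWlc.preimage (fst ΓS Kp).left.continuous
  have hWFo : IsOpen WF := isOpen_of_dense_of_isLocallyClosed hWFd hWFlc
  have hne : Nonempty (ΓS ⊗ Kp).left := by
    have hpc : ΓS.hom.base p = Kp.hom.base c := by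
      change _ = (ΓS.left.fromSpecResidueField p ≫ ΓS.hom).base c
      rw [Scheme.Hom.comp_base]
      change _ = ΓS.hom.base ((ΓS.left.fromSpecResidueField p).base c)
      rw [Scheme.fromSpecResidueField_apply]
    obtain ⟨z, _, _⟩ := Scheme.Pullback.exists_preimage_pullback (f := ΓS.hom) (g := Kp.hom)
      p c hpc
    exact ⟨z⟩
  obtain ⟨v₀, hv₀⟩ := hWFd.nonempty
  have hV₂open : IsOpen (Ψ.left.base ⁻¹' WF) := hWFo.preimage Ψ.left.continuous
  have hV₂ne : (Ψ.left.base ⁻¹' WF).Nonempty := by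
    refine ⟨(inv Ψ.left).base v₀, ?_⟩
    change Ψ.left.base ((inv Ψ.left).base v₀) ∈ WF
    have : Ψ.left.base ((inv Ψ.left).base v₀) = v₀ := by
      change (inv Ψ.left ≫ Ψ.left).base v₀ = v₀
      rw [IsIso.inv_hom_id]
      rfl
    rw [this]
    exact hv₀
  obtain ⟨v, hvV, hvW⟩ := hWFd.inter_open_nonempty _ hV₂open hV₂ne
  let Θ : ΓS ⊗ Kp ⟶ ΓS ⊗ ΓS := lift (fst ΓS Kp) θ
  have hΘμ : Θ ≫ μ[ΓS] = snd ΓS Kp ≫ sp := by
    rw [← Hom.mul_def]
    change fst ΓS Kp * ((fst ΓS Kp)⁻¹ * (snd ΓS Kp ≫ sp)) = _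
    group
  have hp : μ[ΓS].left.base (Θ.left.base v) = p := by
    change (Θ ≫ μ[ΓS]).left.base v = p
    rw [hΘμ]
    exact hsp _
  rw [← hp]
  apply hmul
  · change (Θ ≫ fst ΓS ΓS).left.base v ∈ W
    rw [lift_fst]
    exact hvW
  · change (Θ ≫ snd ΓS ΓS).left.base v ∈ W
    rw [lift_snd, hθ]
    exact hvV

end Groth.Agent.Lib.Helper41.BaseChangeSubgroup
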