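import Groth.Agent.Lib.Helper41.EtGlueModule
import Mathlib

/-!
# Beauville–Laszlo glueing: essential surjectivity

For a glueing pair `(R → R', f)`, an `R'`-module `M'`, an `R`-module `M₁` on which `f` is bijective
and an `R'`-isomorphism `α : M'_f ≃ R' ⊗ M₁`, the module
`glue α = {(m', m₁) | α (m'/1) = 1 ⊗ m₁}` satisfies `R' ⊗ glue ≅ M'`, `glue_f ≅ M₁`.
-/

namespace Groth.Agent.Lib.Helper41.BeauvilleLaszlo

open TensorProduct Groth.Agent.Lib.Helper41.EtGlueTorsion Groth.Agent.Lib.Helper41.EtGlueModule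

universe u

variable {R R' : Type u} [CommRing R] [CommRing R'] [Algebra R R'] {f : R}
variable {M' : Type u} [AddCommGroup M'] [Module R' M'] [Module R M'] [IsScalarTower R R' M']
variable {M₁ : Type u} [AddCommGroup M₁] [Module R M₁]
variable (α : LocalizedModule (Submonoid.powers (algebraMap R R' f)) M' ≃ₗ[R'] R' ⊗[R] M₁)

/-- The glued module `{(m', m₁) | α (m'/1) = 1 ⊗ m₁}`. -/
def glue : Submodule R (M' × M₁) where
  carrier := {p | α (LocalizedModule.mkLinearMap (Submonoid.powers (algebraMap R R' f)) M' p.1) =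
    (1 : R') ⊗ₜ[R] p.2}
  add_mem' := by
    intro a b ha hb
    change α (LocalizedModule.mkLinearMap _ M' a.1) = (1 : R') ⊗ₜ[R] a.2 at ha
    change α (LocalizedModule.mkLinearMap _ M' b.1) = (1 : R') ⊗ₜ[R] b.2 at hb
    change α (LocalizedModule.mkLinearMap _ M' (a + b).1) = (1 : R') ⊗ₜ[R] (a + b).2
    rw [Prod.fst_add, Prod.snd_add, map_add, map_add, ha, hb, TensorProduct.tmul_add]
  zero_mem' := by
    change α (LocalizedModule.mkLinearMap _ M' (0 : M' × M₁).1) = (1 : R') ⊗ₜ[R] (0 : M' × M₁).2
    rw [Prod.fst_zero, Prod.snd_zero, map_zero, map_zero, TensorProduct.tmul_zero]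
  smul_mem' := by
    intro r a ha
    change α (LocalizedModule.mkLinearMap _ M' a.1) = (1 : R') ⊗ₜ[R] a.2 at ha
    change α (LocalizedModule.mkLinearMap _ M' (r • a).1) = (1 : R') ⊗ₜ[R] (r • a).2
    rw [Prod.smul_fst, Prod.smul_snd, ← algebraMap_smul R' r a.1, map_smul, map_smul, ha,
      algebraMap_smul, TensorProduct.tmul_smul]

theorem mem_glue (p : M' × M₁) : p ∈ glue α ↔
    α (LocalizedModule.mkLinearMap (Submonoid.powers (algebraMap R R' f)) M' p.1) =
      (1 : R') ⊗ₜ[R] p.2 := Iff.rfl

/-- first projection `glue → M'` -/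
def glueFst : glue α →ₗ[R] M' := (LinearMap.fst R M' M₁).comp (glue α).subtype

/-- second projection `glue → M₁` -/
def glueSnd : glue α →ₗ[R] M₁ := (LinearMap.snd R M' M₁).comp (glue α).subtype

theorem glue_spec (m : glue α) :
    α (LocalizedModule.mkLinearMap (Submonoid.powers (algebraMap R R' f)) M' (glueFst α m)) =
      (1 : R') ⊗ₜ[R] (glueSnd α m) := m.2

theorem algebraMap_pow_smul_tmul (k : ℕ) (z : R' ⊗[R] M₁) :
    (algebraMap R R' f) ^ k • z = f ^ k • z := by
  rw [← map_pow, algebraMap_smul]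

theorem algebraMap_pow_smul (k : ℕ) (z : M') :
    (algebraMap R R' f) ^ k • z = f ^ k • z := by
  rw [← map_pow, algebraMap_smul]

variable (hf : Function.Bijective fun x : M₁ => f • x)

include hf in
theorem smul_pow_bijective (k : ℕ) : Function.Bijective fun x : M₁ => f ^ k • x := by
  induction k with
  | zero =>
    have : (fun x : M₁ => f ^ 0 • x) = id := by funext x; simp
    rw [this]
    exact Function.bijective_id
  | succ k ih =>
    have : (fun x : M₁ => f ^ (k + 1) • x) = (fun x : M₁ => f ^ k • x) ∘ (fun x : M₁ => f • x) := by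
      funext x
      simp [pow_succ, mul_smul]
    rw [this]
    exact ih.comp hf

include hf in
theorem smul_pow_tmul_injective (k : ℕ) : Function.Injective fun z : R' ⊗[R] M₁ => f ^ k • z := by
  let ε : M₁ ≃ₗ[R] M₁ := LinearEquiv.ofBijective (LinearMap.lsmul R M₁ (f ^ k))
    (smul_pow_bijective hf k)
  have : (fun z : R' ⊗[R] M₁ => f ^ k • z) = (ε.lTensor R') := by
    funext z
    induction z using TensorProduct.induction_on with
    | zero => simp
    | tmul x y => simp [ε, TensorProduct.tmul_smul]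
    | add x y hx hy =>
      simp only [smul_add, map_add] at hx hy ⊢
      rw [hx, hy]
  rw [this]
  exact (ε.lTensor R').injective

/-- every element of `M₁` has an `f`-power multiple in the image of `glue`. -/
theorem exists_glue_snd (n : M₁) : ∃ (k : ℕ) (m : glue α), f ^ k • n = glueSnd α m := by
  obtain ⟨k, a, ha⟩ := IsLocalizedModule.Away.surj
    (LocalizedModule.mkLinearMap (Submonoid.powers (algebraMap R R' f)) M') (algebraMap R R' f)
    (α.symm ((1 : R') ⊗ₜ[R] n))
  refine ⟨k, ⟨(a, f ^ k • n), ?_⟩, rfl⟩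
  rw [mem_glue]
  change α (LocalizedModule.mkLinearMap _ M' a) = (1 : R') ⊗ₜ[R] (f ^ k • n)
  rw [← ha, map_smul, LinearEquiv.apply_symm_apply, algebraMap_pow_smul_tmul,
    TensorProduct.tmul_smul]

include hf in
/-- `glue → M₁` is the localization at `f`. -/
theorem isLocalizedModule_glueSnd :
    IsLocalizedModule (Submonoid.powers f) (glueSnd α) := by
  refine IsLocalizedModule.Away.mk_of_addCommGroup ?_ ?_ ?_
  · rw [Module.End.isUnit_iff]
    exact hf
  · intro n
    obtain ⟨k, m, hm⟩ := exists_glue_snd α n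
    exact ⟨k, m, hm⟩
  · intro m hm
    have h1 := glue_spec α m
    rw [hm, TensorProduct.tmul_zero] at h1
    have h2 : LocalizedModule.mkLinearMap (Submonoid.powers (algebraMap R R' f)) M'
        (glueFst α m) = 0 := by
      apply α.injective
      rw [h1, map_zero]
    rw [IsLocalizedModule.eq_zero_iff (Submonoid.powers (algebraMap R R' f))] at h2
    obtain ⟨⟨_, k, rfl⟩, hk⟩ := h2
    refine ⟨k, ?_⟩
    apply Subtype.ext
    apply Prod.ext
    · change f ^ k • (glueFst α m) = 0
      rw [← algebraMap_pow_smul (R' := R')]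
      exact hk
    · change f ^ k • (glueSnd α m) = 0
      rw [hm, smul_zero]

/-- the evaluation map `R' ⊗ glue → M'`, `r' ⊗ (m', m₁) ↦ r' m'`. -/
noncomputable def ev : R' ⊗[R] (glue α) →ₗ[R'] M' := (glueFst α).liftBaseChange R'

theorem ev_tmul (r' : R') (m : glue α) : ev α (r' ⊗ₜ[R] m) = r' • glueFst α m := rfl

/-- `α (ev c / 1) = (id ⊗ snd) c`. -/
theorem alpha_mk_ev (c : R' ⊗[R] (glue α)) :
    α (LocalizedModule.mkLinearMap (Submonoid.powers (algebraMap R R' f)) M' (ev α c)) =
      (glueSnd α).baseChange R' c := by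
  induction c using TensorProduct.induction_on with
  | zero => simp
  | tmul r' m =>
    rw [ev_tmul, map_smul, map_smul, glue_spec, LinearMap.baseChange_tmul,
      TensorProduct.smul_tmul', smul_eq_mul, mul_one]
  | add x y hx hy => rw [map_add, map_add, map_add, map_add, hx, hy]

omit [Module R M'] [IsScalarTower R R' M'] in
/-- decomposition `c = 1 ⊗ μ + f^N c₁` in `R' ⊗ P`. -/
theorem exists_decomp (hq : EtGlue.QuotPowBijective R R' f) {P : Type u} [AddCommGroup P]
    [Module R P] (N : ℕ) (c : R' ⊗[R] P) :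
    ∃ (μ : P) (c₁ : R' ⊗[R] P), c = (1 : R') ⊗ₜ[R] μ + f ^ N • c₁ := by
  induction c using TensorProduct.induction_on with
  | zero => exact ⟨0, 0, by simp⟩
  | tmul r' m =>
    obtain ⟨r, hr⟩ := exists_sub_mem hq N r'
    rw [Ideal.map_span, Set.image_singleton, Ideal.mem_span_singleton'] at hr
    obtain ⟨s', hs'⟩ := hr
    refine ⟨r • m, s' ⊗ₜ[R] m, ?_⟩
    have : r' = algebraMap R R' r + f ^ N • s' := by
      rw [Algebra.smul_def, mul_comm, hs']; ring
    rw [TensorProduct.tmul_smul, TensorProduct.smul_tmul', TensorProduct.smul_tmul',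
      ← TensorProduct.add_tmul, Algebra.smul_def r, mul_one, ← this]
  | add x y hx hy =>
    obtain ⟨μ, c₁, h1⟩ := hx
    obtain ⟨ν, c₂, h2⟩ := hy
    refine ⟨μ + ν, c₁ + c₂, ?_⟩
    rw [h1, h2, TensorProduct.tmul_add, smul_add]
    abel

theorem rTensor_comm (x : R' ⊗[R] (glue α)) :
    TensorProduct.AlgebraTensorModule.rTensor R R' (glueSnd α)
      (TensorProduct.comm R R' (glue α) x) =
      TensorProduct.comm R R' M₁ ((glueSnd α).baseChange R' x) := by
  induction x using TensorProduct.induction_on with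
  | zero => simp
  | tmul x y => simp
  | add x y hx hy => rw [map_add, map_add, map_add, map_add, hx, hy]

include hf in
theorem ev_surjective (hq : EtGlue.QuotPowBijective R R' f) : Function.Surjective (ev α) := by
  have hloc := isLocalizedModule_glueSnd α hf
  intro m'
  -- Step 1: some `f^N m'` is in the image
  have h1 : ∃ (N : ℕ) (c₀ : R' ⊗[R] (glue α)), f ^ N • m' = ev α c₀ := by
    have hloc' : IsLocalizedModule (Submonoid.powers f)
        (TensorProduct.AlgebraTensorModule.rTensor R R' (glueSnd α)) := inferInstance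
    obtain ⟨k, c, hc⟩ := IsLocalizedModule.Away.surj
      (TensorProduct.AlgebraTensorModule.rTensor R R' (glueSnd α)) f
      (TensorProduct.comm R R' M₁
        (α (LocalizedModule.mkLinearMap (Submonoid.powers (algebraMap R R' f)) M' m')))
    -- transport along `comm`
    have hc' : (glueSnd α).baseChange R' ((TensorProduct.comm R R' (glue α)).symm c) =
        f ^ k • α (LocalizedModule.mkLinearMap (Submonoid.powers (algebraMap R R' f)) M' m') := by
      have e1 : (glueSnd α).baseChange R' ((TensorProduct.comm R R' (glue α)).symm c) =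
          (TensorProduct.comm R R' M₁).symm
            (TensorProduct.AlgebraTensorModule.rTensor R R' (glueSnd α) c) := by
        have := rTensor_comm α ((TensorProduct.comm R R' (glue α)).symm c)
        rw [LinearEquiv.apply_symm_apply] at this
        rw [this, LinearEquiv.symm_apply_apply]
      rw [e1, ← hc, map_smul, LinearEquiv.symm_apply_apply]
    set c' := (TensorProduct.comm R R' (glue α)).symm c with hc'def
    rw [← alpha_mk_ev, ← algebraMap_pow_smul_tmul, ← map_smul, ← map_smul] at hc'
    have h2 := α.injective hc'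
    rw [← sub_eq_zero, ← map_sub,
      IsLocalizedModule.eq_zero_iff (Submonoid.powers (algebraMap R R' f))] at h2
    obtain ⟨⟨_, j, rfl⟩, hj⟩ := h2
    change (algebraMap R R' f) ^ j • (ev α c' - (algebraMap R R' f) ^ k • m') = 0 at hj
    rw [smul_sub, sub_eq_zero, ← map_smul, smul_smul, ← pow_add] at hj
    refine ⟨j + k, (algebraMap R R' f) ^ j • c', ?_⟩
    rw [hj, algebraMap_pow_smul]
  obtain ⟨N, c₀, hN⟩ := h1
  -- Step 2
  obtain ⟨μ, c₁, hdec⟩ := exists_decomp hq N c₀
  have h3 : f ^ N • (m' - ev α c₁) = glueFst α μ := by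
    rw [smul_sub, hN, hdec, map_add, ev_tmul, one_smul, ← algebraMap_pow_smul_tmul, map_smul,
      algebraMap_pow_smul]
    abel
  obtain ⟨ν, hν⟩ := (smul_pow_bijective hf N).2 (glueSnd α μ)
  have hν' : f ^ N • ν = glueSnd α μ := hν
  have hmem : (m' - ev α c₁, ν) ∈ glue α := by
    rw [mem_glue]
    apply smul_pow_tmul_injective hf N
    change f ^ N • α (LocalizedModule.mkLinearMap _ M' (m' - ev α c₁)) =
      f ^ N • ((1 : R') ⊗ₜ[R] ν)
    rw [← algebraMap_pow_smul_tmul, ← map_smul, ← map_smul, algebraMap_pow_smul, h3, glue_spec,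
      ← TensorProduct.tmul_smul, hν']
  refine ⟨(1 : R') ⊗ₜ[R] ⟨(m' - ev α c₁, ν), hmem⟩ + c₁, ?_⟩
  rw [map_add, ev_tmul, one_smul]
  change (m' - ev α c₁) + ev α c₁ = m'
  abel

include hf in
theorem ev_injective (hRR : EtGlue.IsGlueingPair R R' f) : Function.Injective (ev α) := by
  have hloc := isLocalizedModule_glueSnd α hf
  rw [injective_iff_map_eq_zero]
  intro x hx
  -- `x` is `f`-power torsion
  have h0 : (glueSnd α).baseChange R' x = 0 := by
    rw [← alpha_mk_ev, hx, map_zero, map_zero]
  have htor : ∃ n : ℕ, f ^ n • x = 0 := by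
    have hloc' : IsLocalizedModule (Submonoid.powers f)
        (TensorProduct.AlgebraTensorModule.rTensor R R' (glueSnd α)) := inferInstance
    have e1 := rTensor_comm α x
    rw [h0, map_zero, IsLocalizedModule.eq_zero_iff (Submonoid.powers f)] at e1
    obtain ⟨⟨_, n, rfl⟩, hn⟩ := e1
    refine ⟨n, ?_⟩
    apply (TensorProduct.comm R R' (glue α)).injective
    rw [map_smul, map_zero]
    exact hn
  obtain ⟨m, ⟨n, hn⟩, rfl⟩ := torsion_surjective_of_isGlueingPair hRR x htor
  rw [ev_tmul, one_smul] at hx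
  have h2 : glueSnd α m = 0 := by
    apply (smul_pow_bijective hf n).1
    change f ^ n • glueSnd α m = f ^ n • 0
    rw [← map_smul, hn, map_zero, smul_zero]
  have : m = 0 := by
    apply Subtype.ext
    exact Prod.ext hx h2
  rw [this, TensorProduct.tmul_zero]

end Groth.Agent.Lib.Helper41.BeauvilleLaszlo
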