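import Groth.Agent.Lib.Helper41.BeauvilleLaszlo
import Mathlib

/-!
# Beauville–Laszlo glueing for algebras
-/

namespace Groth.Agent.Lib.Helper41.BeauvilleLaszloAlg

open TensorProduct Groth.Agent.Lib.Helper41.EtGlueTorsion Groth.Agent.Lib.Helper41.EtGlueModule
  Groth.Agent.Lib.Helper41.BeauvilleLaszlo

universe u

variable {R R' : Type u} [CommRing R] [CommRing R'] [Algebra R R'] {f : R}
variable {A₁ A' : Type u} [CommRing A₁] [Algebra R A₁] [CommRing A'] [Algebra R A'] [Algebra R' A']
  [IsScalarTower R R' A']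

/-- `A' → A'_f` as an `R'`-linear map. -/
noncomputable def locMap (R R' : Type u) [CommRing R] [CommRing R'] [Algebra R R'] (f : R)
    (A' : Type u) [CommRing A'] [Algebra R A'] [Algebra R' A'] [IsScalarTower R R' A'] :
    A' →ₗ[R'] Localization.Away (algebraMap R A' f) :=
  (IsScalarTower.toAlgHom R' A' (Localization.Away (algebraMap R A' f))).toLinearMap

theorem locMap_apply (a : A') : locMap R R' f A' a =
    algebraMap A' (Localization.Away (algebraMap R A' f)) a := rfl

instance isLocalizedModule_locMap :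
    IsLocalizedModule (Submonoid.powers (algebraMap R R' f)) (locMap R R' f A') := by
  unfold locMap
  rw [isLocalizedModule_iff_isLocalization, Algebra.algebraMapSubmonoid_powers]
  have e : algebraMap R' A' (algebraMap R R' f) = algebraMap R A' f :=
    (IsScalarTower.algebraMap_apply R R' A' f).symm
  rw [e]
  infer_instance

variable (φ : Localization.Away (algebraMap R A' f) ≃ₐ[R'] R' ⊗[R] A₁)

/-- the module-level glueing isomorphism. -/
noncomputable def alpha :
    LocalizedModule (Submonoid.powers (algebraMap R R' f)) A' ≃ₗ[R'] R' ⊗[R] A₁ :=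
  (IsLocalizedModule.iso (Submonoid.powers (algebraMap R R' f)) (locMap R R' f A')).trans
    φ.toLinearEquiv

theorem alpha_mk (a : A') :
    alpha φ (LocalizedModule.mkLinearMap (Submonoid.powers (algebraMap R R' f)) A' a) =
      φ (algebraMap A' (Localization.Away (algebraMap R A' f)) a) := by
  unfold alpha
  rw [LinearEquiv.trans_apply]
  change φ (IsLocalizedModule.iso _ (locMap R R' f A') (LocalizedModule.mk a 1)) = _
  rw [IsLocalizedModule.iso_mk_one, locMap_apply]

/-- The glued algebra. -/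
def glueAlg : Subalgebra R (A' × A₁) where
  carrier := {p | φ (algebraMap A' (Localization.Away (algebraMap R A' f)) p.1) =
    (1 : R') ⊗ₜ[R] p.2}
  mul_mem' := by
    intro a b ha hb
    change φ (algebraMap A' _ a.1) = (1 : R') ⊗ₜ[R] a.2 at ha
    change φ (algebraMap A' _ b.1) = (1 : R') ⊗ₜ[R] b.2 at hb
    change φ (algebraMap A' _ (a * b).1) = (1 : R') ⊗ₜ[R] (a * b).2
    rw [Prod.fst_mul, Prod.snd_mul, map_mul, map_mul, ha, hb,
      Algebra.TensorProduct.tmul_mul_tmul, mul_one]
  add_mem' := by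
    intro a b ha hb
    change φ (algebraMap A' _ a.1) = (1 : R') ⊗ₜ[R] a.2 at ha
    change φ (algebraMap A' _ b.1) = (1 : R') ⊗ₜ[R] b.2 at hb
    change φ (algebraMap A' _ (a + b).1) = (1 : R') ⊗ₜ[R] (a + b).2
    rw [Prod.fst_add, Prod.snd_add, map_add, map_add, ha, hb, TensorProduct.tmul_add]
  algebraMap_mem' := by
    intro r
    change φ (algebraMap A' _ (algebraMap R (A' × A₁) r).1) =
      (1 : R') ⊗ₜ[R] (algebraMap R (A' × A₁) r).2
    rw [Prod.algebraMap_apply]
    change φ (algebraMap A' _ (algebraMap R A' r)) = (1 : R') ⊗ₜ[R] (algebraMap R A₁ r)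
    rw [IsScalarTower.algebraMap_apply R R' A' r, ← IsScalarTower.algebraMap_apply R' A'
      (Localization.Away (algebraMap R A' f)), φ.commutes,
      Algebra.TensorProduct.algebraMap_apply, Algebra.algebraMap_self, RingHom.id_apply,
      Algebra.algebraMap_eq_smul_one (A := R') r, Algebra.algebraMap_eq_smul_one (A := A₁) r,
      TensorProduct.smul_tmul]

set_option linter.unusedSectionVars false in
theorem mem_glueAlg (p : A' × A₁) : p ∈ glueAlg φ ↔
    φ (algebraMap A' (Localization.Away (algebraMap R A' f)) p.1) = (1 : R') ⊗ₜ[R] p.2 := Iff.rfl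

theorem mem_glueAlg_iff_mem_glue (p : A' × A₁) : p ∈ glueAlg φ ↔ p ∈ glue (alpha φ) := by
  rw [mem_glueAlg, mem_glue, alpha_mk]

/-- the identity as a linear equivalence `glueAlg ≃ glue`. -/
def toGlue : glueAlg φ ≃ₗ[R] glue (alpha φ) where
  toFun a := ⟨a.1, (mem_glueAlg_iff_mem_glue φ a.1).mp a.2⟩
  invFun a := ⟨a.1, (mem_glueAlg_iff_mem_glue φ a.1).mpr a.2⟩
  map_add' _ _ := rfl
  map_smul' _ _ := rfl
  left_inv _ := rfl
  right_inv _ := rfl

/-- first projection as an algebra map. -/
def fstA : glueAlg φ →ₐ[R] A' := (AlgHom.fst R A' A₁).comp (glueAlg φ).val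

/-- second projection as an algebra map. -/
def sndA : glueAlg φ →ₐ[R] A₁ := (AlgHom.snd R A' A₁).comp (glueAlg φ).val

theorem glueAlg_spec (a : glueAlg φ) :
    φ (algebraMap A' (Localization.Away (algebraMap R A' f)) (fstA φ a)) =
      (1 : R') ⊗ₜ[R] (sndA φ a) := a.2

/-- the evaluation map as an algebra map. -/
noncomputable def evA : R' ⊗[R] (glueAlg φ) →ₐ[R'] A' :=
  Algebra.TensorProduct.lift (Algebra.ofId R' A') (fstA φ) (fun _ _ => Commute.all _ _)

theorem evA_tmul (r' : R') (a : glueAlg φ) : evA φ (r' ⊗ₜ[R] a) = r' • fstA φ a := by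
  unfold evA
  rw [Algebra.TensorProduct.lift_tmul, Algebra.ofId_apply, Algebra.smul_def]

theorem evA_eq (z : R' ⊗[R] (glueAlg φ)) :
    evA φ z = ev (alpha φ) ((toGlue φ).toLinearMap.lTensor R' z) := by
  induction z using TensorProduct.induction_on with
  | zero => simp
  | tmul r' a =>
    rw [evA_tmul, LinearMap.lTensor_tmul, ev_tmul]
    rfl
  | add x y hx hy => rw [map_add, map_add, map_add, hx, hy]

theorem smul_bijective_of_isUnit (h₁ : IsUnit (algebraMap R A₁ f)) :
    Function.Bijective fun x : A₁ => f • x := by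
  obtain ⟨u, hu⟩ := h₁
  have hmul : ∀ x : A₁, f • x = ↑u * x := by
    intro x
    rw [hu, Algebra.smul_def]
  constructor
  · intro x y hxy
    simp only [hmul] at hxy
    exact u.isUnit.mul_right_injective hxy
  · intro y
    refine ⟨↑u⁻¹ * y, ?_⟩
    simp only [hmul]
    rw [← mul_assoc, Units.mul_inv, one_mul]

theorem evA_bijective (hRR : EtGlue.IsGlueingPair R R' f) (h₁ : IsUnit (algebraMap R A₁ f)) :
    Function.Bijective (evA φ) := by
  have hf := smul_bijective_of_isUnit h₁
  have hb : Function.Bijective (ev (alpha φ)) :=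
    ⟨ev_injective (alpha φ) hf hRR, ev_surjective (alpha φ) hf hRR.1⟩
  have hb2 : Function.Bijective ((toGlue φ).toLinearMap.lTensor R') :=
    ((toGlue φ).lTensor R').bijective
  have : (evA φ : R' ⊗[R] (glueAlg φ) → A') =
      (ev (alpha φ)) ∘ ((toGlue φ).toLinearMap.lTensor R') := by
    funext z
    exact evA_eq φ z
  rw [this]
  exact hb.comp hb2

theorem isGlueable_glueAlg (hRR : EtGlue.IsGlueingPair R R' f)
    (h₁ : IsUnit (algebraMap R A₁ f)) : EtGlue.IsGlueable R R' f (glueAlg φ) := by
  have hf := smul_bijective_of_isUnit h₁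
  apply isGlueable_of_torsion hRR.1
  · rintro m ⟨n, hn⟩ h0
    have h1 : fstA φ m = 0 := by
      have := evA_tmul φ 1 m
      rw [h0, map_zero, one_smul] at this
      exact this.symm
    have h2 : sndA φ m = 0 := by
      apply (smul_pow_bijective (R := R) (f := f) (M₁ := A₁) hf n).1
      change f ^ n • sndA φ m = f ^ n • 0
      rw [← map_smul, hn, map_zero, smul_zero]
    apply Subtype.ext
    exact Prod.ext h1 h2
  · exact fun x hx => torsion_surjective_of_isGlueingPair hRR x hx

/-- **Beauville–Laszlo for algebras** (the statement of S10727). -/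
theorem exists_glueAlg (hRR : EtGlue.IsGlueingPair R R' f) (h₁ : IsUnit (algebraMap R A₁ f)) :
    ∃ (A : Type u) (_ : CommRing A) (_ : Algebra R A) (_ : EtGlue.IsGlueable R R' f A)
      (e₁ : Localization.Away (algebraMap R A f) ≃ₐ[R] A₁) (e' : R' ⊗[R] A ≃ₐ[R'] A'),
      ∀ a : A, φ (algebraMap A' (Localization.Away (algebraMap R A' f)) (e' ((1 : R') ⊗ₜ[R] a))) =
        (1 : R') ⊗ₜ[R] e₁ (algebraMap A (Localization.Away (algebraMap R A f)) a) := by
  classical
  have hf := smul_bijective_of_isUnit h₁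
  let _ : Algebra (glueAlg φ) A₁ := (sndA φ).toRingHom.toAlgebra
  have hst : IsScalarTower R (glueAlg φ) A₁ :=
    IsScalarTower.of_algebraMap_eq (fun r => ((sndA φ).commutes r).symm)
  have hsnd : ∀ a : glueAlg φ, algebraMap (glueAlg φ) A₁ a = sndA φ a := fun a => rfl
  have hloc0 : IsLocalizedModule (Submonoid.powers f) (glueSnd (alpha φ)) :=
    isLocalizedModule_glueSnd (alpha φ) hf
  have hloc1 : IsLocalizedModule (Submonoid.powers f)
      ((glueSnd (alpha φ)) ∘ₗ (toGlue φ).toLinearMap) :=
    IsLocalizedModule.of_linearEquiv_right (Submonoid.powers f) (glueSnd (alpha φ)) (toGlue φ)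
  have hloc2 : IsLocalizedModule (Submonoid.powers f)
      (IsScalarTower.toAlgHom R (glueAlg φ) A₁).toLinearMap := by
    have : (IsScalarTower.toAlgHom R (glueAlg φ) A₁).toLinearMap =
        (glueSnd (alpha φ)) ∘ₗ (toGlue φ).toLinearMap := by
      ext a
      rfl
    rw [this]
    exact hloc1
  rw [isLocalizedModule_iff_isLocalization, Algebra.algebraMapSubmonoid_powers] at hloc2
  have hloc3 : IsLocalization.Away (algebraMap R (glueAlg φ) f) A₁ := hloc2
  let e₁ : Localization.Away (algebraMap R (glueAlg φ) f) ≃ₐ[R] A₁ :=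
    (IsLocalization.algEquiv (Submonoid.powers (algebraMap R (glueAlg φ) f))
      (Localization.Away (algebraMap R (glueAlg φ) f)) A₁).restrictScalars R
  let e' : R' ⊗[R] (glueAlg φ) ≃ₐ[R'] A' :=
    AlgEquiv.ofBijective (evA φ) (evA_bijective φ hRR h₁)
  refine ⟨glueAlg φ, inferInstance, inferInstance, isGlueable_glueAlg φ hRR h₁, e₁, e', ?_⟩
  intro a
  have he' : e' ((1 : R') ⊗ₜ[R] a) = fstA φ a := by
    change evA φ ((1 : R') ⊗ₜ[R] a) = _
    rw [evA_tmul, one_smul]
  have he₁ : e₁ (algebraMap (glueAlg φ) (Localization.Away (algebraMap R (glueAlg φ) f)) a) =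
      sndA φ a := by
    change (IsLocalization.algEquiv (Submonoid.powers (algebraMap R (glueAlg φ) f))
      (Localization.Away (algebraMap R (glueAlg φ) f)) A₁)
        (algebraMap (glueAlg φ) (Localization.Away (algebraMap R (glueAlg φ) f)) a) = _
    rw [AlgEquiv.commutes, hsnd]
  rw [he', he₁]
  exact glueAlg_spec φ a

end Groth.Agent.Lib.Helper41.BeauvilleLaszloAlg
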