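import Groth.Agent.Lib.Helper41.ConstrDense
import Mathlib

/-!
# A dominant finitely presented quasi-compact morphism to a locally Noetherian scheme hits a
nonempty open set (helper41)
-/

set_option autoImplicit false
universe u
open CategoryTheory AlgebraicGeometry Topology TopologicalSpace

namespace Groth.Agent.Lib.Helper41.OpenInRange

theorem exists_open_subset_range {Y Γ : Scheme.{u}} (h : Y ⟶ Γ) [LocallyOfFinitePresentation h]
    [QuasiCompact h] [IsLocallyNoetherian Γ] [Nonempty Γ] (hd : DenseRange h.base) :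
    ∃ U : Set Γ, IsOpen U ∧ U.Nonempty ∧ U ⊆ Set.range h.base := by
  have hE : IsLocallyConstructible (Set.range h.base) := by
    rw [← Set.image_univ]
    exact h.isLocallyConstructible_image IsConstructible.univ.isLocallyConstructible
  obtain ⟨y₀⟩ := ‹Nonempty Γ›
  obtain ⟨_, ⟨V, hV, rfl⟩, hy₀V, -⟩ :=
    Γ.isBasis_affineOpens.exists_subset_of_mem_open (Set.mem_univ y₀) isOpen_univ
  revert hV hy₀V
  generalize V = V'
  intro hV hy₀V
  let V : Γ.Opens := V'
  have hVaff : IsAffine V.toScheme := hV
  have hVln : IsLocallyNoetherian V.toScheme := isLocallyNoetherian_of_isOpenImmersion V.ι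
  have hVn : IsNoetherian V.toScheme := {}
  have hNS : NoetherianSpace V.toScheme := inferInstance
  let EV : Set V.toScheme := V.ι.base ⁻¹' (Set.range h.base)
  have hEV : IsConstructible EV :=
    (hE.preimage_of_isOpenEmbedding V.ι.isOpenEmbedding).isConstructible
  have hEVd : Dense EV := hd.preimage V.ι.isOpenEmbedding.isOpenMap
  have hne : EV.Nonempty := by
    have : Nonempty V.toScheme := ⟨⟨y₀, hy₀V⟩⟩
    exact hEVd.nonempty
  obtain ⟨W, hW, hWne, hWsub⟩ :=
    Groth.Agent.Lib.Helper41.ConstrDense.exists_open_inter_closure_subset hEV hne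
  rw [hEVd.closure_eq, Set.inter_univ] at hWne hWsub
  refine ⟨V.ι.base '' W, V.ι.isOpenEmbedding.isOpenMap _ hW, hWne.image _, ?_⟩
  rintro _ ⟨w, hw, rfl⟩
  exact hWsub hw

end Groth.Agent.Lib.Helper41.OpenInRange
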