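import Groth.Agent.Lib.Helper54.Reduced
import Mathlib.AlgebraicGeometry.Geometrically.Reduced

/-!
# Smooth morphisms are geometrically reduced (helper41)
-/

set_option autoImplicit false
universe u
open CategoryTheory CategoryTheory.Limits AlgebraicGeometry

namespace Groth.Agent.Lib.Helper41.SmoothGeomRed

/-- A smooth morphism is geometrically reduced. -/
theorem geometricallyReduced_of_smooth {X S : Scheme.{u}} (f : X ⟶ S) [Smooth f] :
    GeometricallyReduced f := by
  constructor
  intro L _ y Z fst' snd' h
  have hs : Smooth snd' := MorphismProperty.of_isPullback (P := @Smooth) h ‹_›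
  exact Groth.Agent.Lib.Helper54.isReduced_of_smooth_scheme snd'

end Groth.Agent.Lib.Helper41.SmoothGeomRed
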