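import Groth.Agent.Lib.Helper41.DenseStable
import Groth.Agent.Lib.Helper41.OpenInRange
import Groth.Agent.Lib.Helper41.SmoothGeomRed

/-!
# The product `A · B` of two subgroups, one normalizing the other (helper41)

* `wordSet_mul` : `wordSet f` is stable under multiplication (pointwise on `G ⊗ G`).
* `dense_preimage_of_range_eq_closure`.
* `exists_word_eq_mul` : if `B` normalizes `A` then every signed word in the values of
  `(x, y) ↦ a(x) b(y)` is of the form `a(x) b(y)`.
-/

set_option autoImplicit false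
universe u
open CategoryTheory MonoidalCategory CartesianMonoidalCategory MonObj AlgebraicGeometry

namespace Groth.Agent.Lib.Helper41.ProductSubgroup

open Groth.Agent.Lib.Helper41.WordPoints Groth.Agent.Lib.Helper41.SmallestSubgroup

theorem dense_preimage_of_range_eq_closure {α β : Type*} [TopologicalSpace α] [TopologicalSpace β]
    {j : α → β} (hce : Topology.IsClosedEmbedding j) {S : Set β} (h : Set.range j = closure S) :
    Dense (j ⁻¹' S) := by
  rw [dense_iff_closure_eq]
  apply Set.eq_univ_of_forall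
  intro x
  have hx : j x ∈ closure S := by
    rw [← h]
    exact ⟨x, rfl⟩
  have himg : j '' (j ⁻¹' S) = S := by
    rw [Set.image_preimage_eq_inter_range, h]
    exact Set.inter_eq_left.mpr subset_closure
  rw [← himg, hce.closure_image_eq] at hx
  obtain ⟨x', hx', hxx'⟩ := hx
  rw [← hce.injective hxx']
  exact hx'

variable {k : Type u} [Field k] {G X : Over (Spec (CommRingCat.of k))} [GrpObj G]

theorem wordSet_mul (f : X ⟶ G) (w : (G ⊗ G).left) (h1 : (fst G G).left.base w ∈ wordSet f)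
    (h2 : (snd G G).left.base w ∈ wordSet f) : μ[G].left.base w ∈ wordSet f := by
  obtain ⟨T, hT, l, t, h1⟩ := h1
  obtain ⟨T', hT', l', t', h2⟩ := h2
  obtain ⟨w', hw'⟩ := exists_mul_preimage (word f l) (word f l') w t t' h1 h2
  have hTT' : GeometricallyReduced (T ⊗ T').hom :=
    Groth.Agent.Lib.Helper41.ProductReduced.geometricallyReduced_pullback_fst_comp T.hom T'.hom
  refine ⟨T ⊗ T', hTT', l.map (fun xb => (fst T T' ≫ xb.1, xb.2)) ++
    l'.map (fun xb => (snd T T' ≫ xb.1, xb.2)), w', ?_⟩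
  rw [word_append, ← comp_word, ← comp_word]
  exact hw'

theorem exists_word_eq_mul {A B : Over (Spec (CommRingCat.of k))} [GrpObj A] [GrpObj B]
    (a : A ⟶ G) [IsMonHom a] (b : B ⟶ G) [IsMonHom b]
    (hN : ∀ (T : Over (Spec (CommRingCat.of k))) (y : T ⟶ B) (x : T ⟶ A),
      ∃ x' : T ⟶ A, (y ≫ b) * (x ≫ a) * (y ≫ b)⁻¹ = x' ≫ a)
    {T : Over (Spec (CommRingCat.of k))} (l : List ((T ⟶ A ⊗ B) × Bool)) :
    ∃ (x : T ⟶ A) (y : T ⟶ B),
      word ((fst A B ≫ a) * (snd A B ≫ b)) l = (x ≫ a) * (y ≫ b) := by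
  induction l with
  | nil =>
    refine ⟨1, 1, ?_⟩
    rw [word_nil, MonObj.one_comp, MonObj.one_comp, _root_.mul_one]
  | cons zb l ih =>
    obtain ⟨x, y, hxy⟩ := ih
    rw [word_cons, hxy]
    have hz : zb.1 ≫ ((fst A B ≫ a) * (snd A B ≫ b)) =
        ((zb.1 ≫ fst A B) ≫ a) * ((zb.1 ≫ snd A B) ≫ b) := by
      rw [MonObj.comp_mul, Category.assoc, Category.assoc]
    unfold sgn
    by_cases hb : zb.2
    · simp only [hb, if_true]
      rw [hz]
      obtain ⟨x', hx'⟩ := hN T (zb.1 ≫ snd A B) x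
      refine ⟨(zb.1 ≫ fst A B) * x', (zb.1 ≫ snd A B) * y, ?_⟩
      rw [MonObj.mul_comp, MonObj.mul_comp, ← hx']
      group
    · simp only [hb, Bool.false_eq_true, if_false]
      rw [hz]
      obtain ⟨x', hx'⟩ := hN T (zb.1 ≫ snd A B)⁻¹ ((zb.1 ≫ fst A B)⁻¹ * x)
      refine ⟨x', (zb.1 ≫ snd A B)⁻¹ * y, ?_⟩
      rw [MonObj.mul_comp, ← hx', MonObj.mul_comp, GrpObj.inv_comp, GrpObj.inv_comp]
      group

end Groth.Agent.Lib.Helper41.ProductSubgroup
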