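import Groth.Agent.Lib.Helper41.SepPoints
import Groth.Agent.Lib.Helper54.Reduced
import Groth.Agent.S0346

/-!
# Factorisation and equality of morphisms tested on points in a separably closed field (helper41)

`K` is a separably closed extension of the field `k`; `X` is a reduced `k`-scheme with dense smooth
locus (for instance a smooth `k`-scheme).

* `isSeparated_of_field` : a group scheme over a field is separated.
* `exists_factor_of_pts_factor` : a morphism `φ : X ⟶ G` factors through a closed immersion
  `i : H ⟶ G` as soon as it does so on `K`-points.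
* `eq_of_pts_eq` : two morphisms `X ⟶ G` to a separated `k`-scheme which agree on `K`-points are
  equal.
* `isReduced_of_smooth`, `dense_smoothLocus_of_smooth`, `smooth_tensor` : bookkeeping for smooth
  `k`-schemes.
-/

set_option autoImplicit false
universe u
open CategoryTheory Limits AlgebraicGeometry MonoidalCategory CartesianMonoidalCategory MonObj

namespace Groth.Agent.Lib.Helper41.SepPoints3

/-- A group scheme over a field is separated. -/
theorem isSeparated_of_field {k : Type u} [Field k] (G : Over (Spec (CommRingCat.of k)))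
    [GrpObj G] : IsSeparated G.hom := by
  have hsub : Subsingleton (Spec (CommRingCat.of k)) :=
    inferInstanceAs (Subsingleton (PrimeSpectrum k))
  have h1 : IsClosedImmersion η[G].left :=
    isClosedImmersion_of_comp_eq_id G.hom η[G].left (Over.w η[G])
  exact ((Groth.Agent.S0346.result _ G).1).mpr h1

theorem isReduced_of_smooth {k : Type u} [Field k] (X : Over (Spec (CommRingCat.of k)))
    [Smooth X.hom] : IsReduced X.left :=
  Groth.Agent.Lib.Helper54.isReduced_of_smooth_scheme X.hom

theorem dense_smoothLocus_of_smooth {k : Type u} [Field k] (X : Over (Spec (CommRingCat.of k)))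
    [Smooth X.hom] : Dense (X.hom.smoothLocus : Set X.left) := by
  rw [Scheme.Hom.smoothLocus_eq_top]
  exact dense_univ

theorem smooth_tensor {S : Scheme.{u}} (X Y : Over S) [Smooth X.hom] [Smooth Y.hom] :
    Smooth (X ⊗ Y).hom := by
  have e : (X ⊗ Y).hom = (fst X Y).left ≫ X.hom := (Over.w (fst X Y)).symm
  rw [e, Over.fst_left]
  infer_instance

variable (k K : Type u) [Field k] [Field K] [Algebra k K] [IsSepClosed K]

theorem exists_factor_of_pts_factor (X G H : Over (Spec (CommRingCat.of k)))
    [LocallyOfFinitePresentation X.hom] [IsReduced X.left]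
    (hd : Dense (X.hom.smoothLocus : Set X.left))
    (φ : X ⟶ G) (i : H ⟶ G) [IsClosedImmersion i.left]
    (h : ∀ x : SGA7.Pts K X, ∃ y : SGA7.Pts K H, y ≫ i = x ≫ φ) : ∃ ψ : X ⟶ H, ψ ≫ i = φ := by
  have hw : pullback.snd φ.left i.left ≫ H.hom = pullback.fst φ.left i.left ≫ X.hom := by
    rw [← Over.w i, ← Over.w φ, ← Category.assoc, ← Category.assoc, pullback.condition]
  let P : Over (Spec (CommRingCat.of k)) := Over.mk (pullback.fst φ.left i.left ≫ X.hom)
  let p₁ : P ⟶ X := Over.homMk (pullback.fst φ.left i.left) rfl
  let p₂ : P ⟶ H := Over.homMk (pullback.snd φ.left i.left) hw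
  have : IsClosedImmersion p₁.left := by
    change IsClosedImmersion (pullback.fst φ.left i.left)
    infer_instance
  have hcond : p₁ ≫ φ = p₂ ≫ i := by
    ext1
    exact pullback.condition
  have hs₁ : Surjective p₁.left := by
    apply Groth.Agent.Lib.Helper41.SepPoints.surjective_of_pts_factor k K X P p₁ hd
    intro x
    obtain ⟨y, hy⟩ := h x
    have hl : x.left ≫ φ.left = y.left ≫ i.left := (congrArg CommaMorphism.left hy).symm
    refine ⟨Over.homMk (pullback.lift x.left y.left hl) ?_, ?_⟩
    · change pullback.lift x.left y.left hl ≫ pullback.fst φ.left i.left ≫ X.hom = _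
      rw [pullback.lift_fst_assoc]
      exact Over.w x
    · ext1
      exact pullback.lift_fst _ _ _
  have : IsIso p₁.left := isIso_of_isClosedImmersion_of_surjective p₁.left
  have hi₁ : IsIso p₁ := by
    have : IsIso ((Over.forget _).map p₁) := by
      change IsIso p₁.left
      infer_instance
    exact isIso_of_reflects_iso p₁ (Over.forget _)
  refine ⟨inv p₁ ≫ p₂, ?_⟩
  rw [Category.assoc, ← hcond, IsIso.inv_hom_id_assoc]

theorem eq_of_pts_eq (X G : Over (Spec (CommRingCat.of k)))
    [LocallyOfFinitePresentation X.hom] [IsReduced X.left]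
    (hd : Dense (X.hom.smoothLocus : Set X.left)) [IsSeparated G.hom]
    (φ ψ : X ⟶ G) (h : ∀ x : SGA7.Pts K X, x ≫ φ = x ≫ ψ) : φ = ψ := by
  have hdiag : (lift (𝟙 G) (𝟙 G)).left = pullback.diagonal G.hom := by
    apply pullback.hom_ext <;> simp [pullback.diagonal]
  have : IsClosedImmersion (lift (𝟙 G) (𝟙 G)).left := by
    rw [hdiag]
    infer_instance
  obtain ⟨χ, hχ⟩ := exists_factor_of_pts_factor k K X (G ⊗ G) G hd (lift φ ψ) (lift (𝟙 G) (𝟙 G))
    (fun x => ⟨x ≫ φ, by
      rw [comp_lift, comp_lift, Category.comp_id, ← h x]⟩)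
  have h1 : χ = φ := by
    have := congrArg (· ≫ fst G G) hχ
    simpa using this
  have h2 : χ = ψ := by
    have := congrArg (· ≫ snd G G) hχ
    simpa using this
  rw [← h1, h2]

end Groth.Agent.Lib.Helper41.SepPoints3
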