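import Groth.Agent.Lib.Helper41.SmallestConnected
import Groth.Agent.Lib.Helper41.SepPoints3

/-!
# Properties of any smallest closed subgroup scheme; density in products; extensionality (helper41)

* `smallest_props` : any smallest closed subgroup scheme `Γ` through which `f : X ⟶ G` factors
  (`X` geometrically reduced over the field `k`) is reduced, geometrically reduced, with underlying
  set `closure (wordSet f)`.
* `dense_prod` : for `k`-schemes `H`, `H'` and dense subsets `A ⊆ H`, `B ⊆ H'`, the set of points
  of `H ⊗ H'` lying over `A` and `B` is dense.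
* `ext_of_dense_points` : two `S`-morphisms from a reduced scheme to a separated one agree if they
  agree after composing with points whose images cover a dense set.
-/

set_option autoImplicit false
universe u
open CategoryTheory MonoidalCategory CartesianMonoidalCategory MonObj AlgebraicGeometry

namespace Groth.Agent.Lib.Helper41.SmallestProps

open Groth.Agent.Lib.Helper41.WordPoints Groth.Agent.Lib.Helper41.SmallestSubgroup

section

variable {k : Type u} [Field k] {G X : Over (Spec (CommRingCat.of k))} [GrpObj G]

theorem smallest_props [GeometricallyReduced X.hom] (f : X ⟶ G)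
    (Γ : Over (Spec (CommRingCat.of k))) [GrpObj Γ] (i : Γ ⟶ G) [IsMonHom i]
    [IsClosedImmersion i.left] (hf : ∃ f' : X ⟶ Γ, f' ≫ i = f)
    (hmin : ∀ (Γ' : Over (Spec (CommRingCat.of k))) (_ : GrpObj Γ') (i' : Γ' ⟶ G), IsMonHom i' →
      IsClosedImmersion i'.left → (∃ f'' : X ⟶ Γ', f'' ≫ i' = f) → ∃ j : Γ ⟶ Γ', j ≫ i' = i) :
    IsReduced Γ.left ∧ GeometricallyReduced Γ.hom ∧
      Set.range i.left.base = closure (wordSet f) := by
  have hr := Groth.Agent.Lib.Helper41.SmallestConnected.range_eq_of_smallest f Γ i hf hmin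
  obtain ⟨Γ₀, hΓ₀, i₀, h1, h2, h3, h4, h5, h6, h7⟩ := exists_smallest_subgroup k G X f
  obtain ⟨j, hj⟩ := hmin Γ₀ hΓ₀ i₀ h1 h2 h3
  have hjl : j.left ≫ i₀.left = i.left := by rw [← Over.comp_left, hj]
  have hci : IsClosedImmersion (j.left ≫ i₀.left) := by rw [hjl]; infer_instance
  have hcj : IsClosedImmersion j.left := IsClosedImmersion.of_comp_isClosedImmersion j.left i₀.left
  have hsurj : Surjective j.left := by
    constructor
    intro y
    have hy : i₀.left.base y ∈ Set.range i.left.base := by
      rw [hr, ← h6]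
      exact ⟨y, rfl⟩
    obtain ⟨x, hx⟩ := hy
    refine ⟨x, ?_⟩
    apply i₀.left.isClosedEmbedding.injective
    rw [← hx, ← hjl]
    rfl
  have hiso : IsIso j.left := isIso_of_isClosedImmersion_of_surjective j.left
  refine ⟨isReduced_of_isOpenImmersion j.left, ?_, hr⟩
  rw [← Over.w j]
  have : MorphismProperty.IsStableUnderBaseChange
      (@GeometricallyReduced : MorphismProperty Scheme.{u}) := inferInstance
  have : MorphismProperty.RespectsIso (@GeometricallyReduced : MorphismProperty Scheme.{u}) :=
    MorphismProperty.IsStableUnderBaseChange.respectsIso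
  exact (MorphismProperty.cancel_left_of_respectsIso
    (@GeometricallyReduced : MorphismProperty Scheme.{u}) j.left Γ₀.hom).mpr h4

/-- Density of products of dense sets over a field. -/
theorem dense_prod (H H' : Over (Spec (CommRingCat.of k))) {A : Set H.left} {B : Set H'.left}
    (hA : Dense A) (hB : Dense B) :
    Dense {w : (H ⊗ H').left | (fst H H').left.base w ∈ A ∧ (snd H H').left.base w ∈ B} := by
  have hsub : Subsingleton (Spec (CommRingCat.of k)) :=
    inferInstanceAs (Subsingleton (PrimeSpectrum k))
  rw [dense_iff_inter_open]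
  intro N hN hNne
  obtain ⟨w, hwN⟩ := hNne
  have huo : UniversallyOpen (snd H H').left := by
    rw [Over.snd_left]
    infer_instance
  have hopen : IsOpen ((snd H H').left.base '' N) := (snd H H').left.isOpenMap _ hN
  obtain ⟨x, ⟨w₁, hw₁N, hw₁x⟩, hxS⟩ := hB.inter_open_nonempty _ hopen ⟨_, w, hwN, rfl⟩
  let Kx : Over (Spec (CommRingCat.of k)) := Over.mk (H'.left.fromSpecResidueField x ≫ H'.hom)
  let sx : Kx ⟶ H' := Over.homMk (H'.left.fromSpecResidueField x) rfl
  have hpb := Groth.Agent.Lib.Helper93.ActionOpen.isPullback_whiskerLeft_snd H sx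
  let c : Kx.left := (IsLocalRing.closedPoint (H'.left.residueField x) :
    PrimeSpectrum (H'.left.residueField x))
  have hc : ∀ c' : Kx.left, sx.left.base c' = x := fun c' =>
    Scheme.fromSpecResidueField_apply x c'
  obtain ⟨w₂, hw₂, hw₂'⟩ := Scheme.exists_preimage_of_isPullback hpb w₁ c
    (by rw [hw₁x, hc])
  let N₂ : Set (H ⊗ Kx).left := (H ◁ sx).left.base ⁻¹' N
  have hN₂ : IsOpen N₂ := hN.preimage (H ◁ sx).left.continuous
  have huo2 : UniversallyOpen (fst H Kx).left := by
    rw [Over.fst_left]
    infer_instance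
  have hopen2 : IsOpen ((fst H Kx).left.base '' N₂) := (fst H Kx).left.isOpenMap _ hN₂
  have hw₂N : w₂ ∈ N₂ := by
    change (H ◁ sx).left.base w₂ ∈ N
    rw [hw₂]
    exact hw₁N
  obtain ⟨x', ⟨w₃, hw₃N, hw₃x⟩, hx'S⟩ := hA.inter_open_nonempty _ hopen2 ⟨_, w₂, hw₂N, rfl⟩
  refine ⟨(H ◁ sx).left.base w₃, hw₃N, ?_, ?_⟩
  · change ((H ◁ sx).left ≫ (fst H H').left).base w₃ ∈ A
    rw [← Over.comp_left, whiskerLeft_fst, hw₃x]
    exact hx'S
  · change ((H ◁ sx).left ≫ (snd H H').left).base w₃ ∈ B
    rw [← Over.comp_left, whiskerLeft_snd, Over.comp_left]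
    change sx.left.base _ ∈ B
    rw [hc]
    exact hxS

end

/-- Two `Z`-morphisms from a reduced scheme to a separated one agree if they agree after composing
with test points whose images cover a dense set. -/
theorem ext_of_dense_points {Z : Scheme.{u}} {X' Y' : Over Z} [IsReduced X'.left]
    [IsSeparated Y'.hom] (f' g' : X' ⟶ Y') (D : Set X'.left) (hD : Dense D)
    (H : ∀ x ∈ D, ∃ (T : Over Z) (s : T ⟶ X') (t : T.left), s.left.base t = x ∧ s ≫ f' = s ≫ g') :
    f' = g' := by
  have hsurj : Surjective (Limits.equalizer.ι f' g').left := by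
    constructor
    have hcl : IsClosed (Set.range (Limits.equalizer.ι f' g').left.base) :=
      (Scheme.Hom.isClosedEmbedding _).isClosed_range
    have hsub : D ⊆ Set.range (Limits.equalizer.ι f' g').left.base := by
      intro x hx
      obtain ⟨T, s, t, rfl, hs⟩ := H x hx
      refine ⟨(Limits.equalizer.lift s hs).left.base t, ?_⟩
      change ((Limits.equalizer.lift s hs) ≫ Limits.equalizer.ι f' g').left.base t = _
      rw [Limits.equalizer.lift_ι]
    have huniv : Set.range (Limits.equalizer.ι f' g').left.base = Set.univ := by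
      rw [← hcl.closure_eq]
      exact Set.eq_univ_of_subset (closure_mono hsub) hD.closure_eq
    intro y
    have : y ∈ Set.range (Limits.equalizer.ι f' g').left.base := by
      rw [huniv]
      trivial
    exact this
  have := isIso_of_isClosedImmersion_of_surjective (Y := X'.left) (Limits.equalizer.ι f' g').left
  ext1
  rw [← cancel_epi (Limits.equalizer.ι f' g').left]
  exact congr($(Limits.equalizer.condition f' g').left)

end Groth.Agent.Lib.Helper41.SmallestProps
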