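import Groth.Agent.Lib.Helper41.HomogSmooth
import Groth.Agent.Lib.Helper41.SmoothGeomRed
import Groth.Agent.Lib.Helper19.Subscheme

/-!
# Restricting an action to a stable reduced subscheme (helper41)

* `exists_lift_of_isReduced_of_range_subset` : a morphism from a reduced scheme whose image lies
  in the image of an immersion factors through it.
* `actionOfMono` : if `act' ≫ j = (G ◁ j) ≫ a.act` with `j` mono, `act'` is an action.
* `orbitMap_actionOfMono`.
-/

set_option autoImplicit false
universe u
open CategoryTheory CategoryTheory.Limits MonoidalCategory CartesianMonoidalCategory MonObj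
  AlgebraicGeometry

namespace Groth.Agent.Lib.Helper41.OrbitSubscheme

/-- A morphism from a reduced scheme whose set-theoretic image lies in (the image of) an immersed
subscheme factors through it. -/
theorem exists_lift_of_isReduced_of_range_subset
    {X Y Z : Scheme.{u}} [IsReduced X] (f : X ⟶ Y) (j : Z ⟶ Y) [IsImmersion j]
    (h : Set.range f ⊆ Set.range j) :
    ∃ g : X ⟶ Z, g ≫ j = f := by
  have hU : Set.range f ⊆ Set.range j.coborderRange.ι := by
    rw [Scheme.Opens.range_ι]
    exact h.trans subset_coborder
  let f' : X ⟶ j.coborderRange.toScheme := IsOpenImmersion.lift j.coborderRange.ι f hU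
  have hf' : f' ≫ j.coborderRange.ι = f := IsOpenImmersion.lift_fac _ _ _
  have h' : Set.range f' ⊆ Set.range j.liftCoborder := by
    rintro _ ⟨x, rfl⟩
    obtain ⟨z, hz⟩ := h ⟨x, rfl⟩
    refine ⟨z, j.coborderRange.ι.isOpenEmbedding.injective ?_⟩
    rw [← Scheme.Hom.comp_apply, j.liftCoborder_ι, ← Scheme.Hom.comp_apply, hf']
    exact hz
  obtain ⟨g, hg⟩ := Groth.Agent.Lib.Helper19.exists_lift_of_isReduced_of_range_subset f'
    j.liftCoborder h'
  refine ⟨g, ?_⟩
  rw [← j.liftCoborder_ι, ← Category.assoc, hg, hf']

section Action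

variable {S : Scheme.{u}} {G X : Over S} [GrpObj G]

/-- Restriction of an action to a subobject through which it factors. -/
noncomputable def actionOfMono (a : AlgGrp.Action G X) {O : Over S} (j : O ⟶ X) [Mono j]
    (act' : G ⊗ O ⟶ O) (h : act' ≫ j = (G ◁ j) ≫ a.act) : AlgGrp.Action G O where
  act := act'
  one_act := by
    rw [← cancel_mono j, Category.assoc, h, ← whisker_exchange_assoc, a.one_act,
      leftUnitor_naturality]
  mul_act := by
    rw [← cancel_mono j]
    simp only [Category.assoc]
    rw [h, ← whisker_exchange_assoc, a.mul_act, ← whiskerLeft_comp_assoc, h, whiskerLeft_comp_assoc,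
      associator_naturality_right_assoc]

@[simp] theorem actionOfMono_act (a : AlgGrp.Action G X) {O : Over S} (j : O ⟶ X) [Mono j]
    (act' : G ⊗ O ⟶ O) (h : act' ≫ j = (G ◁ j) ≫ a.act) : (actionOfMono a j act' h).act = act' :=
  rfl

theorem orbitMap_actionOfMono (a : AlgGrp.Action G X) {O : Over S} (j : O ⟶ X) [Mono j]
    (act' : G ⊗ O ⟶ O) (h : act' ≫ j = (G ◁ j) ≫ a.act) (o : 𝟙_ (Over S) ⟶ O) :
    (actionOfMono a j act' h).orbitMap o ≫ j = a.orbitMap (o ≫ j) := by
  unfold AlgGrp.Action.orbitMap
  rw [actionOfMono_act, Category.assoc, h, ← Category.assoc]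
  congr 1
  apply CartesianMonoidalCategory.hom_ext
  · simp
  · simp

end Action

end Groth.Agent.Lib.Helper41.OrbitSubscheme
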