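import Mathlib

/-!
# A group object structure on a subobject stable under the group operations (helper41)

Let `G` be a group object of a cartesian monoidal category and `c : Z ⟶ G` a monomorphism.  If the
unit, the product `(z₁, z₂) ↦ c z₁ * c z₂` and the inverse `z ↦ (c z)⁻¹` factor through `c`, then
`Z` carries a group object structure for which `c` is a homomorphism.

* `grpObjOfMono` : the structure.
* `isMonHom_of_mono` : `c` is a homomorphism for it.
-/

set_option autoImplicit false
universe v u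
open CategoryTheory MonoidalCategory CartesianMonoidalCategory MonObj

namespace Groth.Agent.Lib.Helper41.SubgroupOfMono

variable {C : Type u} [Category.{v} C] [CartesianMonoidalCategory C] {G Z : C} [GrpObj G]

section

variable (c : Z ⟶ G) (m : Z ⊗ Z ⟶ Z) (hm : m ≫ c = (fst Z Z ≫ c) * (snd Z Z ≫ c))

include hm in
theorem comp_mul_comp {T : C} (f : T ⟶ Z ⊗ Z) :
    f ≫ m ≫ c = (f ≫ fst Z Z ≫ c) * (f ≫ snd Z Z ≫ c) := by
  rw [hm, MonObj.comp_mul]

include hm in
theorem lift_comp_mul_comp {T : C} (f g : T ⟶ Z) :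
    lift f g ≫ m ≫ c = (f ≫ c) * (g ≫ c) := by
  rw [comp_mul_comp c m hm, lift_fst_assoc, lift_snd_assoc]

end

/-- The group object structure on a subobject `c : Z ⟶ G` stable under unit, product, inverse. -/
@[reducible] def grpObjOfMono (c : Z ⟶ G) [Mono c] (e : 𝟙_ C ⟶ Z) (he : e ≫ c = η[G])
    (m : Z ⊗ Z ⟶ Z) (hm : m ≫ c = (fst Z Z ≫ c) * (snd Z Z ≫ c))
    (iv : Z ⟶ Z) (hiv : iv ≫ c = c⁻¹) : GrpObj Z where
  one := e
  mul := m
  one_mul := by
    rw [← cancel_mono c, Category.assoc, comp_mul_comp c m hm]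
    simp only [whiskerRight_fst_assoc, whiskerRight_snd_assoc, he, leftUnitor_hom]
    have h1 : fst (𝟙_ C) Z = toUnit _ := toUnit_unique _ _
    rw [h1, ← Hom.one_def, _root_.one_mul]
  mul_one := by
    rw [← cancel_mono c, Category.assoc, comp_mul_comp c m hm]
    simp only [whiskerLeft_fst_assoc, whiskerLeft_snd_assoc, he, rightUnitor_hom]
    have h1 : snd Z (𝟙_ C) = toUnit _ := toUnit_unique _ _
    rw [h1, ← Hom.one_def, _root_.mul_one]
  mul_assoc := by
    rw [← cancel_mono c]
    simp only [Category.assoc, comp_mul_comp c m hm, MonObj.comp_mul, whiskerRight_fst_assoc,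
      whiskerRight_snd_assoc, whiskerLeft_fst_assoc, whiskerLeft_snd_assoc,
      associator_hom_fst_assoc, associator_hom_snd_fst_assoc, associator_hom_snd_snd_assoc]
    rw [_root_.mul_assoc]
  inv := iv
  left_inv := by
    rw [← cancel_mono c, Category.assoc, lift_comp_mul_comp c m hm, hiv, Category.id_comp,
      inv_mul_cancel, Category.assoc, he, Hom.one_def]
  right_inv := by
    rw [← cancel_mono c, Category.assoc, lift_comp_mul_comp c m hm, hiv, Category.id_comp,
      mul_inv_cancel, Category.assoc, he, Hom.one_def]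

theorem isMonHom_of_mono (c : Z ⟶ G) [Mono c] (e : 𝟙_ C ⟶ Z) (he : e ≫ c = η[G])
    (m : Z ⊗ Z ⟶ Z) (hm : m ≫ c = (fst Z Z ≫ c) * (snd Z Z ≫ c))
    (iv : Z ⟶ Z) (hiv : iv ≫ c = c⁻¹) :
    letI := grpObjOfMono c e he m hm iv hiv
    IsMonHom c := by
  letI := grpObjOfMono c e he m hm iv hiv
  refine ⟨he, ?_⟩
  change m ≫ c = (c ⊗ₘ c) ≫ μ[G]
  rw [hm, Hom.mul_def]
  congr 1
  apply CartesianMonoidalCategory.hom_ext <;> simp

end Groth.Agent.Lib.Helper41.SubgroupOfMono
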