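import Groth.Agent.Lib.Helper41.SmallestSubgroup

/-!
# Rational points under words (helper41)

* `ofFn_prod_eq_word`, `exists_ofFn_eq_word` : conversion between the `List.ofFn` form of a signed
  word and `WordPoints.word`.
* `exists_lft_factor` : a signed list of `T`-points of `X` (locally of finite type over `k`) is
  pulled back from a signed list with values in a scheme locally of finite type over `k`.
-/

set_option autoImplicit false
universe u
open CategoryTheory MonoidalCategory CartesianMonoidalCategory MonObj AlgebraicGeometry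

namespace Groth.Agent.Lib.Helper41.WordRational

open Groth.Agent.Lib.Helper41.WordPoints

variable {k : Type u} [Field k] {G X : Over (Spec (CommRingCat.of k))} [GrpObj G]

theorem ofFn_prod_eq_word (f : X ⟶ G) {T : Over (Spec (CommRingCat.of k))} {n : ℕ}
    (x : Fin n → (T ⟶ X)) (ε : Fin n → Bool) :
    (List.ofFn fun j : Fin n => if ε j then x j ≫ f else (x j ≫ f)⁻¹).prod =
      word f (List.ofFn fun j => (x j, ε j)) := by
  unfold word
  rw [List.map_ofFn]
  rfl

theorem exists_ofFn_eq_word (f : X ⟶ G) {T : Over (Spec (CommRingCat.of k))}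
    (l : List ((T ⟶ X) × Bool)) :
    ∃ (n : ℕ) (x : Fin n → (T ⟶ X)) (ε : Fin n → Bool),
      (List.ofFn fun j : Fin n => if ε j then x j ≫ f else (x j ≫ f)⁻¹).prod = word f l := by
  refine ⟨l.length, fun j => (l.get j).1, fun j => (l.get j).2, ?_⟩
  rw [ofFn_prod_eq_word]
  congr 1
  exact List.ofFn_get l

theorem exists_lft_factor [LocallyOfFiniteType X.hom]
    {T : Over (Spec (CommRingCat.of k))} (l : List ((T ⟶ X) × Bool)) :
    ∃ (P : Over (Spec (CommRingCat.of k))) (_ : LocallyOfFiniteType P.hom)
      (l' : List ((P ⟶ X) × Bool)) (g : T ⟶ P), l = l'.map (fun xb => (g ≫ xb.1, xb.2)) := by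
  induction l with
  | nil =>
    refine ⟨𝟙_ _, ?_, [], toUnit T, rfl⟩
    change LocallyOfFiniteType (𝟙 (Spec (CommRingCat.of k)))
    infer_instance
  | cons yb l ih =>
    obtain ⟨P, hP, l', g, hl⟩ := ih
    have hXP : LocallyOfFiniteType (X ⊗ P).hom := by
      change LocallyOfFiniteType (Limits.pullback.fst X.hom P.hom ≫ X.hom)
      infer_instance
    refine ⟨X ⊗ P, hXP, (fst X P, yb.2) :: l'.map (fun xb => (snd X P ≫ xb.1, xb.2)),
      lift yb.1 g, ?_⟩
    rw [List.map_cons, List.map_map, hl]
    congr 1
    · rw [lift_fst]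
    · apply List.map_congr_left
      intro xb _
      simp only [Function.comp_apply, lift_snd_assoc]

end Groth.Agent.Lib.Helper41.WordRational
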