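import Groth.Agent.Lib.Helper41.TransitiveFlat

/-!
# Surjective homomorphisms onto reduced group schemes are faithfully flat (helper41)

* `actionOfHom φ` : the action of `H` on `Q` through a homomorphism `φ : H ⟶ Q` and left translation.
* `exists_kpoint_lift_of_surjective` : `K`-points lift along surjective morphisms locally of finite
  type (`K` algebraically closed).
* `flat_surjective_of_kpoints_lift` : a homomorphism `φ : H ⟶ Q` of `k`-group schemes of finite type
  with `Q` reduced, such that every `K`-point of `Q` lifts to `H`, is flat and surjective.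
* `flat_of_surjective_hom` : a surjective homomorphism onto a reduced group scheme is flat.
-/

set_option autoImplicit false
universe u
open CategoryTheory CategoryTheory.Limits MonoidalCategory CartesianMonoidalCategory MonObj
  AlgebraicGeometry

namespace Groth.Agent.Lib.Helper41.HomFlat

open Groth.Agent.Lib.Helper41.TransitiveFlat

section General

variable {S : Scheme.{u}} {H Q : Over S} [GrpObj H] [GrpObj Q]

omit [GrpObj H] in
theorem act_pt_aux (φ : H ⟶ Q) {T : Over S} (h : T ⟶ H) (y : T ⟶ Q) :
    lift h y ≫ (φ ▷ Q) ≫ μ[Q] = (h ≫ φ) * y := by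
  rw [lift_whiskerRight_assoc, ← Hom.mul_def]

/-- the action of `H` on `Q` by left translation through `φ` -/
noncomputable def actionOfHom (φ : H ⟶ Q) [IsMonHom φ] : AlgGrp.Action H Q where
  act := (φ ▷ Q) ≫ μ[Q]
  one_act := by
    have hid : 𝟙 (𝟙_ (Over S) ⊗ Q) = lift (fst _ Q) (snd _ Q) := by
      apply CartesianMonoidalCategory.hom_ext <;> simp
    rw [← Category.id_comp ((η[H] ▷ Q) ≫ _), hid, lift_whiskerRight_assoc, act_pt_aux,
      Category.assoc, IsMonHom.one_hom, leftUnitor_hom]
    have h1 : fst (𝟙_ (Over S)) Q ≫ η[Q] = 1 := by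
      rw [Hom.one_def, toUnit_unique (fst (𝟙_ (Over S)) Q) (toUnit _)]
    rw [h1, _root_.one_mul]
  mul_act := by
    have hid : 𝟙 ((H ⊗ H) ⊗ Q) = lift (lift (fst (H ⊗ H) Q ≫ fst H H) (fst (H ⊗ H) Q ≫ snd H H))
        (snd (H ⊗ H) Q) := by
      apply CartesianMonoidalCategory.hom_ext
      · apply CartesianMonoidalCategory.hom_ext <;> simp
      · simp
    rw [← Category.id_comp ((μ[H] ▷ Q) ≫ _), ← Category.id_comp ((α_ H H Q).hom ≫ _), hid,
      lift_whiskerRight_assoc, lift_lift_associator_hom_assoc, lift_whiskerLeft_assoc,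
      act_pt_aux, act_pt_aux, act_pt_aux, ← Hom.mul_def, MonObj.mul_comp, _root_.mul_assoc]

theorem actionOfHom_pt (φ : H ⟶ Q) [IsMonHom φ] {T : Over S} (h : T ⟶ H) (y : T ⟶ Q) :
    lift h y ≫ (actionOfHom φ).act = (h ≫ φ) * y :=
  act_pt_aux φ h y

/-- the action of `H` on itself by left translation -/
noncomputable def actionLeftMul (H : Over S) [GrpObj H] : AlgGrp.Action H H := actionOfHom (𝟙 H)

theorem actionLeftMul_pt {T : Over S} (h y : T ⟶ H) :
    lift h y ≫ (actionLeftMul H).act = h * y := by
  unfold actionLeftMul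
  rw [actionOfHom_pt, Category.comp_id]

theorem equivariant_hom (φ : H ⟶ Q) [IsMonHom φ] :
    (H ◁ φ) ≫ (actionOfHom φ).act = (actionLeftMul H).act ≫ φ := by
  have hid : 𝟙 (H ⊗ H) = lift (fst H H) (snd H H) := by
    apply CartesianMonoidalCategory.hom_ext <;> simp
  rw [← Category.id_comp ((H ◁ φ) ≫ _), ← Category.id_comp ((actionLeftMul H).act ≫ φ), hid,
    lift_whiskerLeft_assoc, actionOfHom_pt, ← Category.assoc, actionLeftMul_pt, MonObj.mul_comp]

end General

section Field

variable (k K : Type u) [Field k] [Field K] [Algebra k K] [IsAlgClosed K]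

/-- `K`-points lift along surjective morphisms locally of finite type. -/
theorem exists_kpoint_lift_of_surjective {G Q : Over (Spec (CommRingCat.of k))} (q : G ⟶ Q)
    [Surjective q.left] [LocallyOfFiniteType q.left] (z : SpK k K ⟶ Q) :
    ∃ g : SpK k K ⟶ G, g ≫ q = z := by
  let P' : Over (Spec (CommRingCat.of K)) := Over.mk (pullback.fst z.left q.left)
  have hlft : LocallyOfFiniteType P'.hom := by
    change LocallyOfFiniteType (pullback.fst z.left q.left)
    infer_instance
  have hsurj : Surjective (pullback.fst z.left q.left) := inferInstance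
  have hne : (Set.univ : Set P'.left).Nonempty := by
    obtain ⟨w, -⟩ := hsurj.surj (IsLocalRing.closedPoint K)
    exact ⟨w, trivial⟩
  obtain ⟨t, -⟩ := exists_kpoint_mem K K P' Set.univ hne isOpen_univ.isLocallyClosed
  have hid : Spec.map (CommRingCat.ofHom (algebraMap K K)) = 𝟙 _ := by
    rw [Algebra.algebraMap_self]
    exact Spec.map_id _
  have htw : t.left ≫ pullback.fst z.left q.left = 𝟙 (Spec (CommRingCat.of K)) :=
    (Over.w t).trans hid
  have hgq : (t.left ≫ pullback.snd z.left q.left) ≫ q.left = z.left := by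
    rw [Category.assoc, ← pullback.condition, ← Category.assoc, htw]
    exact Category.id_comp _
  refine ⟨Over.homMk (t.left ≫ pullback.snd z.left q.left) ?_, ?_⟩
  · rw [← Over.w q, ← Category.assoc, hgq, Over.w z]
  · ext
    exact hgq

/-- A homomorphism `φ : H ⟶ Q` of `k`-group schemes of finite type with `Q` reduced, such that every
`K`-point of `Q` lifts to `H`, is flat and surjective. -/
theorem flat_surjective_of_kpoints_lift {H Q : Over (Spec (CommRingCat.of k))} [GrpObj H] [GrpObj Q]
    [LocallyOfFiniteType H.hom] [QuasiCompact H.hom] [LocallyOfFiniteType Q.hom]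
    [IsReduced Q.left] (φ : H ⟶ Q) [IsMonHom φ]
    (hlift : ∀ z : SpK k K ⟶ Q, ∃ h : SpK k K ⟶ H, h ≫ φ = z) :
    Flat φ.left ∧ Surjective φ.left := by
  have hne : Nonempty H.left := ⟨η[H].left.base (IsLocalRing.closedPoint k)⟩
  refine flat_surjective_of_transitive k K H H Q (actionLeftMul H) (actionOfHom φ) φ
    (equivariant_hom φ) ?_
  intro y y'
  obtain ⟨h, hh⟩ := hlift (y' * y⁻¹)
  refine ⟨h, ?_⟩
  rw [actionOfHom_pt, hh, inv_mul_cancel_right]

end Field

section AlgClosure

variable (k : Type u) [Field k]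

/-- A surjective homomorphism of `k`-group schemes of finite type onto a reduced one is flat. -/
theorem flat_of_surjective_hom {H Q : Over (Spec (CommRingCat.of k))} [GrpObj H] [GrpObj Q]
    [LocallyOfFiniteType H.hom] [QuasiCompact H.hom] [LocallyOfFiniteType Q.hom]
    [IsReduced Q.left] (φ : H ⟶ Q) [IsMonHom φ] [Surjective φ.left] : Flat φ.left := by
  have hlft : LocallyOfFiniteType φ.left := by
    have : LocallyOfFiniteType (φ.left ≫ Q.hom) := by
      rw [Over.w φ]
      infer_instance
    exact locallyOfFiniteType_of_comp φ.left Q.hom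
  exact (flat_surjective_of_kpoints_lift k (AlgebraicClosure k) φ
    (fun z => exists_kpoint_lift_of_surjective k (AlgebraicClosure k) φ z)).1

end AlgClosure

end Groth.Agent.Lib.Helper41.HomFlat
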