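import Mathlib.CategoryTheory.Limits.Shapes.Pullback.IsPullback.Basic

/-!
# Cartesian squares via points (helper41)

* `isPullback_of_existsUnique` : a commutative square is cartesian when every compatible pair of
  `T`-points lifts uniquely.
-/

set_option autoImplicit false
open CategoryTheory CategoryTheory.Limits

namespace Groth.Agent.Lib.Helper41.PointsPullback2

universe v₁ u₁
variable {C : Type u₁} [Category.{v₁} C]

theorem isPullback_of_existsUnique {P X Y Z : C} {fst : P ⟶ X} {snd : P ⟶ Y} {f : X ⟶ Z}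
    {g : Y ⟶ Z} (w : fst ≫ f = snd ≫ g)
    (h : ∀ (T : C) (a : T ⟶ X) (b : T ⟶ Y), a ≫ f = b ≫ g →
      ∃! t : T ⟶ P, t ≫ fst = a ∧ t ≫ snd = b) :
    IsPullback fst snd f g := by
  refine ⟨⟨w⟩, ⟨PullbackCone.IsLimit.mk _
    (fun s => (h _ s.fst s.snd s.condition).exists.choose) ?_ ?_ ?_⟩⟩
  · intro s
    exact (h _ s.fst s.snd s.condition).exists.choose_spec.1
  · intro s
    exact (h _ s.fst s.snd s.condition).exists.choose_spec.2
  · intro s m hm1 hm2
    exact (h _ s.fst s.snd s.condition).unique ⟨hm1, hm2⟩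
      (h _ s.fst s.snd s.condition).exists.choose_spec

end Groth.Agent.Lib.Helper41.PointsPullback2
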