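import Groth.Agent.Lib.Helper41.FppfPoints
import Groth.Agent.Lib.Helper41.PointsPullback2

/-!
# The kernel pair of a homomorphism of group objects (helper41)

* `isPullback_fst_mul_of_isKernel` : for a homomorphism `f : X ⟶ Y` with kernel `i : N ⟶ X`, the square
  `X ⊗ N ⟶ X` (first projection), `X ⊗ N ⟶ X` (`(x, n) ↦ x · n`) over `f`, `f` is cartesian:
  `X ×_Y X ≅ X × N`.
-/

set_option autoImplicit false
universe u
open CategoryTheory CategoryTheory.Limits MonoidalCategory CartesianMonoidalCategory MonObj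
  AlgebraicGeometry

namespace Groth.Agent.Lib.Helper41.KernelPair

variable {S : Scheme.{u}} {N X Y : Over S} [GrpObj X] [GrpObj Y]

theorem isPullback_fst_mul_of_isKernel (f : X ⟶ Y) [IsMonHom f] (i : N ⟶ X)
    (hN : AlgGrp.IsKernel i f) :
    IsPullback (fst X N) ((X ◁ i) ≫ μ[X]) f f := by
  have hmono_η : Mono η[Y] := by
    have : IsSplitMono η[Y] := ⟨⟨⟨toUnit Y, toUnit_unique _ _⟩⟩⟩
    infer_instance
  have hN' : IsPullback i (toUnit N) f η[Y] := hN
  have hmono_i : Mono i :=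
    MorphismProperty.of_isPullback (P := MorphismProperty.monomorphisms _) hN'.flip
      ((MorphismProperty.monomorphisms.iff _).mpr hmono_η)
  have hw : X ◁ i = lift (fst X N) (snd X N ≫ i) := by
    apply CartesianMonoidalCategory.hom_ext <;> simp
  have hpt : ∀ (T : Over S) (t : T ⟶ X ⊗ N),
      t ≫ (X ◁ i) ≫ μ[X] = (t ≫ fst X N) * ((t ≫ snd X N) ≫ i) := by
    intro T t
    rw [hw, ← Hom.mul_def, MonObj.comp_mul, Category.assoc]
  refine Groth.Agent.Lib.Helper41.PointsPullback2.isPullback_of_existsUnique ?_ ?_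
  · have := hpt _ (𝟙 (X ⊗ N))
    simp only [Category.id_comp] at this
    rw [this, MonObj.mul_comp,
      Groth.Agent.Lib.Helper41.FppfPoints.comp_eq_one_of_isKernel hN (snd X N), _root_.mul_one]
  · intro T x₁ x₂ hx
    have h1 : (x₁⁻¹ * x₂) ≫ f = 1 := by
      rw [MonObj.mul_comp, GrpObj.inv_comp, hx, inv_mul_cancel]
    obtain ⟨z, hz⟩ := Groth.Agent.Lib.Helper41.FppfPoints.mem_of_isKernel hN _ h1
    refine ⟨lift x₁ z, ⟨lift_fst _ _, ?_⟩, ?_⟩
    · rw [hpt, lift_fst, lift_snd, hz, mul_inv_cancel_left]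
    · rintro t' ⟨ht1, ht2⟩
      rw [hpt, ht1] at ht2
      have h2 : (t' ≫ snd X N) ≫ i = z ≫ i := by
        rw [hz, ← ht2, inv_mul_cancel_left]
      have h3 : t' ≫ snd X N = z := (cancel_mono i).mp h2
      apply CartesianMonoidalCategory.hom_ext
      · rw [ht1, lift_fst]
      · rw [h3, lift_snd]

end Groth.Agent.Lib.Helper41.KernelPair
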