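import Groth.Agent.Lib.Helper41.ActionPoints2
import Groth.Prelude.Def_AGF

/-!
# Points calculus for quotients `G/H` in the sense of `AGF.IsQuotient` (helper41)

For `hq : AGF.IsQuotient i X a o` with orbit map `π = a.orbitMap o : G ⟶ X`:
* `lift_whiskerLeft_mul` : `lift g h ≫ (G ◁ i) ≫ μ = g * (h ≫ i)`.
* `orbit_mul_right` : `(g * (h ≫ i)) ≫ π = g ≫ π`.
* `orbit_stab` : `(h ≫ i) ≫ π = toUnit ≫ o`.
* `exists_of_orbit_eq` : `g₁ ≫ π = g₂ ≫ π → ∃ h, g₂ = g₁ * (h ≫ i)`.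
* `whiskerLeft_orbitMap_act` : `(G ◁ π) ≫ a.act = μ ≫ π` (the orbit map is equivariant).
* `uEE_orbitMap` : over a field, with `G` l.f.t., `π` is a universally effective epimorphism.
* `exists_desc` : a morphism `f : G ⟶ Z` which is right `H`-invariant factors uniquely through `π`.
-/

set_option autoImplicit false
universe u
open CategoryTheory CategoryTheory.Limits MonoidalCategory CartesianMonoidalCategory MonObj
  AlgebraicGeometry

namespace Groth.Agent.Lib.Helper41.QuotientPoints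

open Groth.Agent.H26 Groth.Agent.Lib.Helper41.ActionPoints Groth.Agent.Lib.Helper93.ActionOpen

section General

variable {S : Scheme.{u}} {G H X : Over S} [GrpObj G] [GrpObj H]

theorem lift_whiskerLeft_mul {T : Over S} (i : H ⟶ G) (g : T ⟶ G) (h : T ⟶ H) :
    lift g h ≫ (G ◁ i) ≫ μ[G] = g * (h ≫ i) := by
  rw [lift_whiskerLeft_assoc, Hom.mul_def]

theorem whiskerLeft_mul_eq (i : H ⟶ G) :
    (G ◁ i) ≫ μ[G] = fst G H * (snd G H ≫ i) := by
  have := lift_whiskerLeft_mul i (fst G H) (snd G H)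
  rwa [lift_fst_snd, Category.id_comp] at this

variable {i : H ⟶ G} {a : AlgGrp.Action G X} {o : 𝟙_ (Over S) ⟶ X}

theorem orbit_mul_right (hq : AGF.IsQuotient i X a o) {T : Over S} (g : T ⟶ G) (h : T ⟶ H) :
    (g * (h ≫ i)) ≫ a.orbitMap o = g ≫ a.orbitMap o := by
  have h1 := hq.2.2.2.w
  have h2 : lift g h ≫ fst G H ≫ a.orbitMap o = lift g h ≫ ((G ◁ i) ≫ μ[G]) ≫ a.orbitMap o := by
    rw [h1]
  rw [lift_fst_assoc, Category.assoc, ← Category.assoc (G ◁ i), ← Category.assoc (lift g h),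
    lift_whiskerLeft_mul] at h2
  exact h2.symm

theorem one_orbit (a : AlgGrp.Action G X) (o : 𝟙_ (Over S) ⟶ X) {T : Over S} :
    (1 : T ⟶ G) ≫ a.orbitMap o = toUnit T ≫ o := by
  rw [orbit_pt, act_one]

theorem orbit_stab (hq : AGF.IsQuotient i X a o) {T : Over S} (h : T ⟶ H) :
    (h ≫ i) ≫ a.orbitMap o = toUnit T ≫ o := by
  have := orbit_mul_right hq (1 : T ⟶ G) h
  rwa [_root_.one_mul, one_orbit] at this

theorem exists_of_orbit_eq (hq : AGF.IsQuotient i X a o) {T : Over S} (g₁ g₂ : T ⟶ G)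
    (h : g₁ ≫ a.orbitMap o = g₂ ≫ a.orbitMap o) : ∃ h' : T ⟶ H, g₂ = g₁ * (h' ≫ i) := by
  obtain ⟨t, ht1, ht2⟩ := hq.2.2.2.exists_lift g₁ g₂ h
  refine ⟨t ≫ snd G H, ?_⟩
  rw [← ht2, ← ht1, whiskerLeft_mul_eq, MonObj.comp_mul, Category.assoc]

theorem whiskerLeft_orbitMap_act (a : AlgGrp.Action G X) (o : 𝟙_ (Over S) ⟶ X) :
    (G ◁ a.orbitMap o) ≫ a.act = μ[G] ≫ a.orbitMap o := by
  have h1 := orbit_mul a o (fst G G) (snd G G)
  have h2 : fst G G * snd G G = μ[G] := by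
    rw [Hom.mul_def, lift_fst_snd, Category.id_comp]
  have h3 : lift (fst G G) (snd G G ≫ a.orbitMap o) = G ◁ a.orbitMap o := by
    apply CartesianMonoidalCategory.hom_ext <;> simp
  rw [h2, h3] at h1
  exact h1.symm

end General

section Field

variable {k : Type u} [Field k] {G H X : Over (Spec (CommRingCat.of k))} [GrpObj G] [GrpObj H]
  {i : H ⟶ G} {a : AlgGrp.Action G X} {o : 𝟙_ (Over (Spec (CommRingCat.of k))) ⟶ X}

theorem uEE_orbitMap [LocallyOfFiniteType G.hom] (hq : AGF.IsQuotient i X a o) :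
    UEE (Over (Spec (CommRingCat.of k))) (a.orbitMap o) := by
  have h1 : LocallyOfFiniteType X.hom := hq.1
  have h2 : Flat (a.orbitMap o).left := hq.2.1
  have h3 : Surjective (a.orbitMap o).left := hq.2.2.1
  exact Groth.Agent.Lib.Helper41.FppfPoints.uEE_of_flat_surjective _

theorem exists_desc [LocallyOfFiniteType G.hom] (hq : AGF.IsQuotient i X a o)
    {Z : Over (Spec (CommRingCat.of k))} (f : G ⟶ Z)
    (hf : ∀ (T : Over (Spec (CommRingCat.of k))) (g : T ⟶ G) (h : T ⟶ H),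
      (g * (h ≫ i)) ≫ f = g ≫ f) :
    ∃ f' : X ⟶ Z, a.orbitMap o ≫ f' = f ∧ ∀ f'' : X ⟶ Z, a.orbitMap o ≫ f'' = f → f'' = f' := by
  have hU := uEE_orbitMap hq
  have he : EffectiveEpi (a.orbitMap o) := hU.effectiveEpi
  have hepi : Epi (a.orbitMap o) := hU.epi
  have hcoeq : ∀ {W : Over (Spec (CommRingCat.of k))} (g₁ g₂ : W ⟶ G),
      g₁ ≫ a.orbitMap o = g₂ ≫ a.orbitMap o → g₁ ≫ f = g₂ ≫ f := by
    intro W g₁ g₂ hg
    obtain ⟨h, hh⟩ := exists_of_orbit_eq hq g₁ g₂ hg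
    rw [hh, hf]
  refine ⟨EffectiveEpi.desc (a.orbitMap o) f hcoeq, EffectiveEpi.fac _ _ _, ?_⟩
  intro f'' h
  rw [← cancel_epi (a.orbitMap o), h, EffectiveEpi.fac]

end Field

end Groth.Agent.Lib.Helper41.QuotientPoints
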