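import Groth.Agent.Lib.Helper41.GenStep
import Groth.Agent.Lib.Helper41.CosetConn
import Groth.Agent.Lib.Helper12.GeomAlgClosed

/-!
# Bounded word length for connected `X` over an algebraically closed field (helper41)

* `opn_lft`, `opn_qc`, `opn_geomRed`, `opn_geomIrr` : properties of irreducible open subschemes.
* `exists_subgroup_of_list` : an irreducible closed subgroup of bounded word length containing
  `f(x) f(y)⁻¹` for `x, y` in one of finitely many irreducible opens.
* `bounded_of_algClosed`.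
-/

set_option autoImplicit false
universe u
open CategoryTheory CategoryTheory.Limits MonoidalCategory CartesianMonoidalCategory MonObj GrpObj AlgebraicGeometry

namespace Groth.Agent.Lib.Helper41.BoundedAlgClosed

open Groth.Agent.Lib.Helper41.WordPoints Groth.Agent.Lib.Helper41.WordLength
  Groth.Agent.Lib.Helper41.GenStep Groth.Agent.Lib.Helper41.CosetConn

theorem geometricallyReduced_of_isOpenImmersion {X Y : Scheme.{u}} (j : X ⟶ Y)
    [IsOpenImmersion j] : GeometricallyReduced j := by
  constructor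
  intro K _ y Z fstZ sndZ hpb
  have : IsOpenImmersion sndZ := MorphismProperty.of_isPullback hpb inferInstance
  exact isReduced_of_isOpenImmersion sndZ

variable {k : Type u} [Field k] {G X : Over (Spec (CommRingCat.of k))}

theorem noetherianSpace_of_lft_qc [LocallyOfFiniteType X.hom] [QuasiCompact X.hom] :
    TopologicalSpace.NoetherianSpace X.left := by
  have h1 : IsLocallyNoetherian X.left := LocallyOfFiniteType.isLocallyNoetherian X.hom
  have h2 : CompactSpace X.left := QuasiCompact.compactSpace_of_compactSpace X.hom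
  have : IsNoetherian X.left := { }
  infer_instance

theorem opn_lft [LocallyOfFiniteType X.hom] (U : X.left.Opens) :
    LocallyOfFiniteType (opn X U).hom := by
  change LocallyOfFiniteType (U.ι ≫ X.hom)
  infer_instance

theorem opn_qc [LocallyOfFiniteType X.hom] [QuasiCompact X.hom] (U : X.left.Opens) :
    QuasiCompact (opn X U).hom := by
  have := noetherianSpace_of_lft_qc (X := X)
  have : TopologicalSpace.NoetherianSpace U.toScheme :=
    inferInstanceAs (TopologicalSpace.NoetherianSpace (U : Set X.left))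
  change QuasiCompact (U.ι ≫ X.hom)
  infer_instance

theorem opn_geomRed [LocallyOfFiniteType X.hom] [GeometricallyReduced X.hom] (U : X.left.Opens) :
    GeometricallyReduced (opn X U).hom := by
  have := geometricallyReduced_of_isOpenImmersion U.ι
  change GeometricallyReduced (U.ι ≫ X.hom)
  exact Groth.Agent.Lib.Helper41.GeomRedSep.geometricallyReduced_comp _ _

theorem opn_geomIrr [IsAlgClosed k] (U : X.left.Opens) (hU : IsIrreducible (U : Set X.left)) :
    GeometricallyIrreducible (opn X U).hom := by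
  have : IrreducibleSpace U.toScheme := Subtype.irreducibleSpace hU
  change GeometricallyIrreducible (U.ι ≫ X.hom)
  exact Groth.Agent.Lib.Helper12.GeomAlgClosed.geometricallyIrreducible_of_irreducibleSpace _

variable [GrpObj G]

theorem gU_eq_mulHom (f : X ⟶ G) (U : X.left.Opens) :
    gU f U = mulHom (opnι X U ≫ f) (opnι X U ≫ f)⁻¹ := by
  unfold gU mulHom
  rw [GrpObj.comp_inv]

theorem range_gU_subset (f : X ⟶ G) (U : X.left.Opens) :
    Set.range (gU f U).left.base ⊆ wordLen f 2 := by
  rw [gU_eq_mulHom]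
  apply range_mulHom_subset f _ _ 1 1
  · rintro _ ⟨y, rfl⟩
    exact wordLen_one f ⟨(opnι X U).left.base y, rfl⟩
  · rintro _ ⟨y, rfl⟩
    rw [Hom.inv_def]
    exact wordLen_inv f 1 _ (wordLen_one f ⟨(opnι X U).left.base y, rfl⟩)

theorem he_gU (f : X ⟶ G) (U : X.left.Opens) (hne : (U : Set X.left).Nonempty) :
    ∃ w : (opn X U ⊗ opn X U).left, (gU f U).left.base w ∈ Set.range η[G].left.base := by
  obtain ⟨x, hx⟩ := hne
  let y : (opn X U).left := ⟨x, hx⟩
  let δ : opn X U ⟶ opn X U ⊗ opn X U := lift (𝟙 _) (𝟙 _)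
  have hδ : δ ≫ gU f U = 1 := by
    unfold gU
    rw [MonObj.comp_mul, GrpObj.comp_inv, lift_fst_assoc, lift_snd_assoc, Category.id_comp,
      mul_inv_cancel]
  refine ⟨δ.left.base y, (toUnit (opn X U)).left.base y, ?_⟩
  change _ = (δ ≫ gU f U).left.base y
  rw [hδ, Hom.one_def]
  rfl

/-- An irreducible closed subgroup with bounded word length containing `f(x) f(y)⁻¹` for `x, y` in
one of the irreducible opens of the list. -/
theorem exists_subgroup_of_list [IsAlgClosed k] [LocallyOfFiniteType G.hom]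
    [LocallyOfFiniteType X.hom] [QuasiCompact X.hom] [GeometricallyReduced X.hom] (f : X ⟶ G)
    (l : List X.left.Opens) (hl : ∀ U ∈ l, IsIrreducible (U : Set X.left)) (hne : l ≠ []) :
    ∃ (H : Over (Spec (CommRingCat.of k))) (_ : GrpObj H) (h : H ⟶ G), IsMonHom h ∧
      IsClosedImmersion h.left ∧ GeometricallyReduced H.hom ∧ IrreducibleSpace H.left ∧
      CompactSpace H.left ∧ (∃ N : ℕ, Set.range h.left.base ⊆ wordLen f N) ∧
      ∀ U ∈ l, Set.range (gU f U).left.base ⊆ Set.range h.left.base := by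
  induction l with
  | nil => exact absurd rfl hne
  | cons U l ih =>
    have hUirr : IsIrreducible (U : Set X.left) := hl U List.mem_cons_self
    have i1 := opn_lft (X := X) U
    have i2 := opn_qc (X := X) U
    have i3 := opn_geomRed (X := X) U
    have i4 := opn_geomIrr (X := X) U hUirr
    have j1 := tensor_lft (opn X U) (opn X U)
    have j2 := tensor_qc (opn X U) (opn X U)
    have j3 := tensor_geomRed (opn X U) (opn X U)
    have j4 := tensor_geomIrr (opn X U) (opn X U)
    have heU := he_gU f U hUirr.nonempty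
    by_cases hl' : l = []
    · subst hl'
      obtain ⟨H, hH, h, a1, a2, a3, a4, a5, ⟨g', hg'⟩, N, hN⟩ := exists_gen (gU f U) heU
      refine ⟨H, hH, h, a1, a2, a3, a4, a5, ⟨N * 2, ?_⟩, ?_⟩
      · rw [hN]
        exact wordLen_comp f (gU f U) 2 (range_gU_subset f U) N
      · intro U' hU'
        rw [List.mem_singleton] at hU'
        subst hU'
        rintro _ ⟨w, rfl⟩
        refine ⟨g'.left.base w, ?_⟩
        rw [← hg']
        rfl
    · obtain ⟨H, hH, h, a1, a2, a3, a4, a5, ⟨N, hN⟩, hall⟩ :=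
        ih (fun U' hU' => hl U' (List.mem_cons_of_mem _ hU')) hl'
      have a6 : GeometricallyIrreducible H.hom :=
        Groth.Agent.Lib.Helper12.GeomAlgClosed.geometricallyIrreducible_of_irreducibleSpace _
      obtain ⟨H', hH', h', b1, b2, b3, b4, b5, b6, b7, N', hN'⟩ := exists_join (gU f U) heU H h
      refine ⟨H', hH', h', b1, b2, b3, b4, b5, ⟨N' * (2 + N), ?_⟩, ?_⟩
      · rw [hN']
        exact wordLen_comp f (mulHom (gU f U) h) (2 + N)
          (range_mulHom_subset f (gU f U) h 2 N (range_gU_subset f U) hN) N'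
      · intro U' hU'
        rcases List.mem_cons.mp hU' with rfl | hU'
        · exact b6
        · exact (hall U' hU').trans b7

theorem exists_ratPoint [IsAlgClosed k] (Y : Over (Spec (CommRingCat.of k)))
    [LocallyOfFiniteType Y.hom] [Nonempty Y.left] :
    Nonempty (𝟙_ (Over (Spec (CommRingCat.of k))) ⟶ Y) := by
  have hJ : JacobsonSpace Y.left := LocallyOfFiniteType.jacobsonSpace (Y := Spec _) Y.hom
  obtain ⟨q, -, hq⟩ := nonempty_inter_closedPoints (X := Y.left) (Z := Set.univ)
    Set.univ_nonempty isClosed_univ.isLocallyClosed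
  exact ⟨Over.homMk (pointOfClosedPoint Y.hom q hq) (pointOfClosedPoint_comp Y.hom q hq)⟩

/-- **Bounded generation** for a connected, geometrically reduced scheme of finite type over an
algebraically closed field. -/
theorem bounded_of_algClosed [IsAlgClosed k] [LocallyOfFiniteType G.hom]
    [LocallyOfFiniteType X.hom] [QuasiCompact X.hom] [GeometricallyReduced X.hom]
    [ConnectedSpace X.left] (f : X ⟶ G)
    (he : ∃ x : X.left, f.left.base x ∈ Set.range η[G].left.base)
    (Γ : Over (Spec (CommRingCat.of k))) [GrpObj Γ] (i : Γ ⟶ G) [IsMonHom i]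
    [IsClosedImmersion i.left] (hf : ∃ f' : X ⟶ Γ, f' ≫ i = f)
    (hmin : ∀ (Γ' : Over (Spec (CommRingCat.of k))) (_ : GrpObj Γ') (i' : Γ' ⟶ G), IsMonHom i' →
      IsClosedImmersion i'.left → (∃ f'' : X ⟶ Γ', f'' ≫ i' = f) → ∃ j : Γ ⟶ Γ', j ≫ i' = i) :
    ∃ N : ℕ, Set.range i.left.base = wordLen f N := by
  classical
  have hnoeth := noetherianSpace_of_lft_qc (X := X)
  have hfin : (irreducibleComponents X.left).Finite :=
    TopologicalSpace.NoetherianSpace.finite_irreducibleComponents
  -- an irreducible open inside every irreducible component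
  have hopen : ∀ Z ∈ irreducibleComponents X.left, ∃ U : X.left.Opens,
      (U : Set X.left).Nonempty ∧ (U : Set X.left) ⊆ Z := by
    intro Z hZ
    obtain ⟨o, ho1, ho2, ho3⟩ :=
      TopologicalSpace.NoetherianSpace.exists_isOpen_nonempty_subset_irreducibleComponent Z hZ
    exact ⟨⟨o, ho1⟩, ho2, ho3⟩
  choose! o ho1 ho2 using hopen
  let l : List X.left.Opens := hfin.toFinset.toList.map o
  have hmem : ∀ U ∈ l, ∃ Z ∈ irreducibleComponents X.left, o Z = U := by
    intro U hU
    obtain ⟨Z, hZ, rfl⟩ := List.mem_map.mp hU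
    exact ⟨Z, hfin.mem_toFinset.mp (Finset.mem_toList.mp hZ), rfl⟩
  have hmem' : ∀ Z ∈ irreducibleComponents X.left, o Z ∈ l := fun Z hZ =>
    List.mem_map.mpr ⟨Z, Finset.mem_toList.mpr (hfin.mem_toFinset.mpr hZ), rfl⟩
  have hl : ∀ U ∈ l, IsIrreducible (U : Set X.left) := by
    intro U hU
    obtain ⟨Z, hZ, rfl⟩ := hmem U hU
    exact ⟨ho1 Z hZ, hZ.1.isPreirreducible.open_subset (o Z).isOpen (ho2 Z hZ)⟩
  obtain ⟨x₀, hx₀⟩ := he
  have hcomp : ∀ x : X.left, ∃ Z ∈ irreducibleComponents X.left, x ∈ Z := by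
    intro x
    have : x ∈ ⋃₀ irreducibleComponents X.left := by
      rw [sUnion_irreducibleComponents]; trivial
    exact Set.mem_sUnion.mp this
  have hne : l ≠ [] := by
    obtain ⟨Z, hZ, -⟩ := hcomp x₀
    exact List.ne_nil_of_mem (hmem' Z hZ)
  obtain ⟨H, hH, h, a1, a2, a3, a4, a5, ⟨N, hN⟩, hall⟩ := exists_subgroup_of_list f l hl hne
  -- base points
  have hbase : ∀ U ∈ l, ∃ u : 𝟙_ (Over (Spec (CommRingCat.of k))) ⟶ X,
      closure (U : Set X.left) ⊆ cosetSet f h u := by
    intro U hU
    have i1 := opn_lft (X := X) U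
    have : Nonempty (opn X U).left := by
      obtain ⟨x, hx⟩ := (hl U hU).nonempty
      exact ⟨⟨x, hx⟩⟩
    obtain ⟨u'⟩ := exists_ratPoint (opn X U)
    exact ⟨u' ≫ opnι X U, closure_subset_cosetSet f h U u' (fun w => hall U hU ⟨w, rfl⟩)⟩
  have hinh : Nonempty (𝟙_ (Over (Spec (CommRingCat.of k))) ⟶ X) := by
    obtain ⟨U, hU⟩ := List.exists_mem_of_ne_nil l hne
    obtain ⟨u, -⟩ := hbase U hU
    exact ⟨u⟩
  choose! u hu using hbase
  let s : Finset (𝟙_ (Over (Spec (CommRingCat.of k))) ⟶ X) := (l.map u).toFinset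
  have hcov : ∀ x : X.left, ∃ v ∈ s, x ∈ cosetSet f h v := by
    intro x
    obtain ⟨Z, hZ, hxZ⟩ := hcomp x
    refine ⟨u (o Z), List.mem_toFinset.mpr (List.mem_map.mpr ⟨o Z, hmem' Z hZ, rfl⟩), ?_⟩
    apply hu (o Z) (hmem' Z hZ)
    have h1 : Z ⊆ closure (Z ∩ (o Z : Set X.left)) :=
      subset_closure_inter_of_isPreirreducible_of_isOpen hZ.1.isPreirreducible (o Z).isOpen
        (by
          obtain ⟨y, hy⟩ := ho1 Z hZ
          exact ⟨y, ho2 Z hZ hy, hy⟩)
    exact closure_mono Set.inter_subset_right (h1 hxZ)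
  have he' : ∃ x : X.left, f.left.base x ∈ Set.range h.left.base := by
    obtain ⟨c, hc⟩ := hx₀
    refine ⟨x₀, η[H].left.base c, ?_⟩
    rw [← hc]
    change (η[H] ≫ h).left.base c = _
    rw [IsMonHom.one_hom]
  have hrange : Set.range f.left.base ⊆ Set.range h.left.base :=
    range_subset_of_cover f h s hcov he'
  have hred : IsReduced X.left :=
    Groth.Agent.Lib.Helper41.ProductReduced.isReduced_of_geometricallyReduced X.hom
  obtain ⟨f'', hf''⟩ := exists_over_lift f h hrange
  obtain ⟨j, hj⟩ := hmin H hH h a1 a2 ⟨f'', hf''⟩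
  obtain ⟨f', hf'⟩ := hf
  refine ⟨N, subset_antisymm ?_ (wordLen_subset_range f i f' hf' N)⟩
  rintro _ ⟨z, rfl⟩
  apply hN
  refine ⟨j.left.base z, ?_⟩
  rw [← hj]
  rfl

end Groth.Agent.Lib.Helper41.BoundedAlgClosed
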