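import Groth.Agent.Lib.Helper41.CosetConn

/-!
# Cosets and connected components (helper41)

Generalisation of `CosetConn.range_subset_of_cover` to non-connected `X`: it suffices that every
connected component of `X` contains a point mapped into `H`.
-/

set_option autoImplicit false
universe u
open CategoryTheory CategoryTheory.Limits MonoidalCategory CartesianMonoidalCategory MonObj GrpObj AlgebraicGeometry

namespace Groth.Agent.Lib.Helper41.CosetConn2

open Groth.Agent.Lib.Helper41.CosetConn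

theorem isClopen_of_finite_closed_cover {α β : Type*} [TopologicalSpace α]
    (s : Finset β) (B : β → Set α) (hcl : ∀ i ∈ s, IsClosed (B i))
    (hcov : ∀ x : α, ∃ i ∈ s, x ∈ B i)
    (hdis : ∀ i ∈ s, ∀ j ∈ s, (B i ∩ B j).Nonempty → B i = B j)
    (i₀ : β) (hi₀ : i₀ ∈ s) : IsClopen (B i₀) := by
  classical
  have hcompl : (B i₀)ᶜ = ⋃ j ∈ s.filter (fun j => B j ≠ B i₀), B j := by
    ext x
    simp only [Set.mem_compl_iff, Set.mem_iUnion, Finset.mem_filter, exists_prop]
    constructor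
    · intro hx
      obtain ⟨j, hj, hxj⟩ := hcov x
      refine ⟨j, ⟨hj, ?_⟩, hxj⟩
      intro e
      exact hx (e ▸ hxj)
    · rintro ⟨j, ⟨hj, hne'⟩, hxj⟩ hx
      exact hne' (hdis j hj i₀ hi₀ ⟨x, hxj, hx⟩)
  refine ⟨hcl i₀ hi₀, ?_⟩
  rw [← isClosed_compl_iff, hcompl]
  exact isClosed_biUnion_finset (fun j hj => hcl j (Finset.mem_filter.mp hj).1)

variable {k : Type u} [Field k] {G X H : Over (Spec (CommRingCat.of k))} [GrpObj G]

/-- If finitely many coset sets cover `X` and every connected component of `X` contains a point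
mapped into `H`, then `f` maps `X` into `H`. -/
theorem range_subset_of_cover' [IsAlgClosed k] [GrpObj H] [LocallyOfFiniteType X.hom]
    (f : X ⟶ G) (h : H ⟶ G) [IsMonHom h] [IsClosedImmersion h.left]
    (s : Finset (𝟙_ (Over (Spec (CommRingCat.of k))) ⟶ X))
    (hcov : ∀ x : X.left, ∃ u ∈ s, x ∈ cosetSet f h u)
    (hcc : ∀ x : X.left, ∃ x' ∈ connectedComponent x,
      f.left.base x' ∈ Set.range h.left.base) :
    Set.range f.left.base ⊆ Set.range h.left.base := by
  classical
  let pt : (𝟙_ (Over (Spec (CommRingCat.of k)))).left :=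
    (IsLocalRing.closedPoint k : PrimeSpectrum k)
  have hJ : JacobsonSpace X.left := LocallyOfFiniteType.jacobsonSpace (Y := Spec _) X.hom
  have hpt : ∀ q : X.left, IsClosed ({q} : Set X.left) →
      ∃ y : 𝟙_ (Over (Spec (CommRingCat.of k))) ⟶ X, y.left.base pt = q := by
    intro q hq
    exact ⟨Over.homMk (pointOfClosedPoint X.hom q hq) (pointOfClosedPoint_comp X.hom q hq),
      pointOfClosedPoint_apply X.hom q hq _⟩
  let HK := ptsSubgroup h
  have key : ∀ a b c d : (𝟙_ (Over (Spec (CommRingCat.of k))) ⟶ G),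
      a * c⁻¹ ∈ HK → b * c⁻¹ ∈ HK → a * d⁻¹ ∈ HK → b * d⁻¹ ∈ HK := by
    intro a b c d h1 h2 h3
    have e : b * d⁻¹ = (b * c⁻¹) * (a * c⁻¹)⁻¹ * (a * d⁻¹) := by group
    rw [e]
    exact HK.mul_mem (HK.mul_mem h2 (HK.inv_mem h1)) h3
  have hsubset : ∀ u v : 𝟙_ (Over (Spec (CommRingCat.of k))) ⟶ X,
      (cosetSet f h u ∩ cosetSet f h v).Nonempty → cosetSet f h u ⊆ cosetSet f h v := by
    intro u v hne
    obtain ⟨z, ⟨hzu, hzv⟩, hz⟩ := nonempty_inter_closedPoints hne
      ((isClosed_cosetSet f h u).inter (isClosed_cosetSet f h v)).isLocallyClosed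
    obtain ⟨yz, rfl⟩ := hpt z hz
    rw [mem_cosetSet_iff] at hzu hzv
    rw [← closure_inter_closedPoints (isClosed_cosetSet f h u)]
    apply closure_minimal _ (isClosed_cosetSet f h v)
    rintro q ⟨hqu, hq⟩
    obtain ⟨yq, rfl⟩ := hpt q hq
    rw [mem_cosetSet_iff] at hqu ⊢
    exact key _ _ _ _ hzu hzv hqu
  have hdis : ∀ u ∈ s, ∀ v ∈ s, (cosetSet f h u ∩ cosetSet f h v).Nonempty →
      cosetSet f h u = cosetSet f h v := by
    intro u _ v _ hne
    exact subset_antisymm (hsubset u v hne) (hsubset v u (by rwa [Set.inter_comm]))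
  let A : Set X.left := f.left.base ⁻¹' Set.range h.left.base
  have hA : IsClosed A := h.left.isClosedEmbedding.isClosed_range.preimage f.left.continuous
  have hcl : closedPoints X.left ⊆ A := by
    intro q hq
    obtain ⟨yq, rfl⟩ := hpt q hq
    obtain ⟨u, hus, hqu⟩ := hcov (yq.left.base pt)
    have hclopen : IsClopen (cosetSet f h u) :=
      isClopen_of_finite_closed_cover s (fun u => cosetSet f h u)
        (fun u _ => isClosed_cosetSet f h u) hcov hdis u hus
    obtain ⟨x', hx'c, hx'⟩ := hcc (yq.left.base pt)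
    have hx'u : x' ∈ cosetSet f h u := hclopen.connectedComponent_subset hqu hx'c
    obtain ⟨x₀, ⟨hx₀A, hx₀u⟩, hx₀⟩ := nonempty_inter_closedPoints (Z := A ∩ cosetSet f h u)
      ⟨x', hx', hx'u⟩ (hA.inter (isClosed_cosetSet f h u)).isLocallyClosed
    obtain ⟨y₀, rfl⟩ := hpt x₀ hx₀
    have hy₀ : y₀ ≫ f ∈ HK := (mem_ptsSubgroup_iff h _).mpr hx₀A
    rw [mem_cosetSet_iff] at hx₀u hqu
    have huf : u ≫ f ∈ HK := by
      have e : u ≫ f = (u ≫ f) * (y₀ ≫ f)⁻¹ * (y₀ ≫ f) := by group
      rw [e]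
      exact HK.mul_mem hx₀u hy₀
    have h2 : yq ≫ f ∈ HK := by
      have e : yq ≫ f = ((u ≫ f) * (yq ≫ f)⁻¹)⁻¹ * (u ≫ f) := by group
      rw [e]
      exact HK.mul_mem (HK.inv_mem hqu) huf
    exact (mem_ptsSubgroup_iff h _).mp h2
  have hAuniv : A = Set.univ := by
    apply Set.eq_univ_of_univ_subset
    rw [← closure_closedPoints]
    exact closure_minimal hcl hA
  rintro _ ⟨x', rfl⟩
  have : x' ∈ A := by rw [hAuniv]; trivial
  exact this

end Groth.Agent.Lib.Helper41.CosetConn2
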