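import Groth.Agent.Lib.Helper41.BoundedAlgClosed
import Groth.Agent.Lib.Helper41.CosetConn2

/-!
# Bounded word length, non-connected version (helper41)

`bounded_of_algClosed'` : `k` algebraically closed, `X` of finite type and geometrically reduced,
`f : X ⟶ G` such that every connected component of `X` contains a point mapped to the unit.  Then the
smallest closed subgroup `Γ` through which `f` factors is irreducible, quasi-compact and has bounded
word length.
-/

set_option autoImplicit false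
universe u
open CategoryTheory CategoryTheory.Limits MonoidalCategory CartesianMonoidalCategory MonObj GrpObj AlgebraicGeometry

namespace Groth.Agent.Lib.Helper41.BoundedAlgClosed2

open Groth.Agent.Lib.Helper41.WordPoints Groth.Agent.Lib.Helper41.WordLength
  Groth.Agent.Lib.Helper41.GenStep Groth.Agent.Lib.Helper41.CosetConn
  Groth.Agent.Lib.Helper41.BoundedAlgClosed

variable {k : Type u} [Field k] {G X : Over (Spec (CommRingCat.of k))} [GrpObj G]

theorem bounded_of_algClosed' [IsAlgClosed k] [LocallyOfFiniteType G.hom]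
    [LocallyOfFiniteType X.hom] [QuasiCompact X.hom] [GeometricallyReduced X.hom]
    [Nonempty X.left] (f : X ⟶ G)
    (hcc : ∀ x : X.left, ∃ x' ∈ connectedComponent x,
      f.left.base x' ∈ Set.range η[G].left.base)
    (Γ : Over (Spec (CommRingCat.of k))) [GrpObj Γ] (i : Γ ⟶ G) [IsMonHom i]
    [IsClosedImmersion i.left] (hf : ∃ f' : X ⟶ Γ, f' ≫ i = f)
    (hmin : ∀ (Γ' : Over (Spec (CommRingCat.of k))) (_ : GrpObj Γ') (i' : Γ' ⟶ G), IsMonHom i' →
      IsClosedImmersion i'.left → (∃ f'' : X ⟶ Γ', f'' ≫ i' = f) → ∃ j : Γ ⟶ Γ', j ≫ i' = i) :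
    (∃ N : ℕ, Set.range i.left.base = wordLen f N) ∧ IrreducibleSpace Γ.left ∧
      CompactSpace Γ.left := by
  classical
  have hnoeth := noetherianSpace_of_lft_qc (X := X)
  have hfin : (irreducibleComponents X.left).Finite :=
    TopologicalSpace.NoetherianSpace.finite_irreducibleComponents
  have hopen : ∀ Z ∈ irreducibleComponents X.left, ∃ U : X.left.Opens,
      (U : Set X.left).Nonempty ∧ (U : Set X.left) ⊆ Z := by
    intro Z hZ
    obtain ⟨o, ho1, ho2, ho3⟩ :=
      TopologicalSpace.NoetherianSpace.exists_isOpen_nonempty_subset_irreducibleComponent Z hZ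
    exact ⟨⟨o, ho1⟩, ho2, ho3⟩
  choose! o ho1 ho2 using hopen
  let l : List X.left.Opens := hfin.toFinset.toList.map o
  have hmem : ∀ U ∈ l, ∃ Z ∈ irreducibleComponents X.left, o Z = U := by
    intro U hU
    obtain ⟨Z, hZ, rfl⟩ := List.mem_map.mp hU
    exact ⟨Z, hfin.mem_toFinset.mp (Finset.mem_toList.mp hZ), rfl⟩
  have hmem' : ∀ Z ∈ irreducibleComponents X.left, o Z ∈ l := fun Z hZ =>
    List.mem_map.mpr ⟨Z, Finset.mem_toList.mpr (hfin.mem_toFinset.mpr hZ), rfl⟩
  have hl : ∀ U ∈ l, IsIrreducible (U : Set X.left) := by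
    intro U hU
    obtain ⟨Z, hZ, rfl⟩ := hmem U hU
    exact ⟨ho1 Z hZ, hZ.1.isPreirreducible.open_subset (o Z).isOpen (ho2 Z hZ)⟩
  have hcomp : ∀ x : X.left, ∃ Z ∈ irreducibleComponents X.left, x ∈ Z := by
    intro x
    have : x ∈ ⋃₀ irreducibleComponents X.left := by
      rw [sUnion_irreducibleComponents]; trivial
    exact Set.mem_sUnion.mp this
  have hne : l ≠ [] := by
    obtain ⟨x₀⟩ := (inferInstance : Nonempty X.left)
    obtain ⟨Z, hZ, -⟩ := hcomp x₀
    exact List.ne_nil_of_mem (hmem' Z hZ)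
  obtain ⟨H, hH, h, a1, a2, a3, a4, a5, ⟨N, hN⟩, hall⟩ := exists_subgroup_of_list f l hl hne
  have hbase : ∀ U ∈ l, ∃ u : 𝟙_ (Over (Spec (CommRingCat.of k))) ⟶ X,
      closure (U : Set X.left) ⊆ cosetSet f h u := by
    intro U hU
    have i1 := opn_lft (X := X) U
    have : Nonempty (opn X U).left := by
      obtain ⟨x, hx⟩ := (hl U hU).nonempty
      exact ⟨⟨x, hx⟩⟩
    obtain ⟨u'⟩ := exists_ratPoint (opn X U)
    exact ⟨u' ≫ opnι X U, closure_subset_cosetSet f h U u' (fun w => hall U hU ⟨w, rfl⟩)⟩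
  have hinh : Nonempty (𝟙_ (Over (Spec (CommRingCat.of k))) ⟶ X) := by
    obtain ⟨U, hU⟩ := List.exists_mem_of_ne_nil l hne
    obtain ⟨u, -⟩ := hbase U hU
    exact ⟨u⟩
  choose! u hu using hbase
  let s : Finset (𝟙_ (Over (Spec (CommRingCat.of k))) ⟶ X) := (l.map u).toFinset
  have hcov : ∀ x : X.left, ∃ v ∈ s, x ∈ cosetSet f h v := by
    intro x
    obtain ⟨Z, hZ, hxZ⟩ := hcomp x
    refine ⟨u (o Z), List.mem_toFinset.mpr (List.mem_map.mpr ⟨o Z, hmem' Z hZ, rfl⟩), ?_⟩
    apply hu (o Z) (hmem' Z hZ)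
    have h1 : Z ⊆ closure (Z ∩ (o Z : Set X.left)) :=
      subset_closure_inter_of_isPreirreducible_of_isOpen hZ.1.isPreirreducible (o Z).isOpen
        (by
          obtain ⟨y, hy⟩ := ho1 Z hZ
          exact ⟨y, ho2 Z hZ hy, hy⟩)
    exact closure_mono Set.inter_subset_right (h1 hxZ)
  have hcc' : ∀ x : X.left, ∃ x' ∈ connectedComponent x,
      f.left.base x' ∈ Set.range h.left.base := by
    intro x
    obtain ⟨x', hx'c, c, hc⟩ := hcc x
    refine ⟨x', hx'c, η[H].left.base c, ?_⟩
    rw [← hc]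
    change (η[H] ≫ h).left.base c = _
    rw [IsMonHom.one_hom]
  have hrange : Set.range f.left.base ⊆ Set.range h.left.base :=
    Groth.Agent.Lib.Helper41.CosetConn2.range_subset_of_cover' f h s hcov hcc'
  have hred : IsReduced X.left :=
    Groth.Agent.Lib.Helper41.ProductReduced.isReduced_of_geometricallyReduced X.hom
  obtain ⟨f'', hf''⟩ := exists_over_lift f h hrange
  obtain ⟨j, hj⟩ := hmin H hH h a1 a2 ⟨f'', hf''⟩
  obtain ⟨f', hf'⟩ := hf
  have hsub1 : Set.range i.left.base ⊆ Set.range h.left.base := by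
    rintro _ ⟨z, rfl⟩
    refine ⟨j.left.base z, ?_⟩
    rw [← hj]
    rfl
  have hsub2 : wordLen f N ⊆ Set.range i.left.base := wordLen_subset_range f i f' hf' N
  -- `j` is an isomorphism
  have hjl : j.left ≫ h.left = i.left := by rw [← Over.comp_left, hj]
  have hci : IsClosedImmersion (j.left ≫ h.left) := by rw [hjl]; infer_instance
  have hcj : IsClosedImmersion j.left := IsClosedImmersion.of_comp_isClosedImmersion j.left h.left
  have hsurj : Surjective j.left := by
    constructor
    intro y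
    obtain ⟨z, hz⟩ := hsub2 (hN ⟨y, rfl⟩)
    refine ⟨z, ?_⟩
    apply h.left.isClosedEmbedding.injective
    rw [← hz, ← hjl]
    rfl
  have hHred : IsReduced H.left :=
    Groth.Agent.Lib.Helper41.ProductReduced.isReduced_of_geometricallyReduced H.hom
  have hiso : IsIso j.left := isIso_of_isClosedImmersion_of_surjective j.left
  refine ⟨⟨N, subset_antisymm (hsub1.trans hN) hsub2⟩, ?_, ?_⟩
  · exact (j.left.homeomorph.irreducibleSpace_iff).mpr a4
  · exact j.left.homeomorph.symm.compactSpace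

end Groth.Agent.Lib.Helper41.BoundedAlgClosed2
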