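import Mathlib

/-!
# Closed points of schemes locally of finite type over a field are hit by `K`-points, `K` algebraically closed

* `exists_point_of_isClosed` : `k ⊆ K` fields with `K` algebraically closed, `P` locally of finite type
  over `k`, `x` a closed point of `P`: there is a `k`-morphism `Spec K ⟶ P` with image `x`.
* `eq_univ_of_isClosed_of_closedPoints_subset` : in a scheme locally of finite type over a field, a
  closed subset containing all closed points is everything.
-/

set_option autoImplicit false
universe u
open CategoryTheory AlgebraicGeometry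

namespace Groth.Agent.Lib.Helper41.ClosedPointKPoint

theorem exists_point_of_isClosed (k K : Type u) [Field k] [Field K] [Algebra k K] [IsAlgClosed K]
    (P : Over (Spec (CommRingCat.of k))) [LocallyOfFiniteType P.hom] (x : P.left)
    (hx : IsClosed ({x} : Set P.left)) :
    ∃ t : Over.mk (Spec.map (CommRingCat.ofHom (algebraMap k K))) ⟶ P,
      ∀ a, t.left.base a = x := by
  have hci : IsClosedImmersion (P.left.fromSpecResidueField x) :=
    isClosed_singleton_iff_isClosedImmersion.mp hx
  have hfin : IsFinite (P.left.fromSpecResidueField x ≫ P.hom) := by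
    rw [isFinite_iff_locallyOfFiniteType_of_jacobsonSpace]
    infer_instance
  let φ : CommRingCat.of k ⟶ P.left.residueField x :=
    Spec.preimage (P.left.fromSpecResidueField x ≫ P.hom)
  have hφ : Spec.map φ = P.left.fromSpecResidueField x ≫ P.hom := Spec.map_preimage _
  have hφfin : φ.hom.Finite := by
    rw [← IsFinite.SpecMap_iff, hφ]
    exact hfin
  algebraize [φ.hom]
  have halg : Algebra.IsAlgebraic k (P.left.residueField x) := Algebra.IsAlgebraic.of_finite _ _
  let ψ : P.left.residueField x →ₐ[k] K := IsAlgClosed.lift
  have hψ : φ ≫ CommRingCat.ofHom ψ.toRingHom = CommRingCat.ofHom (algebraMap k K) := by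
    ext a
    exact ψ.commutes a
  let tl : Spec (CommRingCat.of K) ⟶ P.left :=
    Spec.map (CommRingCat.ofHom ψ.toRingHom) ≫ P.left.fromSpecResidueField x
  have htl : tl ≫ P.hom = Spec.map (CommRingCat.ofHom (algebraMap k K)) := by
    change (Spec.map (CommRingCat.ofHom ψ.toRingHom) ≫ P.left.fromSpecResidueField x) ≫ P.hom = _
    rw [Category.assoc, ← hφ, ← Spec.map_comp]
    exact congrArg Spec.map hψ
  have hpt : ∀ a, tl.base a = x := by
    intro a
    have h1 : tl a = P.left.fromSpecResidueField x
        (Spec.map (CommRingCat.ofHom ψ.toRingHom) a) := Scheme.Hom.comp_apply _ _ _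
    exact h1.trans (Scheme.fromSpecResidueField_apply x _)
  exact ⟨Over.homMk tl htl, hpt⟩

theorem eq_univ_of_isClosed_of_closedPoints_subset (k : Type u) [Field k]
    (P : Over (Spec (CommRingCat.of k))) [LocallyOfFiniteType P.hom] (Z : Set P.left)
    (hZ : IsClosed Z) (h : closedPoints P.left ⊆ Z) : Z = Set.univ := by
  have hJ : JacobsonSpace P.left := LocallyOfFiniteType.jacobsonSpace (Y := Spec _) P.hom
  have h1 : closure (closedPoints P.left) = Set.univ := closure_closedPoints
  rw [Set.eq_univ_iff_forall]
  intro y
  have : y ∈ closure (closedPoints P.left) := by rw [h1]; trivial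
  exact (closure_minimal h hZ) this

end Groth.Agent.Lib.Helper41.ClosedPointKPoint
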