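import Groth.Agent.Lib.Helper41.ProductReduced
import Groth.Agent.Lib.Helper41.ClosureSubgroup

/-!
# The closure of a multiplicatively closed set of points is a closed subgroup scheme (helper41)

No finiteness hypotheses on the group scheme `G` over the field `k`.

* `isPullback_whiskerRight_fst`, `exists_preimage_tensorHom` : points of products.
* `exists_closure_subgroup_of_set` : `S` a set of points of `G` containing the unit, stable under
  inversion and multiplication (pointwise on `G ⊗ G`), each of whose points is hit by a scheme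
  geometrically reduced over `k` mapping into `S`.  Then the closure of `S` with its reduced
  structure is a geometrically reduced closed subgroup scheme.
-/

set_option autoImplicit false
universe u
open CategoryTheory MonoidalCategory CartesianMonoidalCategory MonObj AlgebraicGeometry

namespace Groth.Agent.Lib.Helper41.ClosureSubgroup2

section General

variable {S : Scheme.{u}}

theorem isPullback_whiskerRight_fst (G : Over S) {Y Z : Over S} (f : Y ⟶ Z) :
    IsPullback (f ▷ G).left (fst Y G).left (fst Z G).left f.left := by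
  have hright : IsPullback (Limits.pullback.snd Z.hom G.hom) (Limits.pullback.fst Z.hom G.hom)
      G.hom Z.hom := (IsPullback.of_hasPullback _ _).flip
  have houter : IsPullback ((f ▷ G).left ≫ Limits.pullback.snd Z.hom G.hom)
      (Limits.pullback.fst Y.hom G.hom) G.hom (f.left ≫ Z.hom) := by
    rw [Over.whiskerRight_left_snd, Over.w f]
    exact (IsPullback.of_hasPullback _ _).flip
  exact IsPullback.of_right houter (Over.whiskerRight_left_fst f) hright

/-- A point of `C ⊗ D` whose projections are hit by `a` and `b` is hit by `a ⊗ₘ b`. -/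
theorem exists_preimage_tensorHom {A B C D : Over S} (a : A ⟶ C) (b : B ⟶ D)
    (w : (C ⊗ D).left) (t : A.left) (t' : B.left)
    (h1 : a.left.base t = (fst C D).left.base w) (h2 : b.left.base t' = (snd C D).left.base w) :
    ∃ w' : (A ⊗ B).left, (a ⊗ₘ b).left.base w' = w := by
  obtain ⟨w₁, hw₁, hw₁'⟩ := Scheme.exists_preimage_of_isPullback
    (Groth.Agent.Lib.Helper93.ActionOpen.isPullback_whiskerLeft_snd C b) w t' h2.symm
  have h3 : (fst C B).left.base w₁ = a.left.base t := by
    rw [h1, ← hw₁]
    change _ = ((C ◁ b).left ≫ (fst C D).left).base w₁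
    rw [← Over.comp_left, whiskerLeft_fst]
  obtain ⟨w₂, hw₂, hw₂'⟩ := Scheme.exists_preimage_of_isPullback
    (isPullback_whiskerRight_fst B a) w₁ t h3
  refine ⟨w₂, ?_⟩
  rw [MonoidalCategory.tensorHom_def, Over.comp_left]
  change (C ◁ b).left.base ((a ▷ B).left.base w₂) = w
  rw [hw₂, hw₁]

end General

theorem exists_closure_subgroup_of_set (k : Type u) [Field k]
    (G : Over (Spec (CommRingCat.of k))) [GrpObj G] (S : Set G.left)
    (hS : ∀ p ∈ S, ∃ (T : Over (Spec (CommRingCat.of k))) (a : T ⟶ G) (t : T.left),
      GeometricallyReduced T.hom ∧ Set.range a.left.base ⊆ S ∧ a.left.base t = p)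
    (hone : Set.range η[G].left.base ⊆ S)
    (hinv : ∀ p ∈ S, ι[G].left.base p ∈ S)
    (hmul : ∀ w : (G ⊗ G).left, (fst G G).left.base w ∈ S → (snd G G).left.base w ∈ S →
      μ[G].left.base w ∈ S) :
    ∃ (H : Over (Spec (CommRingCat.of k))) (_ : GrpObj H) (i : H ⟶ G), IsMonHom i ∧
      IsClosedImmersion i.left ∧ GeometricallyReduced H.hom ∧ IsReduced H.left ∧
      Set.range i.left.base = closure S := by
  classical
  have hsub : Subsingleton (Spec (CommRingCat.of k)) :=
    inferInstanceAs (Subsingleton (PrimeSpectrum k))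
  let U1 : Over (Spec (CommRingCat.of k)) := 𝟙_ (Over (Spec (CommRingCat.of k)))
  let C : TopologicalSpace.Closeds G.left := ⟨closure S, isClosed_closure⟩
  let I := Scheme.IdealSheafData.vanishingIdeal C
  let H0 : Scheme.{u} := I.subscheme
  let jH : H0 ⟶ G.left := I.subschemeι
  have hrange : Set.range jH.base = closure S := by
    change Set.range I.subschemeι = _
    rw [I.range_subschemeι, Scheme.IdealSheafData.coe_support_vanishingIdeal]
    rfl
  have hH0red : IsReduced H0 := Groth.Agent.Lib.Helper19.isReduced_subscheme_vanishingIdeal C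
  let H : Over (Spec (CommRingCat.of k)) := Over.mk (jH ≫ G.hom)
  let i : H ⟶ G := Over.homMk jH rfl
  have hil : i.left = jH := rfl
  have hmono : Mono i := by
    have : Mono ((Over.forget _).map i) := by
      change Mono jH
      infer_instance
    exact (Over.forget _).mono_of_mono_map this
  -- a general lifting principle
  have hlift : ∀ (T : Over (Spec (CommRingCat.of k))) [IsReduced T.left] (φ : T ⟶ G),
      Set.range φ.left.base ⊆ closure S → ∃ φ' : T ⟶ H, φ' ≫ i = φ := by
    intro T _ φ hφ
    obtain ⟨g, hg⟩ := Groth.Agent.Lib.Helper19.exists_lift_of_isReduced_of_range_subset φ.left jH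
      (by rw [hrange]; exact hφ)
    have hw : g ≫ H.hom = T.hom := by
      change g ≫ jH ≫ G.hom = _
      rw [← Category.assoc, hg]
      exact Over.w φ
    refine ⟨Over.homMk g hw, ?_⟩
    ext1
    exact hg
  have hce : Topology.IsClosedEmbedding jH.base := jH.isClosedEmbedding
  -- the dense subset of `H`
  let S0 : Set H0 := jH.base ⁻¹' S
  have hS0dense : Dense S0 := by
    rw [dense_iff_closure_eq]
    apply Set.eq_univ_of_forall
    intro x
    have hx : jH.base x ∈ closure S := by
      rw [← hrange]
      exact ⟨x, rfl⟩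
    have himg : jH.base '' S0 = S := by
      rw [Set.image_preimage_eq_inter_range, hrange]
      exact Set.inter_eq_left.mpr subset_closure
    rw [← himg, hce.closure_image_eq] at hx
    obtain ⟨x', hx', hxx'⟩ := hx
    rw [← hce.injective hxx']
    exact hx'
  have hHred : IsReduced H.left := hH0red
  -- geometric reducedness
  have hgr : GeometricallyReduced H.hom := by
    choose T a t hT ha hat using hS
    have hTred : ∀ (p : G.left) (hp : p ∈ S), IsReduced (T p hp).left := fun p hp =>
      haveI := hT p hp
      Groth.Agent.Lib.Helper41.ProductReduced.isReduced_of_geometricallyReduced (T p hp).hom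
    have hex : ∀ (p : G.left) (hp : p ∈ S), ∃ φ' : T p hp ⟶ H, φ' ≫ i = a p hp := fun p hp =>
      haveI := hTred p hp
      hlift (T p hp) (a p hp) ((ha p hp).trans subset_closure)
    choose a' ha' using hex
    refine Groth.Agent.Lib.Helper41.ProductReduced.geometricallyReduced_of_dense_family
      H.hom (fun p : {p : G.left // p ∈ S} => (T p.1 p.2).left) (fun p => (a' p.1 p.2).left)
      (fun p => ?_) ?_
    · rw [Over.w (a' p.1 p.2)]
      exact hT p.1 p.2
    · refine hS0dense.mono ?_
      intro x hx
      have hx' : jH.base x ∈ S := hx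
      refine Set.mem_iUnion.mpr ⟨⟨jH.base x, hx'⟩, t _ hx', ?_⟩
      apply hce.injective
      have h1 : jH.base ((a' (jH.base x) hx').left.base (t _ hx')) =
          ((a' (jH.base x) hx') ≫ i).left.base (t _ hx') := rfl
      rw [h1, ha', hat]
  have hHHred : IsReduced (H ⊗ H).left := by
    change IsReduced (Limits.pullback H.hom H.hom)
    exact Groth.Agent.Lib.Helper41.ProductReduced.isReduced_pullback_of_geometricallyReduced _ _
  have hU1red : IsReduced U1.left := by
    change IsReduced (Spec (CommRingCat.of k))
    infer_instance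
  -- the unit
  obtain ⟨e', he''⟩ : ∃ e' : U1 ⟶ H, e' ≫ i = η[G] := hlift U1 η[G] (hone.trans subset_closure)
  -- the inverse
  have hinv' : ∃ iv : H ⟶ H, iv ≫ i = i⁻¹ := by
    apply hlift H i⁻¹
    rintro _ ⟨x, rfl⟩
    have h1 : (i⁻¹ : H ⟶ G) = i ≫ ι[G] := by
      rw [Hom.inv_def]
    rw [h1]
    change ι[G].left.base (jH.base x) ∈ _
    refine map_mem_closure ι[G].left.continuous ?_ (fun p hp => hinv p hp)
    rw [← hrange]
    exact ⟨x, rfl⟩
  obtain ⟨iv, hiv⟩ := hinv'
  -- the multiplication
  let m0 : H ⊗ H ⟶ G := (fst H H ≫ i) * (snd H H ≫ i)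
  have hm0 : m0 = (i ⊗ₘ i) ≫ μ[G] := by
    change (fst H H ≫ i) * (snd H H ≫ i) = _
    rw [Hom.mul_def, lift_fst_comp_snd_comp]
  have hmul' : ∃ m : H ⊗ H ⟶ H, m ≫ i = m0 := by
    apply hlift (H ⊗ H) m0
    let D : Set (H ⊗ H).left := m0.left.base ⁻¹' (closure S)
    have hDclosed : IsClosed D := isClosed_closure.preimage m0.left.continuous
    have hA : ∀ w : (H ⊗ H).left, (fst H H).left.base w ∈ S0 → (snd H H).left.base w ∈ S0 →
        w ∈ D := by
      intro w hw1 hw2
      apply subset_closure
      rw [hm0]
      change μ[G].left.base ((i ⊗ₘ i).left.base w) ∈ S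
      apply hmul
      · change ((i ⊗ₘ i).left ≫ (fst G G).left).base w ∈ S
        rw [← Over.comp_left, tensorHom_fst]
        exact hw1
      · change ((i ⊗ₘ i).left ≫ (snd G G).left).base w ∈ S
        rw [← Over.comp_left, tensorHom_snd]
        exact hw2
    have hDuniv : D = Set.univ := by
      rw [← hDclosed.closure_eq]
      apply Set.eq_univ_of_forall
      intro w
      rw [mem_closure_iff]
      intro N hN hwN
      have huo : UniversallyOpen (snd H H).left := by
        rw [Over.snd_left]
        infer_instance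
      have hopen : IsOpen ((snd H H).left.base '' N) := (snd H H).left.isOpenMap _ hN
      obtain ⟨x, ⟨w₁, hw₁N, hw₁x⟩, hxS⟩ :=
        hS0dense.inter_open_nonempty _ hopen ⟨_, w, hwN, rfl⟩
      let Kx : Over (Spec (CommRingCat.of k)) := Over.mk (H.left.fromSpecResidueField x ≫ H.hom)
      let sx : Kx ⟶ H := Over.homMk (H.left.fromSpecResidueField x) rfl
      have hpb := Groth.Agent.Lib.Helper93.ActionOpen.isPullback_whiskerLeft_snd H sx
      let c : Kx.left := (IsLocalRing.closedPoint (H.left.residueField x) :
        PrimeSpectrum (H.left.residueField x))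
      have hc : ∀ c' : Kx.left, sx.left.base c' = x := fun c' =>
        Scheme.fromSpecResidueField_apply x c'
      obtain ⟨w₂, hw₂, hw₂'⟩ := Scheme.exists_preimage_of_isPullback hpb w₁ c
        (by rw [hw₁x, hc])
      let N₂ : Set (H ⊗ Kx).left := (H ◁ sx).left.base ⁻¹' N
      have hN₂ : IsOpen N₂ := hN.preimage (H ◁ sx).left.continuous
      have huo2 : UniversallyOpen (fst H Kx).left := by
        rw [Over.fst_left]
        infer_instance
      have hopen2 : IsOpen ((fst H Kx).left.base '' N₂) := (fst H Kx).left.isOpenMap _ hN₂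
      have hw₂N : w₂ ∈ N₂ := by
        change (H ◁ sx).left.base w₂ ∈ N
        rw [hw₂]
        exact hw₁N
      obtain ⟨x', ⟨w₃, hw₃N, hw₃x⟩, hx'S⟩ :=
        hS0dense.inter_open_nonempty _ hopen2 ⟨_, w₂, hw₂N, rfl⟩
      refine ⟨(H ◁ sx).left.base w₃, hw₃N, hA _ ?_ ?_⟩
      · change ((H ◁ sx).left ≫ (fst H H).left).base w₃ ∈ S0
        rw [← Over.comp_left, whiskerLeft_fst, hw₃x]
        exact hx'S
      · change ((H ◁ sx).left ≫ (snd H H).left).base w₃ ∈ S0
        rw [← Over.comp_left, whiskerLeft_snd, Over.comp_left]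
        change sx.left.base _ ∈ S0
        rw [hc]
        exact hxS
    rintro _ ⟨w, rfl⟩
    have : w ∈ D := by
      rw [hDuniv]
      trivial
    exact this
  obtain ⟨m, hm⟩ := hmul'
  have hm' : m ≫ i = (fst H H ≫ i) * (snd H H ≫ i) := hm
  let hGrp : GrpObj H := Groth.Agent.Lib.Helper41.SubgroupOfMono.grpObjOfMono i e' he'' m hm' iv hiv
  refine ⟨H, hGrp, i, ?_, ?_, hgr, hHred, hrange⟩
  · exact Groth.Agent.Lib.Helper41.SubgroupOfMono.isMonHom_of_mono i e' he'' m hm' iv hiv
  · change IsClosedImmersion jH
    infer_instance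

end Groth.Agent.Lib.Helper41.ClosureSubgroup2
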