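import Groth.Prelude.Def_CoactBr
import Groth.Agent.Lib.Helper93.ActionOpen

/-!
# From an action of an affine group scheme on an affine scheme to a comodule algebra (helper41)

The prelude's `CoactBr.action` turns a comodule-algebra structure of `B` over a Hopf algebra `A` into a
left action of `Spec A` on `Spec B`.  This file goes the other way: every action of `Spec A` on
`Spec B` over `Spec k` (in the sense of `AlgGrp.Action`) comes from a unique comodule-algebra
structure, since `Spec` is fully faithful and monoidal.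
-/

set_option autoImplicit false
set_option linter.unusedSectionVars false
universe u v w

open CategoryTheory MonoidalCategory CartesianMonoidalCategory MonObj AlgebraicGeometry Opposite
open scoped TensorProduct

namespace Groth.Agent.Lib.Helper41.CoactOfAction

section Abstract

variable {C : Type v} [Category.{w} C] [CartesianMonoidalCategory C] [BraidedCategory C]
  {G X : C} [GrpObj G]

/-- the right action `(x, g) ↦ g⁻¹ · x` attached to a left action morphism. -/
def rightOfLeft (l : G ⊗ X ⟶ X) : X ⊗ G ⟶ X := lift (snd X G)⁻¹ (fst X G) ≫ l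

theorem lift_rightOfLeft (l : G ⊗ X ⟶ X) {T : C} (x : T ⟶ X) (g : T ⟶ G) :
    lift x g ≫ rightOfLeft l = lift g⁻¹ x ≫ l := by
  unfold rightOfLeft
  rw [← Category.assoc, comp_lift, lift_fst, Hom.inv_def, ← Category.assoc, lift_snd, ← Hom.inv_def]

theorem leftOfRight_rightOfLeft (l : G ⊗ X ⟶ X) : CoactBr.leftOfRight (rightOfLeft l) = l := by
  have h := CoactBr.lift_leftOfRight (rightOfLeft l) (fst G X) (snd G X)
  rw [lift_fst_snd, Category.id_comp, lift_rightOfLeft, inv_inv, lift_fst_snd, Category.id_comp] at h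
  exact h

variable (l : G ⊗ X ⟶ X)
  (h1 : ∀ {T : C} (x : T ⟶ X), lift (1 : T ⟶ G) x ≫ l = x)
  (hm : ∀ {T : C} (g h : T ⟶ G) (x : T ⟶ X), lift (g * h) x ≫ l = lift g (lift h x ≫ l) ≫ l)

include h1 in
theorem whiskerLeft_one_rightOfLeft : (X ◁ η[G]) ≫ rightOfLeft l = (ρ_ X).hom := by
  have key : ∀ {T : C} (x : T ⟶ X) (u : T ⟶ 𝟙_ C),
      lift x u ≫ (X ◁ η[G]) ≫ rightOfLeft l = lift x u ≫ (ρ_ X).hom := by
    intro T x u
    rw [lift_whiskerLeft_assoc, lift_rightOfLeft, lift_rightUnitor_hom]
    have hu : u ≫ η[G] = (1 : T ⟶ G) := by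
      rw [Hom.one_def]; congr 1; exact toUnit_unique _ _
    rw [hu, inv_one, h1]
  have := key (fst X (𝟙_ C)) (snd X (𝟙_ C))
  rwa [lift_fst_snd, Category.id_comp, Category.id_comp] at this

include hm in
theorem whiskerLeft_mul_rightOfLeft :
    (X ◁ μ[G]) ≫ rightOfLeft l =
      (α_ X G G).inv ≫ (rightOfLeft l ▷ G) ≫ rightOfLeft l := by
  have key : ∀ {T : C} (x : T ⟶ X) (g h : T ⟶ G),
      lift x (lift g h) ≫ (X ◁ μ[G]) ≫ rightOfLeft l =
        lift x (lift g h) ≫ (α_ X G G).inv ≫ (rightOfLeft l ▷ G) ≫ rightOfLeft l := by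
    intro T x g h
    rw [lift_whiskerLeft_assoc, lift_rightOfLeft, lift_lift_associator_inv_assoc,
      lift_whiskerRight_assoc, lift_rightOfLeft, lift_rightOfLeft, ← Hom.mul_def, mul_inv_rev, hm]
  have := key (fst X (G ⊗ G)) (snd X (G ⊗ G) ≫ fst G G) (snd X (G ⊗ G) ≫ snd G G)
  have e : lift (snd X (G ⊗ G) ≫ fst G G) (snd X (G ⊗ G) ≫ snd G G) = snd X (G ⊗ G) := by
    rw [← comp_lift, lift_fst_snd, Category.comp_id]
  rwa [e, lift_fst_snd, Category.id_comp, Category.id_comp] at this

end Abstract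


section AlgebraSide

variable {k A B : Type u} [CommRing k] [CommRing A] [CommRing B] [Bialgebra k A] [Algebra k B]

/-- a comodule structure from an algebra map satisfying the two comodule laws (as algebra maps). -/
@[reducible] def comodOfAlgHom (ρA : B →ₐ[k] B ⊗[k] A)
    (hc : (Algebra.TensorProduct.map (AlgHom.id k B) (Bialgebra.counitAlgHom k A)).comp ρA =
      (Algebra.TensorProduct.rid k k B).symm.toAlgHom)
    (hm : (Algebra.TensorProduct.map (AlgHom.id k B) (Bialgebra.comulAlgHom k A)).comp ρA =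
      (Algebra.TensorProduct.assoc k k k B A A).toAlgHom.comp
        ((Algebra.TensorProduct.map ρA (AlgHom.id k A)).comp ρA)) : HopfRep.Comod k A B where
  coact := ρA.toLinearMap
  coassoc := by
    have h := congrArg AlgHom.toLinearMap hm
    rw [AlgHom.comp_toLinearMap, AlgHom.comp_toLinearMap, AlgHom.comp_toLinearMap,
      Algebra.TensorProduct.toLinearMap_map, Algebra.TensorProduct.toLinearMap_map,
      TensorProduct.AlgebraTensorModule.map_eq, TensorProduct.AlgebraTensorModule.map_eq,
      AlgHom.toLinearMap_id, AlgHom.toLinearMap_id] at h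
    have hassoc : (Algebra.TensorProduct.assoc k k k B A A).toAlgHom.toLinearMap =
        (TensorProduct.assoc k B A A).toLinearMap := by
      apply TensorProduct.ext_threefold
      intro x y z
      rfl
    rw [hassoc, show (Bialgebra.comulAlgHom k A).toLinearMap = CoalgebraStruct.comul from rfl] at h
    exact h.symm
  counit_comp := by
    have h := congrArg AlgHom.toLinearMap hc
    rw [AlgHom.comp_toLinearMap, Algebra.TensorProduct.toLinearMap_map,
      TensorProduct.AlgebraTensorModule.map_eq, AlgHom.toLinearMap_id,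
      show (Bialgebra.counitAlgHom k A).toLinearMap = CoalgebraStruct.counit from rfl] at h
    ext b
    have hb := LinearMap.congr_fun h b
    simp only [LinearMap.coe_comp, Function.comp_apply] at hb
    simp only [LinearMap.coe_comp, Function.comp_apply, LinearMap.lTensor]
    rw [hb]
    rfl

theorem isCoactAlg_comodOfAlgHom (ρA : B →ₐ[k] B ⊗[k] A) hc hm :
    @GLin.IsCoactAlg k _ A _ _ B _ _ (comodOfAlgHom ρA hc hm) :=
  @GLin.IsCoactAlg.mk k _ A _ _ B _ _ (comodOfAlgHom ρA hc hm) (map_one ρA) (map_mul ρA)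

theorem coactAlgHom_comodOfAlgHom (ρA : B →ₐ[k] B ⊗[k] A) hc hm :
    @GLin.coactAlgHom k _ A _ _ B _ _ (comodOfAlgHom ρA hc hm) (isCoactAlg_comodOfAlgHom ρA hc hm) = ρA :=
  AlgHom.ext fun _ => rfl

end AlgebraSide


section SchemeSide

noncomputable local instance braidedAlgSpecOf (R : Type u) [CommRing R] :
    (algSpec (CommRingCat.of R)).Braided := braidedAlgSpec

local instance fullAlgSpecOf (R : Type u) [CommRing R] : (algSpec (CommRingCat.of R)).Full :=
  algSpec.instFull

local instance faithfulAlgSpecOf (R : Type u) [CommRing R] :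
    (algSpec (CommRingCat.of R)).Faithful := algSpec.instFaithful

variable {k A B : Type u} [CommRing k] [CommRing A] [CommRing B] [Bialgebra k A] [Algebra k B]

/-- `Spec B` over `Spec k`, spelled through the functor `algSpec`. -/
noncomputable abbrev fo (k : Type u) [CommRing k] (B : Type u) [CommRing B] [Algebra k B] :
    Over (Spec (CommRingCat.of k)) :=
  (algSpec (CommRingCat.of k)).obj (op (CommAlgCat.of k B))

variable (r : CoactBr.sp k B ⊗ CoactBr.sp k A ⟶ CoactBr.sp k B)

/-- the coaction, as a morphism of commutative algebras, of a morphism `Spec B × Spec A ⟶ Spec B`. -/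
noncomputable def rho : CommAlgCat.of k B ⟶ CommAlgCat.of k B ⊗ CommAlgCat.of k A :=
  ((algSpec (CommRingCat.of k)).preimage
    (X := op (CommAlgCat.of k B) ⊗ op (CommAlgCat.of k A)) (Y := op (CommAlgCat.of k B))
    (inv (Functor.LaxMonoidal.μ (algSpec (CommRingCat.of k)) (op (.of k B)) (op (.of k A))) ≫
      (show fo k B ⊗ fo k A ⟶ fo k B from r))).unop

theorem mu_map_rho :
    Functor.LaxMonoidal.μ (algSpec (CommRingCat.of k)) (op (.of k B)) (op (.of k A)) ≫
      (algSpec (CommRingCat.of k)).map (rho r).op = (show fo k B ⊗ fo k A ⟶ fo k B from r) := by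
  unfold rho
  rw [Quiver.Hom.op_unop, Functor.map_preimage, IsIso.hom_inv_id_assoc]


/-- cancellation: `Spec` is faithful and the comparison maps are isomorphisms. -/
theorem eq_of_iso_comp_map {X Y : (CommAlgCat k)ᵒᵖ} {Z : Over (Spec (CommRingCat.of k))}
    (P : Z ⟶ (algSpec (CommRingCat.of k)).obj X) [IsIso P] {u v : X ⟶ Y}
    (h : P ≫ (algSpec (CommRingCat.of k)).map u = P ≫ (algSpec (CommRingCat.of k)).map v) : u = v :=
  (algSpec (CommRingCat.of k)).map_injective ((cancel_epi P).mp h)

/-- counitality of `rho r`, from the unit law of the right action `r`. -/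
theorem rho_counit (h1 : (CoactBr.sp k B ◁ η[CoactBr.sp k A]) ≫ r = (ρ_ (CoactBr.sp k B)).hom) :
    rho r ≫ (CommAlgCat.of k B ◁ CommAlgCat.ofHom (Bialgebra.counitAlgHom k A)) =
      (ρ_ (CommAlgCat.of k B)).inv := by
  have h1' : ((algSpec (CommRingCat.of k)).obj (op (.of k B)) ◁
        (Functor.LaxMonoidal.ε (algSpec (CommRingCat.of k)) ≫
        (algSpec (CommRingCat.of k)).map (CommAlgCat.ofHom (Bialgebra.counitAlgHom k A)).op)) ≫
      Functor.LaxMonoidal.μ (algSpec (CommRingCat.of k)) (op (.of k B)) (op (.of k A)) ≫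
        (algSpec (CommRingCat.of k)).map (rho r).op =
      (ρ_ ((algSpec (CommRingCat.of k)).obj (op (.of k B)))).hom := by
    rw [mu_map_rho]
    exact h1
  rw [MonoidalCategory.whiskerLeft_comp, Category.assoc, Functor.LaxMonoidal.μ_natural_right_assoc,
    ← Functor.map_comp, Functor.LaxMonoidal.right_unitality, ← Category.assoc,
    ← Category.assoc ((algSpec (CommRingCat.of k)).obj (op (.of k B)) ◁ _)] at h1'
  have h2 := eq_of_iso_comp_map _ h1'
  exact congrArg Quiver.Hom.unop h2

/-- coassociativity of `rho r`, from the associativity law of the right action `r`. -/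
theorem rho_comul
    (hm : (CoactBr.sp k B ◁ μ[CoactBr.sp k A]) ≫ r =
      (α_ (CoactBr.sp k B) (CoactBr.sp k A) (CoactBr.sp k A)).inv ≫ (r ▷ CoactBr.sp k A) ≫ r) :
    rho r ≫ (CommAlgCat.of k B ◁ CommAlgCat.ofHom (Bialgebra.comulAlgHom k A)) =
      rho r ≫ (rho r ▷ CommAlgCat.of k A) ≫
        (α_ (CommAlgCat.of k B) (CommAlgCat.of k A) (CommAlgCat.of k A)).hom := by
  have hm' : ((algSpec (CommRingCat.of k)).obj (op (.of k B)) ◁
        (Functor.LaxMonoidal.μ (algSpec (CommRingCat.of k)) (op (.of k A)) (op (.of k A)) ≫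
        (algSpec (CommRingCat.of k)).map (CommAlgCat.ofHom (Bialgebra.comulAlgHom k A)).op)) ≫
      Functor.LaxMonoidal.μ (algSpec (CommRingCat.of k)) (op (.of k B)) (op (.of k A)) ≫
        (algSpec (CommRingCat.of k)).map (rho r).op =
      (α_ _ _ _).inv ≫
        ((Functor.LaxMonoidal.μ (algSpec (CommRingCat.of k)) (op (.of k B)) (op (.of k A)) ≫
          (algSpec (CommRingCat.of k)).map (rho r).op) ▷
            (algSpec (CommRingCat.of k)).obj (op (.of k A))) ≫
        Functor.LaxMonoidal.μ (algSpec (CommRingCat.of k)) (op (.of k B)) (op (.of k A)) ≫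
          (algSpec (CommRingCat.of k)).map (rho r).op := by
    rw [mu_map_rho]
    exact hm
  have hL : ((algSpec (CommRingCat.of k)).obj (op (.of k B)) ◁
        (Functor.LaxMonoidal.μ (algSpec (CommRingCat.of k)) (op (.of k A)) (op (.of k A)) ≫
        (algSpec (CommRingCat.of k)).map (CommAlgCat.ofHom (Bialgebra.comulAlgHom k A)).op)) ≫
      Functor.LaxMonoidal.μ (algSpec (CommRingCat.of k)) (op (.of k B)) (op (.of k A)) ≫
        (algSpec (CommRingCat.of k)).map (rho r).op =
      (((algSpec (CommRingCat.of k)).obj (op (.of k B)) ◁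
        Functor.LaxMonoidal.μ (algSpec (CommRingCat.of k)) (op (.of k A)) (op (.of k A))) ≫
        Functor.LaxMonoidal.μ (algSpec (CommRingCat.of k)) (op (.of k B))
          (op (.of k A) ⊗ op (.of k A))) ≫
      (algSpec (CommRingCat.of k)).map
        ((op (CommAlgCat.of k B) ◁ (CommAlgCat.ofHom (Bialgebra.comulAlgHom k A)).op) ≫
          (rho r).op) := by
    rw [MonoidalCategory.whiskerLeft_comp, Category.assoc,
      Functor.LaxMonoidal.μ_natural_right_assoc, ← Functor.map_comp, Category.assoc]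
  have hR : (α_ _ _ _).inv ≫
        ((Functor.LaxMonoidal.μ (algSpec (CommRingCat.of k)) (op (.of k B)) (op (.of k A)) ≫
          (algSpec (CommRingCat.of k)).map (rho r).op) ▷
            (algSpec (CommRingCat.of k)).obj (op (.of k A))) ≫
        Functor.LaxMonoidal.μ (algSpec (CommRingCat.of k)) (op (.of k B)) (op (.of k A)) ≫
          (algSpec (CommRingCat.of k)).map (rho r).op =
      (((algSpec (CommRingCat.of k)).obj (op (.of k B)) ◁
        Functor.LaxMonoidal.μ (algSpec (CommRingCat.of k)) (op (.of k A)) (op (.of k A))) ≫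
        Functor.LaxMonoidal.μ (algSpec (CommRingCat.of k)) (op (.of k B))
          (op (.of k A) ⊗ op (.of k A))) ≫
      (algSpec (CommRingCat.of k)).map
        ((α_ (op (CommAlgCat.of k B)) (op (CommAlgCat.of k A)) (op (CommAlgCat.of k A))).inv ≫
          ((rho r).op ▷ op (CommAlgCat.of k A)) ≫ (rho r).op) := by
    rw [Functor.map_comp, Functor.map_comp, Category.assoc,
      Functor.LaxMonoidal.associativity_inv_assoc, MonoidalCategory.comp_whiskerRight,
      Category.assoc, Functor.LaxMonoidal.μ_natural_left_assoc]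
  have h2 := eq_of_iso_comp_map _ (hL.symm.trans (hm'.trans hR))
  exact congrArg Quiver.Hom.unop h2

theorem rhoHom_counit (h1 : (CoactBr.sp k B ◁ η[CoactBr.sp k A]) ≫ r = (ρ_ (CoactBr.sp k B)).hom) :
    (Algebra.TensorProduct.map (AlgHom.id k B) (Bialgebra.counitAlgHom k A)).comp (rho r).hom =
      (Algebra.TensorProduct.rid k k B).symm.toAlgHom :=
  congrArg CommAlgCat.Hom.hom (rho_counit r h1)

theorem rhoHom_comul
    (hm : (CoactBr.sp k B ◁ μ[CoactBr.sp k A]) ≫ r =
      (α_ (CoactBr.sp k B) (CoactBr.sp k A) (CoactBr.sp k A)).inv ≫ (r ▷ CoactBr.sp k A) ≫ r) :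
    (Algebra.TensorProduct.map (AlgHom.id k B) (Bialgebra.comulAlgHom k A)).comp (rho r).hom =
      (Algebra.TensorProduct.assoc k k k B A A).toAlgHom.comp
        ((Algebra.TensorProduct.map (rho r).hom (AlgHom.id k A)).comp (rho r).hom) :=
  congrArg CommAlgCat.Hom.hom (rho_comul r hm)

/-- the comodule structure on `B` defined by a right action of `Spec A` on `Spec B`. -/
@[reducible] noncomputable def comodOfRight (h1 : (CoactBr.sp k B ◁ η[CoactBr.sp k A]) ≫ r = (ρ_ (CoactBr.sp k B)).hom)
    (hm : (CoactBr.sp k B ◁ μ[CoactBr.sp k A]) ≫ r =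
      (α_ (CoactBr.sp k B) (CoactBr.sp k A) (CoactBr.sp k A)).inv ≫ (r ▷ CoactBr.sp k A) ≫ r) : HopfRep.Comod k A B :=
  comodOfAlgHom (rho r).hom (rhoHom_counit r h1) (rhoHom_comul r hm)

theorem isCoactAlg_comodOfRight (h1 : (CoactBr.sp k B ◁ η[CoactBr.sp k A]) ≫ r = (ρ_ (CoactBr.sp k B)).hom)
    (hm : (CoactBr.sp k B ◁ μ[CoactBr.sp k A]) ≫ r =
      (α_ (CoactBr.sp k B) (CoactBr.sp k A) (CoactBr.sp k A)).inv ≫ (r ▷ CoactBr.sp k A) ≫ r) :
    @GLin.IsCoactAlg k _ A _ _ B _ _ (comodOfRight r h1 hm) :=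
  isCoactAlg_comodOfAlgHom _ _ _

theorem ract_comodOfRight (h1 : (CoactBr.sp k B ◁ η[CoactBr.sp k A]) ≫ r = (ρ_ (CoactBr.sp k B)).hom)
    (hm : (CoactBr.sp k B ◁ μ[CoactBr.sp k A]) ≫ r =
      (α_ (CoactBr.sp k B) (CoactBr.sp k A) (CoactBr.sp k A)).inv ≫ (r ▷ CoactBr.sp k A) ≫ r) :
    @CoactBr.ract k A B _ _ _ _ _ (comodOfRight r h1 hm) (isCoactAlg_comodOfRight r h1 hm) = r := by
  have e : @CoactBr.coactHom k A B _ _ _ _ _ (comodOfRight r h1 hm)
      (isCoactAlg_comodOfRight r h1 hm) = rho r := by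
    apply CommAlgCat.hom_ext
    exact coactAlgHom_comodOfAlgHom _ _ _
  unfold CoactBr.ract
  rw [e]
  exact mu_map_rho r

end SchemeSide


section LeftAction

open Groth.Agent.Lib.Helper93.ActionOpen

variable {k A B : Type u} [CommRing k] [CommRing A] [CommRing B] [HopfAlgebra k A] [Algebra k B]

/-- every action of `Spec A` on `Spec B` comes from a comodule-algebra structure. -/
theorem exists_comod_of_action (a : AlgGrp.Action (CoactBr.sp k A) (CoactBr.sp k B)) :
    ∃ (c : HopfRep.Comod k A B) (hc : @GLin.IsCoactAlg k _ A _ _ B _ _ c),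
      (@CoactBr.action k A B _ _ _ _ _ c hc).act = a.act := by
  have h1 := whiskerLeft_one_rightOfLeft a.act (fun x => act_one a x)
  have hm := whiskerLeft_mul_rightOfLeft a.act (fun g h x => act_mul a g h x)
  refine ⟨comodOfRight (rightOfLeft a.act) h1 hm, isCoactAlg_comodOfRight _ h1 hm, ?_⟩
  rw [CoactBr.action_act, ract_comodOfRight, leftOfRight_rightOfLeft]

/-- the algebra map of a rational point of `Spec B`. -/
theorem exists_algHom_of_point (x : 𝟙_ (Over (Spec (CommRingCat.of k))) ⟶ CoactBr.sp k B) :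
    ∃ χ : B →ₐ[k] k, ∀ (T : Type u) [CommRing T] [Algebra k T],
      toUnit (CoactBr.sp k T) ≫ x = CoactBr.pt ((Algebra.ofId k T).comp χ) := by
  let χ₀ : CommRingCat.of B ⟶ CommRingCat.of k := Spec.preimage x.left
  have hχ₀ : Spec.map χ₀ = x.left := Spec.map_preimage _
  have hw : x.left ≫ Spec.map (CommRingCat.ofHom (algebraMap k B)) = 𝟙 _ := Over.w x
  have h2 : CommRingCat.ofHom (algebraMap k B) ≫ χ₀ = 𝟙 _ := by
    apply Spec.map_injective
    rw [Spec.map_comp, hχ₀, Spec.map_id]
    exact hw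
  have h3 : ∀ c : k, χ₀.hom (algebraMap k B c) = c := fun c =>
    congrArg (fun f : CommRingCat.of k ⟶ CommRingCat.of k => f.hom c) h2
  let χ : B →ₐ[k] k := { χ₀.hom with commutes' := h3 }
  refine ⟨χ, fun T _ _ => ?_⟩
  apply Over.OverMorphism.ext
  rw [Over.comp_left, CoactBr.pt_left, Over.toUnit_left, ← hχ₀]
  change Spec.map (CommRingCat.ofHom (algebraMap k T)) ≫ Spec.map χ₀ = _
  rw [← Spec.map_comp]
  rfl


variable [HopfRep.Comod k A B] [GLin.IsCoactAlg k A B]

/-- the orbit map of the action defined by a coaction: the inverse followed by `Spec` of the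
orbit homomorphism. -/
theorem orbitMap_action (x : 𝟙_ (Over (Spec (CommRingCat.of k))) ⟶ CoactBr.sp k B) (χ : B →ₐ[k] k)
    (hχ : toUnit (CoactBr.sp k A) ≫ x = CoactBr.pt ((Algebra.ofId k A).comp χ)) :
    (CoactBr.action k A B).orbitMap x = ι[CoactBr.sp k A] ≫ CoactBr.pt (GLin.orbitHom k A χ) := by
  have e : GLin.orbitHom k A χ =
      (Algebra.TensorProduct.lift ((Algebra.ofId k A).comp χ) (AlgHom.id k A)
        fun _ _ => .all _ _).comp (GLin.coactAlgHom k A B) := by
    have e' : Algebra.TensorProduct.lift ((Algebra.ofId k A).comp χ) (AlgHom.id k A)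
        (fun _ _ => .all _ _) =
        (Algebra.TensorProduct.lid k A).toAlgHom.comp
          (Algebra.TensorProduct.map χ (AlgHom.id k A)) := by
      apply Algebra.TensorProduct.ext'
      intro b a
      simp [Algebra.TensorProduct.lift_tmul, Algebra.smul_def]
    rw [e']
    rfl
  unfold AlgGrp.Action.orbitMap
  rw [CoactBr.lift_action_act, e, ← CoactBr.lift_pt_ract, ← Category.assoc, comp_lift, ← hχ,
    CoactBr.pt_id, Category.comp_id, Hom.inv_def, Category.id_comp]
  congr 2
  rw [← Category.assoc]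
  congr 1
  exact (toUnit_unique _ _)

theorem range_orbitMap_action (x : 𝟙_ (Over (Spec (CommRingCat.of k))) ⟶ CoactBr.sp k B)
    (χ : B →ₐ[k] k)
    (hχ : toUnit (CoactBr.sp k A) ≫ x = CoactBr.pt ((Algebra.ofId k A).comp χ)) :
    Set.range ((CoactBr.action k A B).orbitMap x).left.base =
      Set.range (PrimeSpectrum.comap (GLin.orbitHom k A χ).toRingHom) := by
  rw [orbitMap_action x χ hχ]
  have hι : Function.Surjective (ι[CoactBr.sp k A]).left.base := by
    have : IsIso (ι[CoactBr.sp k A]).left := (Over.forget _).map_isIso ι[CoactBr.sp k A]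
    exact (ι[CoactBr.sp k A]).left.homeomorph.surjective
  rw [Over.comp_left, Scheme.Hom.comp_base]
  change Set.range ((CoactBr.pt (GLin.orbitHom k A χ)).left.base ∘ (ι[CoactBr.sp k A]).left.base) = _
  rw [hι.range_comp]
  rfl

end LeftAction

end Groth.Agent.Lib.Helper41.CoactOfAction
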