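import Groth.Agent.Lib.Helper26.OverUEE
import Groth.Agent.Lib.Helper26.SubgrpCorr
import Groth.Prelude.Def_AlgGrp
import Mathlib.AlgebraicGeometry.Noetherian

/-!
# fppf-local points of group schemes of finite type over a field (helper41)

Toolkit for "points" arguments with group schemes in `Over S`:
* `exists_cover_lift` : a `T`-point of the target of a universally effective epimorphism lifts after
  passing to a universally effective epimorphic cover `T' ⟶ T`.
* `uEE_of_flat_surjective` : a flat surjective morphism between schemes locally of finite type over a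
  field is a universally effective epimorphism in `Over (Spec k)`.
* `mem_of_isKernel`, `comp_eq_one_of_isKernel`, `isKernel_of_points` : kernels on points.
-/

set_option autoImplicit false
universe u
open CategoryTheory CategoryTheory.Limits MonoidalCategory CartesianMonoidalCategory MonObj
  AlgebraicGeometry

namespace Groth.Agent.Lib.Helper41.FppfPoints

open Groth.Agent.H26 Groth.Agent.Lib.Helper26.SubgrpCorr

section General

universe v₁ u₁
variable {C : Type u₁} [Category.{v₁} C] [HasPullbacks C]

theorem exists_cover_lift {A B T : C} {p : A ⟶ B} (hp : UEE C p) (b : T ⟶ B) :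
    ∃ (T' : C) (w : T' ⟶ T) (a : T' ⟶ A), UEE C w ∧ a ≫ p = w ≫ b :=
  ⟨pullback b p, pullback.fst b p, pullback.snd b p, hp.fst b, pullback.condition.symm⟩

end General

section Field

variable {k : Type u} [Field k]

theorem uEE_of_flat_surjective {A B : Over (Spec (CommRingCat.of k))}
    [LocallyOfFiniteType A.hom] [LocallyOfFiniteType B.hom] (f : A ⟶ B)
    [Flat f.left] [Surjective f.left] : UEE (Over (Spec (CommRingCat.of k))) f := by
  have h1 : LocallyOfFiniteType (f.left ≫ B.hom) := by
    rw [Over.w f]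
    infer_instance
  have h2 : LocallyOfFiniteType f.left := locallyOfFiniteType_of_comp f.left B.hom
  have h3 : IsLocallyNoetherian B.left := LocallyOfFiniteType.isLocallyNoetherian B.hom
  have h4 : LocallyOfFinitePresentation f.left := inferInstance
  exact Groth.Agent.Lib.Helper26.OverUEE.over_uEE_of_fppf f

end Field

section Kernel

variable {S : Scheme.{u}} {N G Q : Over S} [GrpObj Q]

theorem mem_of_isKernel {i : N ⟶ G} {q : G ⟶ Q} (h : AlgGrp.IsKernel i q) {T : Over S}
    (g : T ⟶ G) (hg : g ≫ q = 1) : Mem i g := by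
  have h' : IsPullback i (toUnit N) q η[Q] := h
  refine ⟨h'.lift g (toUnit T) ?_, h'.lift_fst _ _ _⟩
  rw [hg, Hom.one_def]

theorem comp_eq_one_of_isKernel {i : N ⟶ G} {q : G ⟶ Q} (h : AlgGrp.IsKernel i q) {T : Over S}
    (n : T ⟶ N) : (n ≫ i) ≫ q = 1 := by
  have h' : IsPullback i (toUnit N) q η[Q] := h
  rw [Category.assoc, h'.w, ← Category.assoc, toUnit_unique (n ≫ toUnit N) (toUnit T), Hom.one_def]

theorem eq_one_of_mem_of_isKernel {i : N ⟶ G} {q : G ⟶ Q} (h : AlgGrp.IsKernel i q) {T : Over S}
    {g : T ⟶ G} (hg : Mem i g) : g ≫ q = 1 := by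
  obtain ⟨n, rfl⟩ := hg
  exact comp_eq_one_of_isKernel h n

theorem isKernel_of_points {i : N ⟶ G} {q : G ⟶ Q} [Mono i] (h1 : i ≫ q = 1)
    (h2 : ∀ (T : Over S) (g : T ⟶ G), g ≫ q = 1 → Mem i g) : AlgGrp.IsKernel i q := by
  change IsPullback i (toUnit N) q η[Q]
  have hs : ∀ s : PullbackCone q η[Q], s.fst ≫ q = 1 := by
    intro s
    rw [s.condition, Hom.one_def, toUnit_unique s.snd (toUnit _)]
  refine ⟨⟨by rw [h1, Hom.one_def]⟩, ⟨PullbackCone.IsLimit.mk _
    (fun s => (h2 _ s.fst (hs s)).choose) ?_ ?_ ?_⟩⟩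
  · intro s
    exact (h2 _ s.fst (hs s)).choose_spec
  · intro s
    exact toUnit_unique _ _
  · intro s m hm _
    rw [← cancel_mono i, hm]
    exact ((h2 _ s.fst (hs s)).choose_spec).symm

end Kernel

end Groth.Agent.Lib.Helper41.FppfPoints
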