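import Groth.Agent.S4619
import Groth.Agent.S9765
import Groth.Agent.Lib.Helper41.KernelPair
import Groth.Agent.Lib.Helper41.FppfPoints
import Mathlib.AlgebraicGeometry.Geometrically.Connected

/-!
# Geometric connectedness for group schemes over a field (helper41)

* `geometricallyConnected_of_section` : a connected `k`-scheme with a rational point is geometrically
  connected (from milestone S4619).
* `geometricallyConnected_of_isKernel` : a flat surjective homomorphism `q : G ⟶ Q` of `k`-group schemes
  of finite type with connected kernel is geometrically connected (descent via milestone S9765).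
* `connectedSpace_of_isKernel` : extension of connected by connected is connected.
-/

set_option autoImplicit false
universe u
open CategoryTheory CategoryTheory.Limits MonoidalCategory CartesianMonoidalCategory MonObj
  AlgebraicGeometry

namespace Groth.Agent.Lib.Helper41.GeomConnGroup

variable {k : Type u} [Field k]

theorem geometricallyConnected_of_section {X : Scheme.{u}} [ConnectedSpace X]
    (f : X ⟶ Spec (CommRingCat.of k)) (e : Spec (CommRingCat.of k) ⟶ X) (he : e ≫ f = 𝟙 _) :
    GeometricallyConnected f := by
  let x : X := e (IsLocalRing.closedPoint k)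
  let θ : X.residueField x ⟶ CommRingCat.of k :=
    Scheme.descResidueField (Scheme.stalkClosedPointTo e)
  have hθ : Spec.map θ ≫ X.fromSpecResidueField x = e :=
    Scheme.descResidueField_stalkClosedPointTo_fromSpecResidueField k X e
  let ψ : CommRingCat.of k ⟶ X.residueField x := Spec.preimage (X.fromSpecResidueField x ≫ f)
  have hψ : Spec.map ψ = X.fromSpecResidueField x ≫ f := Spec.map_preimage _
  have hψθ : ψ ≫ θ = 𝟙 _ := by
    apply Spec.map_injective
    rw [Spec.map_comp, hψ, ← Category.assoc, hθ, he, Spec.map_id]
  have hθφ : ∀ a : k, θ.hom (ψ.hom a) = a := by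
    intro a
    have := congrArg (fun g => g.hom a) hψθ
    exact this
  have hθinj : Function.Injective θ.hom := θ.hom.injective
  have hsurj : Function.Surjective ψ.hom := by
    intro b
    refine ⟨θ.hom b, ?_⟩
    apply hθinj
    rw [hθφ]
  refine Groth.Agent.S4619.result f x ⟨ψ.hom, hψ, ?_⟩
  letI := ψ.hom.toAlgebra
  change separableClosure k (X.residueField x) = ⊥
  rw [eq_bot_iff]
  intro b _
  rw [IntermediateField.mem_bot]
  exact hsurj b

variable {N G Q : Over (Spec (CommRingCat.of k))} [GrpObj N] [GrpObj G] [GrpObj Q]

theorem geometricallyConnected_hom [ConnectedSpace N.left] : GeometricallyConnected N.hom := by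
  refine geometricallyConnected_of_section N.hom η[N].left ?_
  rw [Over.w η[N]]
  rfl

theorem geometricallyConnected_of_isKernel [LocallyOfFiniteType G.hom]
    (i : N ⟶ G) (q : G ⟶ Q) [IsMonHom q] [Surjective q.left] (hker : AlgGrp.IsKernel i q)
    [ConnectedSpace N.left] : GeometricallyConnected q.left := by
  have hN : GeometricallyConnected N.hom := geometricallyConnected_hom
  have hfst : GeometricallyConnected (fst G N).left := by
    rw [Over.fst_left]
    infer_instance
  have hpb := Groth.Agent.Lib.Helper41.KernelPair.isPullback_fst_mul_of_isKernel q i hker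
  have hpb' : IsPullback ((G ◁ i) ≫ μ[G]).left (fst G N).left q.left q.left :=
    (hpb.map (Over.forget _)).flip
  have key := Groth.Agent.S9765.result q.left q.left (fst G N).left ((G ◁ i) ≫ μ[G]).left hpb'
  rw [GeometricallyConnected.iff_geometricallyConnected_fiber]
  intro y
  obtain ⟨y', rfl⟩ := q.left.surjective y
  have h1 : y' ∈ {y' : ↑G.left | GeometricallyConnected ((fst G N).left.fiberToSpecResidueField y')} :=
    (GeometricallyConnected.iff_geometricallyConnected_fiber _).mp hfst y'
  rw [key] at h1
  exact h1

theorem connectedSpace_of_isKernel [LocallyOfFiniteType G.hom] [LocallyOfFiniteType Q.hom]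
    (i : N ⟶ G) (q : G ⟶ Q) [IsMonHom q] [Flat q.left] [Surjective q.left]
    (hker : AlgGrp.IsKernel i q) [ConnectedSpace N.left] [ConnectedSpace Q.left] :
    ConnectedSpace G.left := by
  have hgc := geometricallyConnected_of_isKernel i q hker
  have h1 : LocallyOfFiniteType (q.left ≫ Q.hom) := by
    rw [Over.w q]
    infer_instance
  have h2 : LocallyOfFiniteType q.left := locallyOfFiniteType_of_comp q.left Q.hom
  have h3 : IsLocallyNoetherian Q.left := LocallyOfFiniteType.isLocallyNoetherian Q.hom
  have h4 : LocallyOfFinitePresentation q.left := inferInstance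
  have h5 : UniversallyOpen q.left := inferInstance
  exact GeometricallyConnected.connectedSpace q.left q.left.isOpenMap

end Groth.Agent.Lib.Helper41.GeomConnGroup
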