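import Mathlib
import Groth.Agent.Lib.Helper70.GrpConnE
import Groth.Agent.Lib.Helper41.CosetConn
import Groth.Agent.Lib.Helper41.WordLength
import Groth.Agent.Lib.Helper41.BoundedAlgClosed
import Groth.Agent.Lib.Helper23.ConnBij

/-!
# Rational points of the neutral component of a closed subgroup scheme

For a closed subgroup scheme `a : A ⟶ G` over a field we consider the subgroup of `G(k)` of those
rational points of `A` lying in the connected component of the unit: it is a subgroup, normal in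
`G(k)` when `A` is normal in `G`, and of finite index in `A(k)` when `A` is of finite type.
-/

set_option autoImplicit false
universe u
open CategoryTheory CategoryTheory.Limits MonoidalCategory CartesianMonoidalCategory MonObj GrpObj AlgebraicGeometry

namespace Groth.Agent.Lib.Helper41.NeutralPts

open Groth.Agent.Lib.Helper41.CosetConn Groth.Agent.Lib.Helper41.WordLength

variable {k : Type u} [Field k] {G A : Over (Spec (CommRingCat.of k))} [GrpObj G] [GrpObj A]

/-- the rational point of `Spec k` -/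
noncomputable abbrev pt (k : Type u) [Field k] : (𝟙_ (Over (Spec (CommRingCat.of k)))).left :=
  (IsLocalRing.closedPoint k : PrimeSpectrum k)

/-- the defining property of the subgroup of rational points of the neutral component -/
def IsNeutralPts (a : A ⟶ G) (𝒜₀ : Subgroup (𝟙_ (Over (Spec (CommRingCat.of k))) ⟶ G)) : Prop :=
  ∀ g, g ∈ 𝒜₀ ↔ ∃ x : 𝟙_ (Over (Spec (CommRingCat.of k))) ⟶ A, x ≫ a = g ∧
    x.left.base (pt k) ∈ connectedComponent (η[A].left.base (pt k))

theorem exists_neutralPts (a : A ⟶ G) [IsMonHom a] [IsClosedImmersion a.left] :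
    ∃ 𝒜₀ : Subgroup (𝟙_ (Over (Spec (CommRingCat.of k))) ⟶ G), IsNeutralPts a 𝒜₀ := by
  obtain ⟨A₀, str, j, hmon, hcl, -, hrange, -, -⟩ := Groth.Agent.Lib.Helper70.GrpConnE.main A
  have hmon' : IsMonHom (j ≫ a) := inferInstance
  refine ⟨ptsSubgroup (j ≫ a), ?_⟩
  intro g
  constructor
  · rintro ⟨x₀, rfl⟩
    refine ⟨x₀ ≫ j, by simp [IsMonHom.monoidHom], ?_⟩
    have : (x₀ ≫ j).left.base (pt k) ∈ Set.range j.left := ⟨x₀.left.base (pt k), rfl⟩
    rw [hrange] at this
    exact this
  · rintro ⟨x, rfl, hx⟩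
    have hx' : x ∈ ptsSubgroup j := by
      rw [mem_ptsSubgroup_iff]
      have : x.left.base (pt k) ∈ Set.range j.left := by
        rw [hrange]
        exact hx
      exact this
    obtain ⟨x₀, rfl⟩ := hx'
    exact ⟨x₀, by simp [IsMonHom.monoidHom]⟩

theorem map_mem_connectedComponent {X Y : Scheme.{u}} (f : X ⟶ Y) (x x' : X)
    (hx : x' ∈ connectedComponent x) : f.base x' ∈ connectedComponent (f.base x) :=
  (f.continuous.image_connectedComponent_subset x) ⟨x', hx, rfl⟩

theorem toUnit_unit_eq {T : Over (Spec (CommRingCat.of k))}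
    (x : 𝟙_ (Over (Spec (CommRingCat.of k))) ⟶ T) : x ≫ toUnit T = 𝟙 _ :=
  toUnit_unique _ _

/-- normality of the rational points of the neutral component -/
theorem normal_of_isNeutralPts (a : A ⟶ G) [IsMonHom a] [Mono a]
    (𝒜₀ : Subgroup (𝟙_ (Over (Spec (CommRingCat.of k))) ⟶ G)) (h𝒜₀ : IsNeutralPts a 𝒜₀)
    (hnorm : AlgGrp.IsNormalHom a) : 𝒜₀.Normal := by
  constructor
  intro n hn g
  obtain ⟨x, rfl, hx⟩ := (h𝒜₀ n).mp hn
  obtain ⟨κ, hκ⟩ := hnorm A (toUnit A ≫ g) (𝟙 A)
  rw [Category.id_comp] at hκ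
  rw [h𝒜₀]
  refine ⟨x ≫ κ, ?_, ?_⟩
  · rw [Category.assoc, ← hκ, MonObj.comp_mul, MonObj.comp_mul, GrpObj.comp_inv, ← Category.assoc,
      toUnit_unit_eq, Category.id_comp]
  · have he : η[A] ≫ κ = η[A] := by
      rw [← cancel_mono a, Category.assoc, ← hκ, MonObj.comp_mul, MonObj.comp_mul, GrpObj.comp_inv,
        ← Category.assoc, toUnit_unit_eq, Category.id_comp, IsMonHom.one_hom]
      have h1 : (η[G] : 𝟙_ (Over (Spec (CommRingCat.of k))) ⟶ G) = 1 := by
        rw [Hom.one_def, toUnit_unique (toUnit _) (𝟙 _), Category.id_comp]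
      rw [h1]
      group
    have he' : κ.left.base (η[A].left.base (pt k)) = η[A].left.base (pt k) := by
      change (η[A] ≫ κ).left.base (pt k) = _
      rw [he]
    have := map_mem_connectedComponent κ.left _ _ hx
    rw [he'] at this
    exact this

/-- finitely many cosets of the neutral points cover the rational points -/
theorem exists_cover (a : A ⟶ G) [IsMonHom a] [LocallyOfFiniteType A.hom] [QuasiCompact A.hom]
    (𝒜₀ : Subgroup (𝟙_ (Over (Spec (CommRingCat.of k))) ⟶ G)) (h𝒜₀ : IsNeutralPts a 𝒜₀) :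
    ∃ R : Finset (𝟙_ (Over (Spec (CommRingCat.of k))) ⟶ G), ∀ x ∈ ptsSubgroup a,
      ∃ r ∈ R, r ∈ ptsSubgroup a ∧ r⁻¹ * x ∈ 𝒜₀ := by
  classical
  have hnoeth := Groth.Agent.Lib.Helper41.BoundedAlgClosed.noetherianSpace_of_lft_qc (X := A)
  have hfin : (Set.range (connectedComponent : A.left → Set A.left)).Finite :=
    Groth.Agent.Lib.Helper23.finite_range_connectedComponent
      TopologicalSpace.NoetherianSpace.finite_irreducibleComponents
  let rf : Set A.left → (𝟙_ (Over (Spec (CommRingCat.of k))) ⟶ A) := fun C =>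
    if h : ∃ y : 𝟙_ (Over (Spec (CommRingCat.of k))) ⟶ A, y.left.base (pt k) ∈ C then h.choose else 1
  refine ⟨hfin.toFinset.image (fun C => rf C ≫ a), ?_⟩
  rintro _ ⟨x', rfl⟩
  change ∃ r ∈ _, r ∈ _ ∧ r⁻¹ * (x' ≫ a) ∈ 𝒜₀
  let C := connectedComponent (x'.left.base (pt k))
  have hC : ∃ y : 𝟙_ (Over (Spec (CommRingCat.of k))) ⟶ A, y.left.base (pt k) ∈ C :=
    ⟨x', mem_connectedComponent⟩
  have hrf : (rf C).left.base (pt k) ∈ C := by
    simp only [rf, dif_pos hC]
    exact hC.choose_spec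
  refine ⟨rf C ≫ a, Finset.mem_image.mpr ⟨C, hfin.mem_toFinset.mpr ⟨_, rfl⟩, rfl⟩,
    ⟨rf C, rfl⟩, ?_⟩
  set y' := rf C with hy'
  rw [h𝒜₀]
  refine ⟨y'⁻¹ * x', ?_, ?_⟩
  · rw [MonObj.mul_comp, GrpObj.inv_comp]
  · have h1 : y'⁻¹ * x' = x' ≫ leftTr y'⁻¹ := by
      rw [comp_leftTr, toUnit_unique (toUnit _) (𝟙 _), Category.id_comp]
    have h2 : y' ≫ leftTr y'⁻¹ = η[A] := by
      rw [comp_leftTr, toUnit_unique (toUnit _) (𝟙 _), Category.id_comp, inv_mul_cancel,
        Hom.one_def, toUnit_unique (toUnit _) (𝟙 _), Category.id_comp]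
    rw [h1]
    change (leftTr y'⁻¹).left.base (x'.left.base (pt k)) ∈ _
    have he : (leftTr y'⁻¹).left.base (y'.left.base (pt k)) = η[A].left.base (pt k) := by
      change (y' ≫ leftTr y'⁻¹).left.base (pt k) = _
      rw [h2]
    have hmem : x'.left.base (pt k) ∈ connectedComponent (y'.left.base (pt k)) := by
      rw [← connectedComponent_eq hrf]
      exact mem_connectedComponent
    have := map_mem_connectedComponent (leftTr y'⁻¹).left _ _ hmem
    rw [he] at this
    exact this

end Groth.Agent.Lib.Helper41.NeutralPts
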