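import Groth.Agent.Lib.Helper41.WordPoints

/-!
# The smallest closed subgroup scheme through which a morphism factors (helper41)

`G` any group scheme over a field `k`, `X` geometrically reduced over `k`, `f : X ⟶ G`.

* `wordSet f` : the set of points of `G` hit by signed words `f(x₁)^{±1} ⋯ f(xₙ)^{±1}` in the
  `T`-points of `X`, `T` geometrically reduced over `k`.
* `exists_smallest_subgroup` : the closure of `wordSet f` with its reduced structure is a
  geometrically reduced closed subgroup scheme through which `f` factors, and it is the smallest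
  such closed subgroup scheme.
-/

set_option autoImplicit false
universe u
open CategoryTheory MonoidalCategory CartesianMonoidalCategory MonObj AlgebraicGeometry

namespace Groth.Agent.Lib.Helper41.SmallestSubgroup

open Groth.Agent.Lib.Helper41.WordPoints

variable {k : Type u} [Field k] {G X : Over (Spec (CommRingCat.of k))} [GrpObj G]

/-- points hit by signed words in the points of `X` with values in geometrically reduced schemes -/
def wordSet (f : X ⟶ G) : Set G.left :=
  {p | ∃ (T : Over (Spec (CommRingCat.of k))), GeometricallyReduced T.hom ∧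
    ∃ (l : List ((T ⟶ X) × Bool)) (t : T.left), (word f l).left.base t = p}

theorem wordSet_subset_range (f : X ⟶ G) {Γ : Over (Spec (CommRingCat.of k))} [GrpObj Γ]
    (i : Γ ⟶ G) [IsMonHom i] (f' : X ⟶ Γ) (h : f' ≫ i = f) :
    wordSet f ⊆ Set.range i.left.base := by
  rintro p ⟨T, _, l, t, rfl⟩
  refine ⟨(word f' l).left.base t, ?_⟩
  rw [← h, ← word_comp_hom]
  rfl

theorem exists_smallest_subgroup (k : Type u) [Field k] (G X : Over (Spec (CommRingCat.of k)))
    [GrpObj G] [GeometricallyReduced X.hom] (f : X ⟶ G) :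
    ∃ (Γ : Over (Spec (CommRingCat.of k))) (_ : GrpObj Γ) (i : Γ ⟶ G), IsMonHom i ∧
      IsClosedImmersion i.left ∧ (∃ f' : X ⟶ Γ, f' ≫ i = f) ∧ GeometricallyReduced Γ.hom ∧
      IsReduced Γ.left ∧ Set.range i.left.base = closure (wordSet f) ∧
      ∀ (Γ' : Over (Spec (CommRingCat.of k))) (_ : GrpObj Γ') (i' : Γ' ⟶ G), IsMonHom i' →
        IsClosedImmersion i'.left → (∃ f'' : X ⟶ Γ', f'' ≫ i' = f) → ∃ j : Γ ⟶ Γ', j ≫ i' = i := by
  have hsub : Subsingleton (Spec (CommRingCat.of k)) :=
    inferInstanceAs (Subsingleton (PrimeSpectrum k))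
  have hS : ∀ p ∈ wordSet f, ∃ (T : Over (Spec (CommRingCat.of k))) (a : T ⟶ G) (t : T.left),
      GeometricallyReduced T.hom ∧ Set.range a.left.base ⊆ wordSet f ∧ a.left.base t = p := by
    rintro p ⟨T, hT, l, t, rfl⟩
    refine ⟨T, word f l, t, hT, ?_, rfl⟩
    rintro _ ⟨t', rfl⟩
    exact ⟨T, hT, l, t', rfl⟩
  have hone : Set.range η[G].left.base ⊆ wordSet f := by
    rintro _ ⟨y, rfl⟩
    refine ⟨𝟙_ _, Groth.Agent.Lib.Helper41.ProductReduced.geometricallyReduced_id, [], y, ?_⟩
    rw [word_nil, Hom.one_def, toUnit_unique (toUnit _) (𝟙 _), Category.id_comp]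
  have hinv : ∀ p ∈ wordSet f, ι[G].left.base p ∈ wordSet f := by
    rintro p ⟨T, hT, l, t, rfl⟩
    refine ⟨T, hT, l.reverse.map (fun xb => (xb.1, !xb.2)), t, ?_⟩
    rw [← word_inv, Hom.inv_def]
    rfl
  have hmul : ∀ w : (G ⊗ G).left, (fst G G).left.base w ∈ wordSet f →
      (snd G G).left.base w ∈ wordSet f → μ[G].left.base w ∈ wordSet f := by
    rintro w ⟨T, hT, l, t, h1⟩ ⟨T', hT', l', t', h2⟩
    obtain ⟨w', hw'⟩ := exists_mul_preimage (word f l) (word f l') w t t' h1 h2
    have hTT' : GeometricallyReduced (T ⊗ T').hom :=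
      Groth.Agent.Lib.Helper41.ProductReduced.geometricallyReduced_pullback_fst_comp T.hom T'.hom
    refine ⟨T ⊗ T', hTT', l.map (fun xb => (fst T T' ≫ xb.1, xb.2)) ++
      l'.map (fun xb => (snd T T' ≫ xb.1, xb.2)), w', ?_⟩
    rw [word_append, ← comp_word, ← comp_word]
    exact hw'
  obtain ⟨Γ, hΓ, i, h1, h2, h3, h4, h5⟩ :=
    Groth.Agent.Lib.Helper41.ClosureSubgroup2.exists_closure_subgroup_of_set k G (wordSet f)
      hS hone hinv hmul
  refine ⟨Γ, hΓ, i, h1, h2, ?_, h3, h4, h5, ?_⟩
  · -- `f` factors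
    have hXred : IsReduced X.left :=
      Groth.Agent.Lib.Helper41.ProductReduced.isReduced_of_geometricallyReduced X.hom
    have hr : Set.range f.left.base ⊆ Set.range i.left.base := by
      rw [h5]
      refine subset_trans ?_ subset_closure
      rintro _ ⟨x, rfl⟩
      refine ⟨X, inferInstance, [(𝟙 X, true)], x, ?_⟩
      simp [word, sgn]
    obtain ⟨g, hg⟩ := Groth.Agent.Lib.Helper19.exists_lift_of_isReduced_of_range_subset
      f.left i.left hr
    have hw : g ≫ Γ.hom = X.hom := by
      rw [← Over.w i, ← Category.assoc, hg]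
      exact Over.w f
    refine ⟨Over.homMk g hw, ?_⟩
    ext1
    exact hg
  · -- minimality
    intro Γ' hΓ' i' hi' hci' ⟨f'', hf''⟩
    have hr : Set.range i.left.base ⊆ Set.range i'.left.base := by
      rw [h5]
      apply closure_minimal (wordSet_subset_range f i' f'' hf'')
      exact i'.left.isClosedEmbedding.isClosed_range
    obtain ⟨g, hg⟩ := Groth.Agent.Lib.Helper19.exists_lift_of_isReduced_of_range_subset
      i.left i'.left hr
    have hw : g ≫ Γ'.hom = Γ.hom := by
      rw [← Over.w i', ← Category.assoc, hg]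
      exact Over.w i
    refine ⟨Over.homMk g hw, ?_⟩
    ext1
    exact hg

end Groth.Agent.Lib.Helper41.SmallestSubgroup
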