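import Mathlib
import Groth.Agent.Lib.Helper41.NeutralPts
import Groth.Agent.Lib.Helper41.PtsLemmas
import Groth.Agent.Lib.Helper41.BoundedAlgClosed2
import Groth.Agent.Lib.Helper41.GeomConnGroup
import Groth.Agent.Lib.Helper41.SmallestSubgroup

/-!
# The subgroup generated by the commutators with the neutral components

Over an algebraically closed field, for closed subgroup schemes `A`, `B` of finite type and
geometrically reduced, we construct the closed subgroup scheme generated by `(A⁰, B)` and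
`(A, B⁰)`, and compare its rational points with commutators of rational points.
-/

set_option autoImplicit false
universe u
open CategoryTheory CategoryTheory.Limits MonoidalCategory CartesianMonoidalCategory MonObj GrpObj AlgebraicGeometry

namespace Groth.Agent.Lib.Helper41.CommNeutral

open Groth.Agent.Lib.Helper41.CosetConn Groth.Agent.Lib.Helper41.WordLength
  Groth.Agent.Lib.Helper41.PtsLemmas Groth.Agent.Lib.Helper41.NeutralPts
  Groth.Agent.Lib.Helper41.GenStep Groth.Agent.Lib.Helper41.BoundedAlgClosed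
open scoped commutatorElement

section Opn

variable {S : Scheme.{u}}

theorem exists_lift_opn {T X : Over S} (U : X.left.Opens) (x : T ⟶ X)
    (hx : Set.range x.left.base ⊆ (U : Set X.left)) : ∃ x₀ : T ⟶ opn X U, x₀ ≫ opnι X U = x := by
  have hr : Set.range x.left.base ⊆ Set.range U.ι.base := by
    rw [Scheme.Opens.range_ι]
    exact hx
  let l : T.left ⟶ U.toScheme := IsOpenImmersion.lift U.ι x.left hr
  have hl : l ≫ U.ι = x.left := IsOpenImmersion.lift_fac U.ι x.left hr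
  have hw : l ≫ (opn X U).hom = T.hom := by
    change l ≫ U.ι ≫ X.hom = T.hom
    rw [← Category.assoc, hl]
    exact Over.w x
  refine ⟨Over.homMk l hw, ?_⟩
  ext1
  exact hl

end Opn

variable {k : Type u} [Field k]

section Neutral

variable (A : Over (Spec (CommRingCat.of k))) [GrpObj A]

theorem isOpen_cc [LocallyOfFiniteType A.hom] [QuasiCompact A.hom] :
    IsOpen (connectedComponent (η[A].left.base (NeutralPts.pt k))) := by
  have hnoeth := noetherianSpace_of_lft_qc (X := A)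
  exact Groth.Agent.Lib.Helper23.isOpen_connectedComponent_of_finite
    (Groth.Agent.Lib.Helper23.finite_range_connectedComponent
      TopologicalSpace.NoetherianSpace.finite_irreducibleComponents) _

/-- the neutral component as an open subset -/
noncomputable def nOpen [LocallyOfFiniteType A.hom] [QuasiCompact A.hom] : A.left.Opens :=
  ⟨connectedComponent (η[A].left.base (NeutralPts.pt k)), isOpen_cc A⟩

variable [LocallyOfFiniteType A.hom] [QuasiCompact A.hom]

theorem connectedSpace_nOpen : ConnectedSpace (opn A (nOpen A)).left := by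
  have : ConnectedSpace (nOpen A).toScheme :=
    isConnected_iff_connectedSpace.mp
      (isConnected_connectedComponent : _root_.IsConnected (connectedComponent (η[A].left.base (NeutralPts.pt k))))
  exact this

/-- the unit as a rational point of the neutral component -/
theorem exists_unit_nOpen : ∃ e₀ : 𝟙_ (Over (Spec (CommRingCat.of k))) ⟶ opn A (nOpen A),
    e₀ ≫ opnι A (nOpen A) = η[A] := by
  apply exists_lift_opn
  rintro _ ⟨q, rfl⟩
  rw [PtsLemmas.eq_pt q]
  exact mem_connectedComponent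

theorem geometricallyConnected_nOpen : GeometricallyConnected (opn A (nOpen A)).hom := by
  have := connectedSpace_nOpen A
  obtain ⟨e₀, -⟩ := exists_unit_nOpen A
  refine Groth.Agent.Lib.Helper41.GeomConnGroup.geometricallyConnected_of_section _ e₀.left ?_
  rw [Over.w e₀]
  rfl

/-- the neutral component as an abstract open subscheme, with the properties we need -/
theorem exists_neutral_open [GeometricallyReduced A.hom] :
    ∃ (A₀ : Over (Spec (CommRingCat.of k))) (α : A₀ ⟶ A), LocallyOfFiniteType A₀.hom ∧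
      QuasiCompact A₀.hom ∧ GeometricallyReduced A₀.hom ∧ ConnectedSpace A₀.left ∧
      GeometricallyConnected A₀.hom ∧
      (∃ e₀ : 𝟙_ (Over (Spec (CommRingCat.of k))) ⟶ A₀, e₀ ≫ α = η[A]) ∧
      ∀ x : 𝟙_ (Over (Spec (CommRingCat.of k))) ⟶ A,
        x.left.base (NeutralPts.pt k) ∈ connectedComponent (η[A].left.base (NeutralPts.pt k)) →
        ∃ x₀ : 𝟙_ (Over (Spec (CommRingCat.of k))) ⟶ A₀, x₀ ≫ α = x := by
  refine ⟨opn A (nOpen A), opnι A (nOpen A), opn_lft _, opn_qc _, opn_geomRed _,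
    connectedSpace_nOpen A, geometricallyConnected_nOpen A, exists_unit_nOpen A, ?_⟩
  intro x hx
  apply exists_lift_opn
  rintro _ ⟨q, rfl⟩
  rw [PtsLemmas.eq_pt q]
  exact hx

end Neutral

theorem comp_unit_eq_one {G T : Over (Spec (CommRingCat.of k))} [GrpObj G]
    (t : T ⟶ 𝟙_ (Over (Spec (CommRingCat.of k)))) : t ≫ η[G] = 1 := by
  rw [Hom.one_def, toUnit_unique t (toUnit T)]

section Main

variable [IsAlgClosed k] {G A B : Over (Spec (CommRingCat.of k))} [GrpObj G] [GrpObj A] [GrpObj B]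
  [LocallyOfFiniteType G.hom]

theorem exists_neutral_commutator (a : A ⟶ G) [IsMonHom a] [IsClosedImmersion a.left]
    (b : B ⟶ G) [IsMonHom b] [IsClosedImmersion b.left]
    [GeometricallyReduced A.hom] [GeometricallyReduced B.hom] [QuasiCompact A.hom]
    [QuasiCompact B.hom] :
    ∃ (N : Over (Spec (CommRingCat.of k))) (_ : GrpObj N) (n : N ⟶ G) (_ : IsMonHom n),
      IsClosedImmersion n.left ∧ GeometricallyReduced N.hom ∧
      (∀ (Γ' : Over (Spec (CommRingCat.of k))) (_ : GrpObj Γ') (i' : Γ' ⟶ G), IsMonHom i' →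
        IsClosedImmersion i'.left → (∃ f : A ⊗ B ⟶ Γ', f ≫ i' = commMap a b) →
        ∃ j : N ⟶ Γ', j ≫ i' = n) ∧
      (∀ 𝒜₀ ℬ₀ : Subgroup (𝟙_ (Over (Spec (CommRingCat.of k))) ⟶ G), IsNeutralPts a 𝒜₀ →
        IsNeutralPts b ℬ₀ →
        (⁅𝒜₀, ptsSubgroup b⁆ ⊔ ⁅ptsSubgroup a, ℬ₀⁆ : Subgroup _) ≤ ptsSubgroup n) ∧
      ptsSubgroup n ≤ ⁅ptsSubgroup a, ptsSubgroup b⁆ := by
  classical
  have hAlft : LocallyOfFiniteType A.hom := by
    rw [← Over.w a]
    infer_instance
  have hBlft : LocallyOfFiniteType B.hom := by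
    rw [← Over.w b]
    infer_instance
  obtain ⟨A₀, α, hA1, hA2, hA3, hA4, hA5, ⟨eA, heA⟩, hAlift⟩ := exists_neutral_open A
  obtain ⟨B₀, β, hB1, hB2, hB3, hB4, hB5, ⟨eB, heB⟩, hBlift⟩ := exists_neutral_open B
  let Y := A₀ ⊗ B₀
  have hY1 : LocallyOfFiniteType Y.hom := tensor_lft A₀ B₀
  have hY2 : QuasiCompact Y.hom := tensor_qc A₀ B₀
  have hY3 : GeometricallyReduced Y.hom := tensor_geomRed A₀ B₀
  have hYconn : ConnectedSpace Y.left := by
    have huo : UniversallyOpen A₀.hom :=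
      Groth.Agent.Lib.Helper93.ActionOpen.universallyOpen_of_field A₀.hom
    change ConnectedSpace ↥(pullback A₀.hom B₀.hom)
    infer_instance
  let eY : 𝟙_ (Over (Spec (CommRingCat.of k))) ⟶ Y := lift eA eB
  have hYgc : GeometricallyConnected Y.hom := by
    refine Groth.Agent.Lib.Helper41.GeomConnGroup.geometricallyConnected_of_section _ eY.left ?_
    rw [Over.w eY]
    rfl
  let Z := A ⊗ B
  have hZ1 : LocallyOfFiniteType Z.hom := tensor_lft A B
  have hZ2 : QuasiCompact Z.hom := tensor_qc A B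
  have hZ3 : GeometricallyReduced Z.hom := tensor_geomRed A B
  let X₃ := Y ⊗ Z
  have hX1 : LocallyOfFiniteType X₃.hom := tensor_lft Y Z
  have hX2 : QuasiCompact X₃.hom := tensor_qc Y Z
  have hX3 : GeometricallyReduced X₃.hom := tensor_geomRed Y Z
  let c : A ⊗ B ⟶ G := commMap a b
  obtain ⟨c₃, hc₃⟩ : ∃ c₃ : X₃ ⟶ G, ∀ {T : Over (Spec (CommRingCat.of k))} (u : T ⟶ X₃),
      u ≫ c₃ = ⁅(u ≫ fst Y Z ≫ fst A₀ B₀ ≫ α) ≫ a, (u ≫ snd Y Z ≫ snd A B) ≫ b⁆ *
        ⁅(u ≫ snd Y Z ≫ fst A B) ≫ a, (u ≫ fst Y Z ≫ snd A₀ B₀ ≫ β) ≫ b⁆ := by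
    refine ⟨(lift (fst Y Z ≫ fst A₀ B₀ ≫ α) (snd Y Z ≫ snd A B) ≫ c) *
      (lift (snd Y Z ≫ fst A B) (fst Y Z ≫ snd A₀ B₀ ≫ β) ≫ c), ?_⟩
    intro T u
    have h1 : u ≫ lift (fst Y Z ≫ fst A₀ B₀ ≫ α) (snd Y Z ≫ snd A B) ≫ c =
        ⁅(u ≫ fst Y Z ≫ fst A₀ B₀ ≫ α) ≫ a, (u ≫ snd Y Z ≫ snd A B) ≫ b⁆ := by
      rw [← Category.assoc, comp_commMap]
      simp only [Category.assoc, lift_fst, lift_snd]
    have h2 : u ≫ lift (snd Y Z ≫ fst A B) (fst Y Z ≫ snd A₀ B₀ ≫ β) ≫ c =
        ⁅(u ≫ snd Y Z ≫ fst A B) ≫ a, (u ≫ fst Y Z ≫ snd A₀ B₀ ≫ β) ≫ b⁆ := by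
      rw [← Category.assoc, comp_commMap]
      simp only [Category.assoc, lift_fst, lift_snd]
    rw [MonObj.comp_mul, h1, h2]
  have hone : ∀ {T : Over (Spec (CommRingCat.of k))}
      (t : T ⟶ 𝟙_ (Over (Spec (CommRingCat.of k)))), (t ≫ η[A]) ≫ a = 1 := by
    intro T t
    rw [Category.assoc, IsMonHom.one_hom, comp_unit_eq_one]
  have hone' : ∀ {T : Over (Spec (CommRingCat.of k))}
      (t : T ⟶ 𝟙_ (Over (Spec (CommRingCat.of k)))), (t ≫ η[B]) ≫ b = 1 := by
    intro T t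
    rw [Category.assoc, IsMonHom.one_hom, comp_unit_eq_one]
  -- every connected component of `X₃` contains a point mapped to the unit
  have hcc : ∀ x : X₃.left, ∃ x' ∈ connectedComponent x,
      c₃.left.base x' ∈ Set.range η[G].left.base := by
    intro x
    have hsndgc : GeometricallyConnected (snd Y Z).left := by
      rw [Over.snd_left]
      infer_instance
    let r : X₃ ⟶ X₃ := snd Y Z ≫ lift (toUnit Z ≫ eY) (𝟙 Z)
    have hr : r ≫ snd Y Z = snd Y Z := by
      simp only [r, Category.assoc, lift_snd, Category.comp_id]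
    have hr1 : r ≫ fst Y Z = (snd Y Z ≫ toUnit Z) ≫ eY := by
      simp only [r, Category.assoc, lift_fst]
    have hrc : r ≫ c₃ = 1 := by
      rw [hc₃]
      have e1 : (r ≫ fst Y Z ≫ fst A₀ B₀ ≫ α) ≫ a = 1 := by
        rw [← Category.assoc r, hr1]
        have : ((snd Y Z ≫ toUnit Z) ≫ eY) ≫ fst A₀ B₀ ≫ α = (snd Y Z ≫ toUnit Z) ≫ η[A] := by
          simp only [eY, Category.assoc, lift_fst_assoc, heA]
        rw [this, hone]
      have e2 : (r ≫ fst Y Z ≫ snd A₀ B₀ ≫ β) ≫ b = 1 := by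
        rw [← Category.assoc r, hr1]
        have : ((snd Y Z ≫ toUnit Z) ≫ eY) ≫ snd A₀ B₀ ≫ β = (snd Y Z ≫ toUnit Z) ≫ η[B] := by
          simp only [eY, Category.assoc, lift_snd_assoc, heB]
        rw [this, hone']
      rw [e1, e2, commutatorElement_one_left, commutatorElement_one_right, _root_.one_mul]
    refine ⟨r.left.base x, ?_, ?_⟩
    · have hconn := Scheme.Hom.isConnected_preimage_singleton (snd Y Z).left
        ((snd Y Z).left.base x)
      apply hconn.isPreconnected.subset_connectedComponent (Set.mem_preimage.mpr rfl)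
      change (snd Y Z).left.base (r.left.base x) = (snd Y Z).left.base x
      change (r ≫ snd Y Z).left.base x = _
      rw [hr]
    · change (r ≫ c₃).left.base x ∈ _
      rw [hrc, Hom.one_def]
      exact ⟨(toUnit X₃).left.base x, rfl⟩
  have hXne : Nonempty X₃.left :=
    ⟨(lift eY (lift η[A] η[B])).left.base (NeutralPts.pt k)⟩
  obtain ⟨N, hN, n, hn1, hn2, hn3, hn4, -, -, hn7⟩ :=
    Groth.Agent.Lib.Helper41.SmallestSubgroup.exists_smallest_subgroup k G X₃ c₃
  obtain ⟨⟨M, hM⟩, -, -⟩ :=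
    Groth.Agent.Lib.Helper41.BoundedAlgClosed2.bounded_of_algClosed' c₃ hcc N n hn3 hn7
  obtain ⟨f', hf'⟩ := hn3
  refine ⟨N, hN, n, hn1, hn2, hn4, ?_, ?_, ?_⟩
  · intro Γ' hΓ' i' h1 h2 ⟨f, hf⟩
    apply hn7 Γ' hΓ' i' h1 h2
    refine ⟨(lift (fst Y Z ≫ fst A₀ B₀ ≫ α) (snd Y Z ≫ snd A B) ≫ f) *
      (lift (snd Y Z ≫ fst A B) (fst Y Z ≫ snd A₀ B₀ ≫ β) ≫ f), ?_⟩
    rw [MonObj.mul_comp, Category.assoc, Category.assoc, hf]
    have := hc₃ (𝟙 X₃)
    rw [Category.id_comp] at this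
    rw [this, comp_commMap, comp_commMap]
    simp only [Category.assoc, lift_fst, lift_snd, Category.id_comp]
  · intro 𝒜₀ ℬ₀ h𝒜₀ hℬ₀
    apply sup_le
    · rw [Subgroup.commutator_le]
      intro g₁ hg₁ g₂ hg₂
      obtain ⟨x, rfl, hx⟩ := (h𝒜₀ g₁).mp hg₁
      obtain ⟨y, hy⟩ := hg₂
      have hy' : y ≫ b = g₂ := hy
      obtain ⟨x₀, hx₀⟩ := hAlift x hx
      let u : 𝟙_ (Over (Spec (CommRingCat.of k))) ⟶ X₃ := lift (lift x₀ eB) (lift η[A] y)
      have hu : u ≫ c₃ = ⁅x ≫ a, g₂⁆ := by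
        rw [hc₃]
        have e1 : u ≫ fst Y Z ≫ fst A₀ B₀ ≫ α = x := by
          simp only [u, lift_fst_assoc, hx₀]
        have e2 : u ≫ snd Y Z ≫ snd A B = y := by
          simp only [u, lift_snd_assoc, lift_snd]
        have e3 : u ≫ snd Y Z ≫ fst A B = 𝟙 _ ≫ η[A] := by
          simp only [u, lift_snd_assoc, lift_fst, Category.id_comp]
        have e4 : u ≫ fst Y Z ≫ snd A₀ B₀ ≫ β = 𝟙 _ ≫ η[B] := by
          simp only [u, lift_fst_assoc, lift_snd_assoc, heB, Category.id_comp]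
        rw [e1, e2, e3, e4, hone, hone', hy', commutatorElement_one_left, _root_.mul_one]
      rw [← hu, ← hf', ← Category.assoc]
      exact ⟨u ≫ f', rfl⟩
    · rw [Subgroup.commutator_le]
      intro g₁ hg₁ g₂ hg₂
      obtain ⟨y, rfl, hy⟩ := (hℬ₀ g₂).mp hg₂
      obtain ⟨x, hx⟩ := hg₁
      have hx' : x ≫ a = g₁ := hx
      obtain ⟨y₀, hy₀⟩ := hBlift y hy
      let u : 𝟙_ (Over (Spec (CommRingCat.of k))) ⟶ X₃ := lift (lift eA y₀) (lift x η[B])
      have hu : u ≫ c₃ = ⁅g₁, y ≫ b⁆ := by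
        rw [hc₃]
        have e1 : u ≫ fst Y Z ≫ fst A₀ B₀ ≫ α = 𝟙 _ ≫ η[A] := by
          simp only [u, lift_fst_assoc, heA, Category.id_comp]
        have e2 : u ≫ snd Y Z ≫ snd A B = 𝟙 _ ≫ η[B] := by
          simp only [u, lift_snd_assoc, lift_snd, Category.id_comp]
        have e3 : u ≫ snd Y Z ≫ fst A B = x := by
          simp only [u, lift_snd_assoc, lift_fst]
        have e4 : u ≫ fst Y Z ≫ snd A₀ B₀ ≫ β = y := by
          simp only [u, lift_fst_assoc, lift_snd_assoc, hy₀]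
        rw [e1, e2, e3, e4, hone, hone', hx', commutatorElement_one_left, _root_.one_mul]
      rw [← hu, ← hf', ← Category.assoc]
      exact ⟨u ≫ f', rfl⟩
  · intro g hg
    rw [mem_ptsSubgroup_iff] at hg
    rw [hM] at hg
    have := mem_closure_of_mem_wordLen c₃ g M hg
    refine (Subgroup.closure_le _).mpr ?_ this
    rintro _ ⟨u, rfl⟩
    change u ≫ c₃ ∈ _
    rw [hc₃]
    exact mul_mem (Subgroup.commutator_mem_commutator ⟨_, rfl⟩ ⟨_, rfl⟩)
      (Subgroup.commutator_mem_commutator ⟨_, rfl⟩ ⟨_, rfl⟩)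

end Main

end Groth.Agent.Lib.Helper41.CommNeutral
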