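import Groth.Agent.Lib.Helper41.ProductSubgroup
import Groth.Prelude.Def_AlgGrp

/-!
# Conjugates of commutator words (helper41)

* `exists_conj_word` : for normal `a : A ⟶ G`, `b : B ⟶ G`, a conjugate of a signed word in the
  commutators `[a(x), b(y)]` is again such a word.
-/

set_option autoImplicit false
universe u
open CategoryTheory MonoidalCategory CartesianMonoidalCategory MonObj AlgebraicGeometry

namespace Groth.Agent.Lib.Helper41.ConjWord

open Groth.Agent.Lib.Helper41.WordPoints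

variable {S : Scheme.{u}} {G : Over S} [GrpObj G]

theorem exists_conj_word {A B : Over S} [GrpObj A] [GrpObj B]
    (a : A ⟶ G) (b : B ⟶ G) (hA : AlgGrp.IsNormalHom a) (hB : AlgGrp.IsNormalHom b)
    (f : A ⊗ B ⟶ G)
    (hf : f = ((fst A B) ≫ a) * ((snd A B) ≫ b) * ((fst A B) ≫ a)⁻¹ * ((snd A B) ≫ b)⁻¹)
    {T : Over S} (g : T ⟶ G) (l : List ((T ⟶ A ⊗ B) × Bool)) :
    ∃ l' : List ((T ⟶ A ⊗ B) × Bool), g * word f l * g⁻¹ = word f l' := by
  induction l with
  | nil =>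
    refine ⟨[], ?_⟩
    rw [word_nil, _root_.mul_one, mul_inv_cancel]
  | cons zb l ih =>
    obtain ⟨l', hl'⟩ := ih
    obtain ⟨x', hx'⟩ := hA T g (zb.1 ≫ fst A B)
    obtain ⟨y', hy'⟩ := hB T g (zb.1 ≫ snd A B)
    have hz : zb.1 ≫ f = ((zb.1 ≫ fst A B) ≫ a) * ((zb.1 ≫ snd A B) ≫ b) *
        ((zb.1 ≫ fst A B) ≫ a)⁻¹ * ((zb.1 ≫ snd A B) ≫ b)⁻¹ := by
      rw [hf, MonObj.comp_mul, MonObj.comp_mul, MonObj.comp_mul, GrpObj.comp_inv, GrpObj.comp_inv,
        Category.assoc, Category.assoc]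
    have hz' : lift x' y' ≫ f = (x' ≫ a) * (y' ≫ b) * (x' ≫ a)⁻¹ * (y' ≫ b)⁻¹ := by
      rw [hf, MonObj.comp_mul, MonObj.comp_mul, MonObj.comp_mul, GrpObj.comp_inv, GrpObj.comp_inv,
        lift_fst_assoc, lift_snd_assoc]
    have hconj : g * (zb.1 ≫ f) * g⁻¹ = lift x' y' ≫ f := by
      rw [hz, hz', ← hx', ← hy']
      group
    refine ⟨(lift x' y', zb.2) :: l', ?_⟩
    rw [word_cons, word_cons, ← hl']
    unfold sgn
    by_cases hb : zb.2
    · simp only [hb, if_true]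
      rw [← hconj]
      group
    · simp only [hb, Bool.false_eq_true, if_false]
      rw [← hconj]
      group

end Groth.Agent.Lib.Helper41.ConjWord
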