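import Groth.Agent.Lib.Helper12.ConstrTop

/-!
# A constructible set contains a nonempty relatively open subset of its closure (helper41)

* `exists_open_inter_closure_subset` : in a Noetherian space, for `E` constructible and nonempty there is
  an open `W` with `W ∩ closure E` nonempty and contained in `E`.
-/

set_option autoImplicit false

namespace Groth.Agent.Lib.Helper41.ConstrDense

open Topology TopologicalSpace Set

theorem exists_open_inter_closure_subset {X : Type*} [TopologicalSpace X] [NoetherianSpace X]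
    {E : Set X} (hE : IsConstructible E) (hne : E.Nonempty) :
    ∃ W : Set X, IsOpen W ∧ (W ∩ closure E).Nonempty ∧ W ∩ closure E ⊆ E := by
  classical
  obtain ⟨e₀, he₀⟩ := hne
  -- work in the Noetherian subspace `closure E`
  let y₀ : ↥(closure E) := ⟨e₀, subset_closure he₀⟩
  have hNS : NoetherianSpace ↥(closure E) := NoetherianSpace.set _
  obtain ⟨o', ho', ho'ne, ho'sub⟩ :=
    NoetherianSpace.exists_isOpen_nonempty_subset_irreducibleComponent
      (irreducibleComponent y₀) (irreducibleComponent_mem_irreducibleComponents y₀)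
  have ho'irr : IsIrreducible o' :=
    ⟨ho'ne, isIrreducible_irreducibleComponent.isPreirreducible.open_subset ho' ho'sub⟩
  obtain ⟨W₁, hW₁, hW₁o'⟩ := isOpen_induced_iff.mp ho'
  -- the irreducible set `Y = W₁ ∩ closure E`
  have hY : (Subtype.val '' o' : Set X) = W₁ ∩ closure E := by
    rw [← hW₁o', Subtype.image_preimage_coe, inter_comm]
  have hYirr : IsIrreducible (W₁ ∩ closure E) := by
    rw [← hY]
    exact ho'irr.image _ continuous_subtype_val.continuousOn
  have hd : W₁ ∩ closure E ⊆ closure (E ∩ (W₁ ∩ closure E)) := by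
    rintro p ⟨hpW, hpE⟩
    rw [mem_closure_iff]
    intro N hN hpN
    obtain ⟨q, ⟨hqN, hqW⟩, hqE⟩ := mem_closure_iff.mp hpE (N ∩ W₁) (hN.inter hW₁) ⟨hpN, hpW⟩
    exact ⟨q, hqN, hqE, hqW, subset_closure hqE⟩
  obtain ⟨U, hU, hUne, hUsub⟩ :=
    Groth.Agent.Lib.Helper12.ConstrTop.exists_open_of_dense_trace hE hYirr hd
  refine ⟨U ∩ W₁, hU.inter hW₁, ?_, ?_⟩
  · rw [inter_assoc]
    exact hUne
  · rw [inter_assoc]
    exact hUsub

end Groth.Agent.Lib.Helper41.ConstrDense
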