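import Groth.Prelude.Def_KRR
import Mathlib

set_option autoImplicit false
universe v u
open Finset

namespace Groth.Agent.Lib.Helper41.ElemExt

variable {K : Type v} [CommRing K] [LambdaRing.LambdaOps K]

/-- the coefficient `(-1)^i λ^i(e)` of `λ_{-t}(e)`. -/
noncomputable def c (e : K) (i : ℕ) : K := (-1 : K) ^ i * LambdaRing.LambdaOps.lam i e

theorem c_zero (e : K) : c e 0 = 1 := by
  simp [c, LambdaRing.LambdaOps.lam_zero]

theorem lamNeg_mul_sigmaSeries (e : K) :
    PowerSeries.rescale (-1 : K) (LambdaRing.lamSeries e) * KRR.sigmaSeries e = 1 := by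
  unfold KRR.sigmaSeries
  apply PowerSeries.mul_invOfUnit
  rw [← PowerSeries.coeff_zero_eq_constantCoeff_apply, PowerSeries.coeff_rescale]
  simp [LambdaRing.lamSeries, LambdaRing.LambdaOps.lam_zero]

theorem sigma_zero (e : K) : KRR.sigma 0 e = 1 := by
  have h := congrArg (PowerSeries.coeff 0) (lamNeg_mul_sigmaSeries e)
  simpa [PowerSeries.coeff_mul, KRR.sigma, LambdaRing.lamSeries, LambdaRing.LambdaOps.lam_zero] using h

/-- The recursion `Σ_{i ≤ n} (-1)^i λ^i(e) σ^{n-i}(e) = 0` for `n ≥ 1`. -/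
theorem sigma_conv (e : K) (n : ℕ) (hn : 1 ≤ n) :
    ∑ i ∈ range (n + 1), c e i * KRR.sigma (n - i) e = 0 := by
  have h := congrArg (PowerSeries.coeff n) (lamNeg_mul_sigmaSeries e)
  rw [PowerSeries.coeff_mul, Finset.Nat.sum_antidiagonal_eq_sum_range_succ_mk] at h
  rw [PowerSeries.coeff_one, if_neg (by omega)] at h
  rw [← h]
  refine Finset.sum_congr rfl fun i _ => ?_
  simp [c, KRR.sigma, LambdaRing.lamSeries, PowerSeries.coeff_rescale]

/-- The truncated recursion: if `λ^i(e) = 0` for `i > m` and `n ≥ m`, `n ≥ 1`. -/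
theorem sigma_conv_trunc (e : K) (m : ℕ) (hm : ∀ i, m < i → LambdaRing.LambdaOps.lam i e = 0)
    (n : ℕ) (hn : 1 ≤ n) (hmn : m ≤ n) :
    ∑ i ∈ range (m + 1), c e i * KRR.sigma (n - i) e = 0 := by
  rw [← sigma_conv e n hn]
  apply Finset.sum_subset
  · intro i hi
    simp only [Finset.mem_range] at hi ⊢
    omega
  · intro i _ hi
    simp only [Finset.mem_range, not_lt] at hi
    simp [c, hm i (by omega)]

variable (P : LambdaRing.PosStructure K)

/-- The relation satisfied by the root of `extPoly`. -/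
theorem root_rel (e : K) :
    ∑ i ∈ range ((P.aug e).toNat + 1),
      AdjoinRoot.of (KRR.extPoly P e) (c e i) * AdjoinRoot.root (KRR.extPoly P e) ^ ((P.aug e).toNat - i) = 0 := by
  have h := AdjoinRoot.eval₂_root (KRR.extPoly P e)
  rw [← h]
  have hdef : KRR.extPoly P e = ∑ i ∈ Finset.range ((P.aug e).toNat + 1),
    Polynomial.C ((-1 : K) ^ i * LambdaRing.LambdaOps.lam i e) * Polynomial.X ^ ((P.aug e).toNat - i) := rfl
  conv_rhs => arg 3; rw [hdef]
  rw [Polynomial.eval₂_finsetSum]
  refine Finset.sum_congr rfl fun i _ => ?_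
  rw [Polynomial.eval₂_mul, Polynomial.eval₂_C, Polynomial.eval₂_pow, Polynomial.eval₂_X]
  rfl

theorem smul_eq_of_mul (e : K) (a : K) (y : AdjoinRoot (KRR.extPoly P e)) :
    AdjoinRoot.of (KRR.extPoly P e) a * y = a • y := by
  rw [Algebra.smul_def, AdjoinRoot.algebraMap_eq]

/-- Forward propagation: a functional agreeing with `σ^i(e)` on `ℓ^i` for `i ≤ r` does so for all `i`. -/
theorem functional_forward (e : K) (he : e ∈ P.pos) (r : ℕ) (hr : P.aug e = r + 1)
    (f : AdjoinRoot (KRR.extPoly P e) →ₗ[K] K)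
    (hf : ∀ i : ℕ, i ≤ r → f (AdjoinRoot.root (KRR.extPoly P e) ^ i) = KRR.sigma i e) (n : ℕ) :
    f (AdjoinRoot.root (KRR.extPoly P e) ^ n) = KRR.sigma n e := by
  have hm : (P.aug e).toNat = r + 1 := by rw [hr]; omega
  have hlam : ∀ i, r + 1 < i → LambdaRing.LambdaOps.lam i e = 0 := by
    intro i hi
    apply P.lam_eq_zero e he
    rw [hr]; exact_mod_cast hi
  induction n using Nat.strong_induction_on with
  | _ n ih =>
    by_cases hn : n ≤ r
    · exact hf n hn
    · push Not at hn
      have h1 := root_rel P e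
      rw [hm] at h1
      have h2 : ∑ i ∈ range (r + 1 + 1), c e i * f (AdjoinRoot.root (KRR.extPoly P e) ^ (n - i)) = 0 := by
        have h3 := congrArg (fun y => f (AdjoinRoot.root (KRR.extPoly P e) ^ (n - (r + 1)) * y)) h1
        simp only [mul_zero, map_zero, Finset.mul_sum, map_sum] at h3
        rw [← h3]
        refine Finset.sum_congr rfl fun i hi => ?_
        simp only [Finset.mem_range] at hi
        rw [mul_left_comm, smul_eq_of_mul, map_smul, smul_eq_mul, ← pow_add]
        congr 3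
        omega
      have h4 := sigma_conv_trunc e (r + 1) hlam n (by omega) (by omega)
      have h5 : ∑ i ∈ range (r + 1 + 1), c e i *
          (f (AdjoinRoot.root (KRR.extPoly P e) ^ (n - i)) - KRR.sigma (n - i) e) = 0 := by
        simp only [mul_sub, Finset.sum_sub_distrib, h2, h4, sub_zero]
      rw [Finset.sum_eq_single 0] at h5
      · simpa [c_zero, sub_eq_zero] using h5
      · intro i hi hi0
        simp only [Finset.mem_range] at hi
        rw [ih (n - i) (by omega), sub_self, mul_zero]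
      · intro h; simp at h

theorem inv_pow_mul_pow {M : Type*} [CommMonoid M] (u l : M) (h : u * l = 1) (a b : ℕ) :
    u ^ a * l ^ b = if a ≤ b then l ^ (b - a) else u ^ (a - b) := by
  split_ifs with hab
  · obtain ⟨d, rfl⟩ := Nat.exists_eq_add_of_le hab
    rw [pow_add, ← mul_assoc, ← mul_pow, h, one_pow, one_mul, Nat.add_sub_cancel_left]
  · push Not at hab
    obtain ⟨d, rfl⟩ := Nat.exists_eq_add_of_le hab.le
    rw [Nat.add_sub_cancel_left, pow_add, mul_right_comm, ← mul_pow, h, one_pow, one_mul]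

/-- Backward propagation: the functional vanishes on `ℓ^{-n}` for `1 ≤ n ≤ r`. -/
theorem functional_backward (e : K) (he : e ∈ P.pos) (r : ℕ) (hr : P.aug e = r + 1)
    (f : AdjoinRoot (KRR.extPoly P e) →ₗ[K] K)
    (hf : ∀ i : ℕ, f (AdjoinRoot.root (KRR.extPoly P e) ^ i) = KRR.sigma i e)
    (linv : AdjoinRoot (KRR.extPoly P e)) (hlinv : linv * AdjoinRoot.root (KRR.extPoly P e) = 1)
    (n : ℕ) (h1n : 1 ≤ n) (hnr : n ≤ r) : f (linv ^ n) = 0 := by
  have hm : (P.aug e).toNat = r + 1 := by rw [hr]; omega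
  have hunit : IsUnit (c e (r + 1)) := by
    have := P.isUnit_lam e he
    rw [hm] at this
    unfold c
    exact ((isUnit_neg_one (α := K)).pow _).mul this
  induction n using Nat.strong_induction_on with
  | _ n ih =>
    have h1 := root_rel P e
    rw [hm] at h1
    have h3 := congrArg (fun y => f (linv ^ n * y)) h1
    simp only [mul_zero, map_zero, Finset.mul_sum, map_sum] at h3
    have h4 : ∀ i ∈ range (r + 1 + 1), f (linv ^ n * (AdjoinRoot.of (KRR.extPoly P e) (c e i) *
        AdjoinRoot.root (KRR.extPoly P e) ^ (r + 1 - i))) =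
        c e i * (if n ≤ r + 1 - i then KRR.sigma (r + 1 - i - n) e else f (linv ^ (n - (r + 1 - i)))) := by
      intro i _
      rw [mul_left_comm, smul_eq_of_mul, map_smul, smul_eq_mul, inv_pow_mul_pow _ _ hlinv]
      split_ifs
      · rw [hf]
      · rfl
    rw [Finset.sum_congr rfl h4, Finset.sum_range_succ] at h3
    have h5 : ∑ i ∈ range (r + 1), c e i *
        (if n ≤ r + 1 - i then KRR.sigma (r + 1 - i - n) e else f (linv ^ (n - (r + 1 - i)))) =
        ∑ i ∈ range (r + 1 - n + 1), c e i * KRR.sigma (r + 1 - n - i) e := by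
      symm
      apply Finset.sum_subset_zero_on_sdiff
      · intro i hi
        simp only [Finset.mem_range] at hi ⊢
        omega
      · intro i hi
        simp only [Finset.mem_sdiff, Finset.mem_range, not_lt] at hi
        rw [if_neg (by omega), ih (n - (r + 1 - i)) (by omega) (by omega) (by omega), mul_zero]
      · intro i hi
        simp only [Finset.mem_range] at hi
        rw [if_pos (by omega)]
        congr 2
        omega
    rw [h5, sigma_conv e (r + 1 - n) (by omega), zero_add, if_neg (by omega)] at h3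
    simp only [Nat.sub_self, Nat.sub_zero] at h3
    exact (hunit.mul_right_eq_zero).mp h3

/-- In any pre-λ-ring, if `λ^j(ℓ) = 0` for `j ≥ 2` then `λ^{k+1}(E) = λ^{k+1}(E - ℓ) + λ^k(E - ℓ) ℓ`. -/
theorem lam_succ_sub_line {B : Type*} [CommRing B] [LambdaRing.LambdaOps B] (E l : B)
    (hl : ∀ j, 2 ≤ j → LambdaRing.LambdaOps.lam j l = 0) (k : ℕ) :
    LambdaRing.LambdaOps.lam (k + 1) E =
      LambdaRing.LambdaOps.lam (k + 1) (E - l) + LambdaRing.LambdaOps.lam k (E - l) * l := by
  have h := LambdaRing.LambdaOps.lam_add (k + 1) (E - l) l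
  rw [sub_add_cancel, Finset.sum_range_succ, Finset.sum_range_succ] at h
  rw [h, Finset.sum_eq_zero, zero_add]
  · simp only [Nat.sub_self, LambdaRing.LambdaOps.lam_zero, mul_one, Nat.add_sub_cancel_left,
      LambdaRing.LambdaOps.lam_one]
    ring
  · intro i hi
    simp only [Finset.mem_range] at hi
    rw [hl (k + 1 - i) (by omega), mul_zero]

theorem lam_sub_line_eq_sum {B : Type*} [CommRing B] [LambdaRing.LambdaOps B] (E l : B)
    (hl : ∀ j, 2 ≤ j → LambdaRing.LambdaOps.lam j l = 0) (k : ℕ) :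
    LambdaRing.LambdaOps.lam k (E - l) =
      ∑ j ∈ range (k + 1), (-1 : B) ^ j * LambdaRing.LambdaOps.lam (k - j) E * l ^ j := by
  induction k with
  | zero => simp [LambdaRing.LambdaOps.lam_zero]
  | succ k ih =>
    have h := lam_succ_sub_line E l hl k
    rw [Finset.sum_range_succ', ← sub_eq_iff_eq_add.mpr h, ih, Finset.sum_mul]
    simp only [pow_zero, one_mul, mul_one, Nat.sub_zero, Nat.add_sub_add_right]
    rw [sub_eq_add_neg, add_comm, ← Finset.sum_neg_distrib]
    congr 1
    refine Finset.sum_congr rfl fun j _ => ?_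
    ring

/-- `f(λ^k(e - ℓ)) = δ_{k,0}` for a functional with `f(ℓ^i) = σ^i(e)` for all `i`. -/
theorem functional_lam_sub_root (e : K)
    [inst : LambdaRing.LambdaOps (AdjoinRoot (KRR.extPoly P e))]
    (hext : ∀ (i : ℕ) (x : K), LambdaRing.LambdaOps.lam i (AdjoinRoot.of (KRR.extPoly P e) x) =
      AdjoinRoot.of (KRR.extPoly P e) (LambdaRing.LambdaOps.lam i x))
    (hroot : ∀ i : ℕ, 2 ≤ i → LambdaRing.LambdaOps.lam i (AdjoinRoot.root (KRR.extPoly P e)) = 0)
    (f : AdjoinRoot (KRR.extPoly P e) →ₗ[K] K)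
    (hf : ∀ i : ℕ, f (AdjoinRoot.root (KRR.extPoly P e) ^ i) = KRR.sigma i e) (k : ℕ) :
    f (LambdaRing.LambdaOps.lam k (AdjoinRoot.of (KRR.extPoly P e) e - AdjoinRoot.root (KRR.extPoly P e))) =
      if k = 0 then 1 else 0 := by
  rw [lam_sub_line_eq_sum _ _ hroot k, map_sum]
  have h1 : ∀ j ∈ range (k + 1), f ((-1 : AdjoinRoot (KRR.extPoly P e)) ^ j *
      LambdaRing.LambdaOps.lam (k - j) (AdjoinRoot.of (KRR.extPoly P e) e) *
      AdjoinRoot.root (KRR.extPoly P e) ^ j) =
      (-1 : K) ^ j * LambdaRing.LambdaOps.lam (k - j) e * KRR.sigma j e := by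
    intro j _
    have hneg : (-1 : AdjoinRoot (KRR.extPoly P e)) = AdjoinRoot.of (KRR.extPoly P e) (-1) := by
      rw [map_neg, map_one]
    rw [hext, hneg, ← map_pow, ← map_mul, smul_eq_of_mul, map_smul, hf, smul_eq_mul]
  rw [Finset.sum_congr rfl h1]
  rcases Nat.eq_zero_or_pos k with rfl | hk
  · simp [LambdaRing.LambdaOps.lam_zero, sigma_zero]
  · rw [if_neg (by omega)]
    have h2 := sigma_conv e k hk
    rw [← Finset.sum_range_reflect] at h2
    have h3 : ∑ j ∈ range (k + 1), (-1 : K) ^ j * LambdaRing.LambdaOps.lam (k - j) e * KRR.sigma j e =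
        (-1 : K) ^ k * ∑ j ∈ range (k + 1), c e (k + 1 - 1 - j) * KRR.sigma (k - (k + 1 - 1 - j)) e := by
      rw [Finset.mul_sum]
      refine Finset.sum_congr rfl fun j hj => ?_
      simp only [Finset.mem_range] at hj
      have e1 : k + 1 - 1 - j = k - j := by omega
      have e2 : k - (k - j) = j := by omega
      rw [e1, e2, c, ← mul_assoc, ← mul_assoc, ← pow_add]
      congr 2
      have e3 : k + (k - j) = j + 2 * (k - j) := by omega
      rw [e3, pow_add, pow_mul]
      simp
    rw [h3, h2, mul_zero]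

end Groth.Agent.Lib.Helper41.ElemExt
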