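import Groth.Agent.Lib.Helper41.EtGlueTorsion
import Mathlib

/-!
# Glueable modules for `QuotPowBijective` pairs

* `exists_smul_eq_of_tmul_eq`: if `1 ⊗ m ∈ f^N (R' ⊗ M)` then `m ∈ f^N M`.
* `isGlueable_of_torsion`: injective + surjective on `f`-power torsion ⟹ glueable.
* `torsion_of_isGlueable`: the converse.
* `torsion_surjective_of_isGlueingPair`: for a glueing pair, every `f`-power torsion element of
  `R' ⊗ M` is `1 ⊗ m` with `m` `f`-power torsion.
-/

namespace Groth.Agent.Lib.Helper41.EtGlueModule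

open TensorProduct Groth.Agent.Lib.Helper41.EtGlueTorsion

universe u

variable {R R' : Type u} [CommRing R] [CommRing R'] [Algebra R R'] {f : R}
variable {M : Type u} [AddCommGroup M] [Module R M]

/-- If `1 ⊗ m` is divisible by `f ^ N` in `R' ⊗ M` then `m` is divisible by `f ^ N` in `M`. -/
theorem exists_smul_eq_of_tmul_eq (hq : EtGlue.QuotPowBijective R R' f) (N : ℕ) (m : M)
    (t : R' ⊗[R] M) (h : (1 : R') ⊗ₜ[R] m = f ^ N • t) : ∃ s : M, f ^ N • s = m := by
  let P : Submodule R M := LinearMap.range (LinearMap.lsmul R M (f ^ N))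
  have htors : ∀ q : M ⧸ P, f ^ N • q = 0 := by
    intro q
    obtain ⟨x, rfl⟩ := Submodule.Quotient.mk_surjective P q
    rw [← Submodule.Quotient.mk_smul, Submodule.Quotient.mk_eq_zero]
    exact ⟨x, rfl⟩
  have hbij := bijective_mk_of_fPowTorsion (R' := R') hq (M := M ⧸ P) (fun q => ⟨N, htors q⟩)
  have hkill : ∀ z : R' ⊗[R] (M ⧸ P), f ^ N • z = 0 := by
    intro z
    obtain ⟨q, rfl⟩ := hbij.2 z
    rw [TensorProduct.mk_apply, ← TensorProduct.tmul_smul, htors, TensorProduct.tmul_zero]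
  have h1 : (1 : R') ⊗ₜ[R] (P.mkQ m) = 0 := by
    have : (P.mkQ.lTensor R') ((1 : R') ⊗ₜ[R] m) = (1 : R') ⊗ₜ[R] (P.mkQ m) := rfl
    rw [← this, h, map_smul, hkill]
  have h2 : P.mkQ m = 0 := by
    apply hbij.1
    rw [TensorProduct.mk_apply, h1, map_zero]
  rw [Submodule.mkQ_apply, Submodule.Quotient.mk_eq_zero] at h2
  obtain ⟨s, hs⟩ := h2
  exact ⟨s, hs⟩

theorem mk_eq_zero_iff (m : M) :
    LocalizedModule.mkLinearMap (Submonoid.powers f) M m = 0 ↔ ∃ n : ℕ, f ^ n • m = 0 := by
  rw [IsLocalizedModule.eq_zero_iff (Submonoid.powers f)]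
  constructor
  · rintro ⟨⟨_, n, rfl⟩, h⟩
    exact ⟨n, h⟩
  · rintro ⟨n, h⟩
    exact ⟨⟨f ^ n, n, rfl⟩, h⟩

theorem tensorOfLoc_mk (m : M) :
    EtGlue.tensorOfLoc R R' f M (LocalizedModule.mkLinearMap (Submonoid.powers f) M m) =
      EtGlue.locOfTensor R R' f M ((1 : R') ⊗ₜ[R] m) := by
  unfold EtGlue.tensorOfLoc EtGlue.locOfTensor
  rw [IsLocalizedModule.map_apply]
  rfl

theorem torsion_of_isGlueable (hM : EtGlue.IsGlueable R R' f M) :
    (∀ m : M, (∃ n : ℕ, f ^ n • m = 0) → (1 : R') ⊗ₜ[R] m = 0 → m = 0) ∧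
    (∀ x : R' ⊗[R] M, (∃ n : ℕ, f ^ n • x = 0) →
      ∃ m : M, (∃ n : ℕ, f ^ n • m = 0) ∧ (1 : R') ⊗ₜ[R] m = x) := by
  obtain ⟨hinj, hmid⟩ := hM
  refine ⟨fun m hm h0 => ?_, fun x hx => ?_⟩
  · apply hinj
    simp only [Prod.mk.injEq, TensorProduct.tmul_zero, map_zero]
    exact ⟨h0, (mk_eq_zero_iff m).mpr hm⟩
  · have hx0 : EtGlue.locOfTensor R R' f M x = 0 := (mk_eq_zero_iff x).mpr hx
    obtain ⟨m, hm1, hm2⟩ := hmid x 0 (by rw [hx0, map_zero])
    exact ⟨m, (mk_eq_zero_iff m).mp hm2, hm1⟩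

theorem isGlueable_of_torsion (hq : EtGlue.QuotPowBijective R R' f)
    (ha : ∀ m : M, (∃ n : ℕ, f ^ n • m = 0) → (1 : R') ⊗ₜ[R] m = 0 → m = 0)
    (hb : ∀ x : R' ⊗[R] M, (∃ n : ℕ, f ^ n • x = 0) →
      ∃ m : M, (∃ n : ℕ, f ^ n • m = 0) ∧ (1 : R') ⊗ₜ[R] m = x) :
    EtGlue.IsGlueable R R' f M := by
  refine ⟨?_, ?_⟩
  · intro m m₂ h
    simp only [Prod.mk.injEq] at h
    have h1 : (1 : R') ⊗ₜ[R] (m - m₂) = 0 := by rw [TensorProduct.tmul_sub, h.1, sub_self]
    have h2 : LocalizedModule.mkLinearMap (Submonoid.powers f) M (m - m₂) = 0 := by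
      rw [map_sub, h.2, sub_self]
    exact sub_eq_zero.mp (ha _ ((mk_eq_zero_iff _).mp h2) h1)
  · intro x y hxy
    obtain ⟨n, m, hy⟩ := IsLocalizedModule.Away.surj
      (LocalizedModule.mkLinearMap (Submonoid.powers f) M) f y
    have h1 : EtGlue.locOfTensor R R' f M (f ^ n • x - (1 : R') ⊗ₜ[R] m) = 0 := by
      rw [map_sub, map_smul, hxy, ← map_smul, hy, tensorOfLoc_mk, sub_self]
    obtain ⟨k, hk⟩ := (mk_eq_zero_iff _).mp h1
    rw [smul_sub, sub_eq_zero] at hk
    have h2 : (1 : R') ⊗ₜ[R] (f ^ k • m) = f ^ (k + n) • x := by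
      rw [TensorProduct.tmul_smul, ← hk, pow_add, mul_smul]
    obtain ⟨s, hs⟩ := exists_smul_eq_of_tmul_eq hq (k + n) _ x h2
    have hys : y = LocalizedModule.mkLinearMap (Submonoid.powers f) M s := by
      apply IsLocalizedModule.smul_injective (LocalizedModule.mkLinearMap (Submonoid.powers f) M)
        (⟨f ^ (k + n), k + n, rfl⟩ : Submonoid.powers f)
      change f ^ (k + n) • y = f ^ (k + n) • _
      rw [← map_smul, hs, pow_add, mul_smul, hy, map_smul]
    have htor : ∃ j : ℕ, f ^ j • (x - (1 : R') ⊗ₜ[R] s) = 0 := by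
      refine ⟨k + n, ?_⟩
      rw [smul_sub, ← TensorProduct.tmul_smul, hs, h2, sub_self]
    obtain ⟨t, ht1, ht2⟩ := hb _ htor
    refine ⟨s + t, ?_, ?_⟩
    · rw [TensorProduct.tmul_add, ht2]; abel
    · rw [map_add, (mk_eq_zero_iff t).mpr ht1, add_zero, hys]

/-- For a glueing pair, every `f`-power torsion element of `R' ⊗ M` comes from an `f`-power
torsion element of `M` (tensor the exact sequence `R → R' × R_f → R'_f → 0` with `M`). -/
theorem torsion_surjective_of_isGlueingPair (hRR : EtGlue.IsGlueingPair R R' f)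
    (x : R' ⊗[R] M) (hx : ∃ n : ℕ, f ^ n • x = 0) :
    ∃ m : M, (∃ n : ℕ, f ^ n • m = 0) ∧ (1 : R') ⊗ₜ[R] m = x := by
  classical
  obtain ⟨-, -, hmid, hright⟩ := hRR
  have hα : ∀ r : R, Localization.awayMap (algebraMap R R') f
      (algebraMap R (Localization.Away f) r) =
      algebraMap R' (Localization.Away (algebraMap R R' f)) (algebraMap R R' r) := by
    intro r
    simp only [Localization.awayMap, IsLocalization.Away.map, IsLocalization.map_eq]
  -- the linear maps
  let ι' : R' →ₗ[R] Localization.Away (algebraMap R R' f) :=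
    (IsScalarTower.toAlgHom R R' (Localization.Away (algebraMap R R' f))).toLinearMap
  let α : Localization.Away f →ₗ[R] Localization.Away (algebraMap R R' f) :=
    { toFun := Localization.awayMap (algebraMap R R') f
      map_add' := map_add _
      map_smul' := by
        intro r y
        rw [Algebra.smul_def, map_mul, hα, RingHom.id_apply, Algebra.smul_def,
          ← IsScalarTower.algebraMap_apply] }
  let g₁ : R →ₗ[R] R' × Localization.Away f :=
    (Algebra.linearMap R R').prod (Algebra.linearMap R (Localization.Away f))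
  let g₂ : R' × Localization.Away f →ₗ[R] Localization.Away (algebraMap R R' f) :=
    ι' ∘ₗ LinearMap.fst R R' (Localization.Away f) - α ∘ₗ LinearMap.snd R R' (Localization.Away f)
  have hex : Function.Exact g₁ g₂ := by
    intro e
    constructor
    · intro he
      obtain ⟨r, hr1, hr2⟩ := hmid e.1 e.2 (sub_eq_zero.mp he)
      exact ⟨r, Prod.ext hr1 hr2⟩
    · rintro ⟨r, rfl⟩
      change algebraMap R' _ (algebraMap R R' r) - Localization.awayMap (algebraMap R R') f
        (algebraMap R (Localization.Away f) r) = 0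
      rw [hα, sub_self]
  have hsurj : Function.Surjective g₂ := by
    intro z
    obtain ⟨a, b, hab⟩ := hright z
    exact ⟨(a, b), hab⟩
  have hexM := rTensor_exact M hex hsurj
  -- the element `(x, 0)`
  let e : (R' × Localization.Away f) ⊗[R] M :=
    (LinearMap.inl R R' (Localization.Away f)).rTensor M x
  have he0 : g₂.rTensor M e = 0 := by
    obtain ⟨n, hn⟩ := hx
    have h1 : g₂.rTensor M e = ι'.rTensor M x := by
      change g₂.rTensor M ((LinearMap.inl R R' (Localization.Away f)).rTensor M x) = _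
      rw [← LinearMap.comp_apply, ← LinearMap.rTensor_comp]
      congr 2
      ext r
      simp [g₂]
    have h2 : f ^ n • (ι'.rTensor M x) = 0 := by rw [← map_smul, hn, map_zero]
    have hu : IsUnit (algebraMap R (Localization.Away (algebraMap R R' f)) (f ^ n)) := by
      rw [IsScalarTower.algebraMap_apply R R' (Localization.Away (algebraMap R R' f)), map_pow,
        map_pow]
      exact (IsLocalization.Away.algebraMap_isUnit (algebraMap R R' f)).pow n
    rw [h1]
    rw [← IsScalarTower.algebraMap_smul (Localization.Away (algebraMap R R' f)) (f ^ n)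
      (ι'.rTensor M x)] at h2
    obtain ⟨u, hu'⟩ := hu
    rw [← hu'] at h2
    have := congrArg (fun z => (↑u⁻¹ : Localization.Away (algebraMap R R' f)) • z) h2
    simpa [smul_smul] using this
  obtain ⟨w, hw⟩ := (hexM e).mp he0
  obtain ⟨m, rfl⟩ : ∃ m : M, (1 : R) ⊗ₜ[R] m = w :=
    ⟨TensorProduct.lid R M w, by
      rw [← TensorProduct.lid_symm_apply, LinearEquiv.symm_apply_apply]⟩
  have hw' : ((1 : R'), (1 : Localization.Away f)) ⊗ₜ[R] m = e := by
    rw [← hw, LinearMap.rTensor_tmul]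
    congr 1
    simp [g₁]
  refine ⟨m, ?_, ?_⟩
  · -- second projection
    have h2 : (LinearMap.snd R R' (Localization.Away f)).rTensor M e = 0 := by
      change (LinearMap.snd R R' (Localization.Away f)).rTensor M
        ((LinearMap.inl R R' (Localization.Away f)).rTensor M x) = 0
      rw [← LinearMap.comp_apply, ← LinearMap.rTensor_comp, LinearMap.snd_comp_inl,
        LinearMap.rTensor_zero, LinearMap.zero_apply]
    rw [← hw', LinearMap.rTensor_tmul, LinearMap.snd_apply] at h2
    have h3 := congrArg (LocalizedModule.isBaseChange (Submonoid.powers f) M).equiv h2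
    rw [IsBaseChange.equiv_tmul, one_smul, map_zero] at h3
    exact (mk_eq_zero_iff m).mp h3
  · have h1 : (LinearMap.fst R R' (Localization.Away f)).rTensor M e = x := by
      change (LinearMap.fst R R' (Localization.Away f)).rTensor M
        ((LinearMap.inl R R' (Localization.Away f)).rTensor M x) = x
      rw [← LinearMap.comp_apply, ← LinearMap.rTensor_comp, LinearMap.fst_comp_inl,
        LinearMap.rTensor_id, LinearMap.id_apply]
    rw [← hw', LinearMap.rTensor_tmul, LinearMap.fst_apply] at h1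
    exact h1

end Groth.Agent.Lib.Helper41.EtGlueModule
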