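import Groth.Prelude.Def_EtGlue
import Groth.Agent.Lib.Helper9.TorsionTensor
import Mathlib

/-!
# `QuotPowBijective` pairs and `f`-power torsion modules

For `R → R'` with `R/f^n ≅ R'/f^n` for all `n > 0`:
* `exists_sub_mem` / `mem_span_of_map_mem`: element forms of surjectivity / injectivity;
* `bijective_mk_of_fPowTorsion`: `M → R' ⊗ M` bijective for `f`-power torsion `M`
  (from helper9's `bijective_mk_of_torsion`);
* `subsingleton_of_fPowTorsion`: `f`-power torsion `M` with `R' ⊗ M = 0` is `0`.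
-/

namespace Groth.Agent.Lib.Helper41.EtGlueTorsion

open TensorProduct

universe u

variable {R R' : Type u} [CommRing R] [CommRing R'] [Algebra R R'] {f : R}

theorem exists_sub_mem (hq : EtGlue.QuotPowBijective R R' f) (n : ℕ) (s : R') :
    ∃ r : R, s - algebraMap R R' r ∈ (Ideal.span {f ^ n}).map (algebraMap R R') := by
  rcases Nat.eq_zero_or_pos n with rfl | hn
  · refine ⟨0, ?_⟩
    have : (Ideal.span {f ^ 0} : Ideal R) = ⊤ := by simp
    rw [this, Ideal.map_top]; trivial
  · obtain ⟨x, hx⟩ := (hq n hn).2 (Ideal.Quotient.mk _ s)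
    obtain ⟨r, rfl⟩ := Ideal.Quotient.mk_surjective x
    refine ⟨r, ?_⟩
    rw [Ideal.quotientMap_mk] at hx
    have := (Ideal.Quotient.eq.mp hx)
    rw [← Ideal.neg_mem_iff]
    simpa using this

theorem mem_span_of_map_mem (hq : EtGlue.QuotPowBijective R R' f) (n : ℕ) (r : R)
    (h : algebraMap R R' r ∈ (Ideal.span {f ^ n}).map (algebraMap R R')) :
    r ∈ Ideal.span {f ^ n} := by
  rcases Nat.eq_zero_or_pos n with rfl | hn
  · simp
  · have hinj := (hq n hn).1
    have h1 : Ideal.quotientMap ((Ideal.span {f ^ n}).map (algebraMap R R')) (algebraMap R R')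
        Ideal.le_comap_map (Ideal.Quotient.mk _ r) = 0 := by
      rw [Ideal.quotientMap_mk]
      exact Ideal.Quotient.eq_zero_iff_mem.mpr h
    have h2 := hinj (h1.trans (map_zero _).symm)
    exact Ideal.Quotient.eq_zero_iff_mem.mp h2

theorem antitone_span_pow (f : R) : Antitone fun n : ℕ => (Ideal.span {f ^ n} : Ideal R) := by
  intro n m hnm
  rw [Ideal.span_singleton_le_span_singleton]
  exact pow_dvd_pow f hnm

variable {M : Type u} [AddCommGroup M] [Module R M]

theorem bijective_mk_of_fPowTorsion (hq : EtGlue.QuotPowBijective R R' f)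
    (hM : ∀ m : M, ∃ n : ℕ, f ^ n • m = 0) :
    Function.Bijective (TensorProduct.mk R R' M 1) := by
  refine Groth.Agent.Lib.Helper9.bijective_mk_of_torsion (fun n : ℕ => (Ideal.span {f ^ n} : Ideal R))
    (antitone_span_pow f) (exists_sub_mem hq) (mem_span_of_map_mem hq) ?_
  intro m
  obtain ⟨n, hn⟩ := hM m
  refine ⟨n, fun a ha => ?_⟩
  obtain ⟨c, rfl⟩ := Ideal.mem_span_singleton'.mp ha
  rw [mul_smul, hn, smul_zero]

theorem subsingleton_of_fPowTorsion (hq : EtGlue.QuotPowBijective R R' f)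
    (hM : ∀ m : M, ∃ n : ℕ, f ^ n • m = 0) (h0 : Subsingleton (R' ⊗[R] M)) :
    Subsingleton M :=
  (bijective_mk_of_fPowTorsion hq hM).1.subsingleton

end Groth.Agent.Lib.Helper41.EtGlueTorsion
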