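import Mathlib
import Groth.Prelude.Def_Red
import Groth.Agent.S3015
import Groth.Agent.Lib.Helper26.MaxOpenSubgroup

/-!
# Products of fibrewise dense opens of a group scheme (helper41)

* `dense_fibre_of_maximal_points` : an open containing the maximal points of a fibre is dense in the fibre.
* `exists_mul_eq_of_fibrewise_dense` : `G` an `S`-group scheme, `W` an open of `G` containing all maximal
  points of all fibres; then `W · W = G` (pointwise on `G ⊗ G`), from milestone S3015 on the fibres.
* `mulHom_left_P` : `(a ⊗ₘ b) ≫ μ[G]` inherits properties stable under base change and composition.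
-/

set_option autoImplicit false
universe u
open CategoryTheory CategoryTheory.Limits MonoidalCategory CartesianMonoidalCategory MonObj GrpObj
  AlgebraicGeometry

namespace Groth.Agent.Lib.Helper41.FibreDenseMul

open Groth.Agent.Lib.Helper26.MaxOpenSubgroup Groth.Agent.Lib.Helper26.GrpQuotGen

section Top

theorem dense_fibre_of_maximal_points {X Y : Scheme.{u}} (f : X ⟶ Y) (y : Y) (W : X.Opens)
    (hW : ∀ g : ↥(f.base ⁻¹' {y}), closure {g} ∈ irreducibleComponents ↥(f.base ⁻¹' {y}) →
      g.1 ∈ W) :
    Dense (((f.fiberι y) ⁻¹ᵁ W : (f.fiber y).Opens) : Set (f.fiber y)) := by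
  let h := f.fiberHomeo y
  have hqs : QuasiSober ↥(f.base ⁻¹' {y}) :=
    h.symm.isClosedEmbedding.quasiSober
  -- density in the topological fibre
  have hd : Dense {g : ↥(f.base ⁻¹' {y}) | g.1 ∈ W} := by
    rw [dense_iff_inter_open]
    rintro O hO ⟨z, hz⟩
    let Z := irreducibleComponent z
    have hZirr : IsIrreducible Z := isIrreducible_irreducibleComponent
    have hZcl : IsClosed Z := isClosed_irreducibleComponent
    have hgen := hZirr.isGenericPoint_genericPoint_closure
    rw [hZcl.closure_eq] at hgen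
    set ξ := hZirr.genericPoint with hξ
    have hcl : closure {ξ} = Z := hgen
    have hξW : ξ.1 ∈ W := hW ξ (by rw [hcl]; exact irreducibleComponent_mem_irreducibleComponents z)
    have hzcl : z ∈ closure {ξ} := by rw [hcl]; exact mem_irreducibleComponent
    obtain ⟨w, hwO, hw⟩ := mem_closure_iff.mp hzcl O hO hz
    rw [Set.mem_singleton_iff] at hw
    subst hw
    exact ⟨_, hwO, hξW⟩
  have := hd.preimage h.isOpenMap
  exact this

end Top

section Transfer

variable {S S' : Scheme.{u}} (φ : S' ⟶ S) (G : Over S)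

/-- The canonical morphism `G_{S'} ×_{S'} G_{S'} ⟶ G ×_S G`. -/
noncomputable def rho : (Red.bc φ G ⊗ Red.bc φ G).left ⟶ (G ⊗ G).left :=
  (Functor.LaxMonoidal.μ (Over.pullback φ) G G).left ≫ pullback.fst (G ⊗ G).hom φ

lemma rho_fst : rho φ G ≫ (fst G G).left =
    (fst (Red.bc φ G) (Red.bc φ G)).left ≫ pullback.fst G.hom φ := by
  rw [rho, Category.assoc]
  exact Over.μ_pullback_left_fst_fst G G

lemma rho_snd : rho φ G ≫ (snd G G).left =
    (snd (Red.bc φ G) (Red.bc φ G)).left ≫ pullback.fst G.hom φ := by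
  rw [rho, Category.assoc]
  exact Over.μ_pullback_left_fst_snd G G

lemma rho_mul [GrpObj G] : rho φ G ≫ μ[G].left = μ[Red.bc φ G].left ≫ pullback.fst G.hom φ := by
  have h1 : μ[Red.bc φ G] =
      Functor.LaxMonoidal.μ (Over.pullback φ) G G ≫ (Over.pullback φ).map μ[G] :=
    rfl
  have h2 : ((Over.pullback φ).map μ[G]).left ≫ pullback.fst G.hom φ =
      pullback.fst (G ⊗ G).hom φ ≫ μ[G].left := by
    dsimp only [Over.pullback]; exact pullback.lift_fst _ _ _
  rw [h1, Over.comp_left, Category.assoc, h2, rho, Category.assoc]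

end Transfer

section Main

variable {S : Scheme.{u}} (G : Over S) [GrpObj G]

/-- If the open `W` of the `S`-group `G` contains all maximal points of all fibres, then `W · W = G`. -/
theorem exists_mul_eq_of_fibrewise_dense (W : G.left.Opens)
    (hW : ∀ (s : S) (g : ↥(G.hom.base ⁻¹' {s})),
      closure {g} ∈ irreducibleComponents ↥(G.hom.base ⁻¹' {s}) → g.1 ∈ W)
    (g : G.left) :
    ∃ z : ↥(G ⊗ G).left, (fst G G).left z ∈ W ∧ (snd G G).left z ∈ W ∧ μ[G].left z = g := by
  let s : S := G.hom g
  let φ : Spec (S.residueField s) ⟶ S := S.fromSpecResidueField s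
  let Gs : Over (Spec (S.residueField s)) := Red.bc φ G
  let Ws : Gs.left.Opens := (pullback.fst G.hom φ) ⁻¹ᵁ W
  have hd : Dense (Ws : Set Gs.left) := dense_fibre_of_maximal_points G.hom s W (hW s)
  let gs : Gs.left := G.hom.asFiber g
  have hgs : (pullback.fst G.hom φ) gs = g := G.hom.fiberι_asFiber g
  have hart : IsArtinianRing ↑(S.residueField s) :=
    inferInstanceAs (IsArtinianRing (IsLocalRing.ResidueField (S.presheaf.stalk s)))
  obtain ⟨z, hz1, hz2, hz3⟩ :=
    @Groth.Agent.S3015.result (S.residueField s) _ hart _ Gs _ Ws Ws hd hd gs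
  refine ⟨rho φ G z, ?_, ?_, ?_⟩
  · have := congrArg (fun (q : (Gs ⊗ Gs).left ⟶ G.left) => q z) (rho_fst φ G)
    simp only [Scheme.Hom.comp_apply] at this
    rw [this]
    exact hz1
  · have := congrArg (fun (q : (Gs ⊗ Gs).left ⟶ G.left) => q z) (rho_snd φ G)
    simp only [Scheme.Hom.comp_apply] at this
    rw [this]
    exact hz2
  · have := congrArg (fun (q : (Gs ⊗ Gs).left ⟶ G.left) => q z) (rho_mul φ G)
    simp only [Scheme.Hom.comp_apply] at this
    rw [this]
    have hz3' : μ[Gs].left z = gs := hz3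
    rw [hz3']
    exact hgs

end Main

section P

variable {S : Scheme.{u}} (P : MorphismProperty Scheme.{u}) [P.IsStableUnderBaseChange]

lemma fst_left_P (G T : Over S) (hT : P T.hom) : P (fst G T).left :=
  MorphismProperty.of_isPullback (P := P) (IsPullback.of_hasPullback G.hom T.hom).flip hT

lemma whiskerRight_left_P {X Y : Over S} (f : X ⟶ Y) (T : Over S) (hf : P f.left) :
    P (f ▷ T).left :=
  MorphismProperty.of_isPullback (P := P)
    ((isPullback_whiskerRight T f).map (Over.forget S)).flip hf

lemma whiskerLeft_left_P {X Y : Over S} (f : X ⟶ Y) (T : Over S) (hf : P f.left) :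
    P (T ◁ f).left :=
  MorphismProperty.of_isPullback (P := P)
    ((isPullback_whiskerLeft T f).map (Over.forget S)).flip hf

variable [P.IsStableUnderComposition]

lemma mul_left_P (G : Over S) [GrpObj G] (hG : P G.hom) : P μ[G].left := by
  have h1 : μ[G] = (shear (𝟙 G)).hom ≫ fst G G := by
    rw [shear_hom, lift_fst, Category.comp_id, Hom.mul_def, lift_fst_snd, Category.id_comp]
  have hsi : IsIso (shear (𝟙 G)).hom.left :=
    inferInstanceAs (IsIso ((Over.forget _).map (shear (𝟙 G)).hom))
  rw [h1, Over.comp_left, P.cancel_left_of_respectsIso]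
  exact fst_left_P P G G hG

lemma mulHom_left_P {G A B : Over S} [GrpObj G] (a : A ⟶ G) (b : B ⟶ G) (hG : P G.hom)
    (ha : P a.left) (hb : P b.left) : P ((a ⊗ₘ b) ≫ μ[G]).left := by
  rw [MonoidalCategory.tensorHom_def, Over.comp_left, Over.comp_left]
  exact P.comp_mem _ _ (P.comp_mem _ _ (whiskerRight_left_P P a B ha) (whiskerLeft_left_P P b G hb))
    (mul_left_P P G hG)

end P

end Groth.Agent.Lib.Helper41.FibreDenseMul
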