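import Groth.Agent.Lib.Helper41.QuotientTower
import Groth.Agent.Lib.Helper41.PointsPullback2

/-!
# Equivariant morphisms to an orbit are trivialised by the orbit map (helper41)

For actions `a'`, `a` of `G` on `X'`, `X`, an equivariant `f : X' ⟶ X`, a rational point `o` of `X`
and the fibre `j : F ⟶ X'` of `f` over `o`:
* `isPullback_fibre` : the square `G ⊗ F ⟶ X'`, `(g, z) ↦ g • j z`, over the orbit map `G ⟶ X` of `o`
  is cartesian: `X' ×_X G ≅ G ⊗ F`.
-/

set_option autoImplicit false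
universe u
open CategoryTheory CategoryTheory.Limits MonoidalCategory CartesianMonoidalCategory MonObj
  AlgebraicGeometry

namespace Groth.Agent.Lib.Helper41.FibreTriv

open Groth.Agent.Lib.Helper41.ActionPoints Groth.Agent.Lib.Helper93.ActionOpen
  Groth.Agent.Lib.Helper41.QuotientPoints

section General

variable {S : Scheme.{u}} {G X X' F : Over S} [GrpObj G]

theorem equivariant_pt {a' : AlgGrp.Action G X'} {a : AlgGrp.Action G X} {f : X' ⟶ X}
    (hf : a'.act ≫ f = (G ◁ f) ≫ a.act) {T : Over S} (g : T ⟶ G) (y : T ⟶ X') :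
    (lift g y ≫ a'.act) ≫ f = lift g (y ≫ f) ≫ a.act := by
  rw [Category.assoc, hf, lift_whiskerLeft_assoc]

theorem mono_of_isPullback_pt (f : X' ⟶ X) (o : 𝟙_ (Over S) ⟶ X) (j : F ⟶ X')
    (hF : IsPullback j (toUnit F) f o) : Mono j := by
  have hsplit : o ≫ toUnit X = 𝟙 _ := toUnit_unique _ _
  have hmono : Mono o := (SplitMono.mk (toUnit X) hsplit).mono
  exact hF.mono_fst_of_mono

/-- `X' ×_X G ≅ G ⊗ F` for an equivariant `f : X' ⟶ X` with fibre `F` over `o`. -/
theorem isPullback_fibre (a' : AlgGrp.Action G X') (a : AlgGrp.Action G X) (f : X' ⟶ X)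
    (hf : a'.act ≫ f = (G ◁ f) ≫ a.act) (o : 𝟙_ (Over S) ⟶ X)
    (j : F ⟶ X') (hF : IsPullback j (toUnit F) f o) :
    IsPullback ((G ◁ j) ≫ a'.act) (fst G F) f (a.orbitMap o) := by
  have hjf : j ≫ f = toUnit F ≫ o := hF.w
  have hmono : Mono j := mono_of_isPullback_pt f o j hF
  apply Groth.Agent.Lib.Helper41.PointsPullback2.isPullback_of_existsUnique
  · rw [Category.assoc, hf, ← Category.assoc, ← MonoidalCategory.whiskerLeft_comp, hjf, orbit_pt]
    congr 1
    apply CartesianMonoidalCategory.hom_ext <;> simp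
  · intro T y g hyg
    have h1 : (lift g⁻¹ y ≫ a'.act) ≫ f = toUnit T ≫ o := by
      rw [equivariant_pt hf, hyg, orbit_pt, act_inv_act]
    obtain ⟨z, hz1, -⟩ := hF.exists_lift (lift g⁻¹ y ≫ a'.act) (toUnit T) h1
    refine ⟨lift g z, ⟨?_, lift_fst _ _⟩, ?_⟩
    · rw [lift_whiskerLeft_assoc, hz1, act_act_inv]
    · rintro t ⟨ht1, ht2⟩
      have et : t = lift g (t ≫ snd G F) := by
        apply CartesianMonoidalCategory.hom_ext
        · rw [ht2, lift_fst]
        · rw [lift_snd]
      apply CartesianMonoidalCategory.hom_ext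
      · rw [ht2, lift_fst]
      · rw [lift_snd, ← cancel_mono j, hz1, ← ht1]
        conv_rhs => rw [et, lift_whiskerLeft_assoc]
        rw [act_inv_act]

end General

end Groth.Agent.Lib.Helper41.FibreTriv
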