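import Mathlib
import Groth.Agent.Lib.Helper41.PointsPullback2

/-!
# A finite group scheme over a field is the product of its reduced subgroup and its neutral
component, when the former exists (helper41)

* `eq_of_reduced_subsingleton` : a reduced one-point `k`-scheme with a rational point is terminal.
* `subsingleton_of_connected_of_finite` : a connected open subscheme of a finite `k`-scheme is a
  point.
* `isIso_mul_of_finite` : for a finite `k`-group scheme `G` with a reduced closed subgroup
  `r : Gr ⟶ G` surjective on points and a connected open subgroup `i₀ : G₀ ⟶ G`, the multiplication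
  `Gr × G₀ ⟶ G` is an isomorphism.
-/

set_option autoImplicit false
universe u
open CategoryTheory Limits AlgebraicGeometry MonoidalCategory CartesianMonoidalCategory MonObj

namespace Groth.Agent.Lib.Helper41.FiniteGroupSplit

variable {k : Type u} [Field k]

theorem eq_of_reduced_subsingleton (P : Over (Spec (CommRingCat.of k)))
    (e : 𝟙_ (Over (Spec (CommRingCat.of k))) ⟶ P) [IsReduced P.left] [Subsingleton P.left]
    {T : Over (Spec (CommRingCat.of k))} (a b : T ⟶ P) : a = b := by
  have hsub : Subsingleton (Spec (CommRingCat.of k)) :=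
    inferInstanceAs (Subsingleton (PrimeSpectrum k))
  have hci : IsClosedImmersion e.left := isClosedImmersion_of_comp_eq_id P.hom e.left (Over.w e)
  have hne : Nonempty (Spec (CommRingCat.of k)) := inferInstance
  have hsurj : Surjective e.left := ⟨fun y => ⟨hne.some, Subsingleton.elim _ _⟩⟩
  have hiso : IsIso e.left := isIso_of_isClosedImmersion_of_surjective e.left
  have hiso' : IsIso e := by
    have : IsIso ((Over.forget _).map e) := hiso
    exact isIso_of_reflects_iso e (Over.forget _)
  have h1 : a ≫ inv e = b ≫ inv e := toUnit_unique _ _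
  calc a = (a ≫ inv e) ≫ e := by rw [Category.assoc, IsIso.inv_hom_id, Category.comp_id]
    _ = (b ≫ inv e) ≫ e := by rw [h1]
    _ = b := by rw [Category.assoc, IsIso.inv_hom_id, Category.comp_id]

theorem subsingleton_of_connected_of_finite (G G₀ : Over (Spec (CommRingCat.of k)))
    [IsFinite G.hom] (i₀ : G₀ ⟶ G) [IsOpenImmersion i₀.left] [ConnectedSpace G₀.left] :
    Subsingleton G₀.left := by
  have hart : IsLocallyArtinian (Spec (CommRingCat.of k)) :=
    Scheme.isLocallyArtinianScheme_Spec.mpr (inferInstanceAs (IsArtinianRing k))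
  have hartG : IsLocallyArtinian G.left := IsLocallyArtinian.of_locallyQuasiFinite G.hom
  have hdisc : DiscreteTopology G.left := inferInstance
  have hdisc₀ : DiscreteTopology G₀.left :=
    i₀.left.isOpenEmbedding.isEmbedding.discreteTopology
  exact PreconnectedSpace.trivial_of_discrete

variable {G Gr G₀ : Over (Spec (CommRingCat.of k))} [GrpObj G] [GrpObj Gr] [GrpObj G₀]

omit [GrpObj Gr] [GrpObj G₀] in
theorem tensorHom_comp_mul (r : Gr ⟶ G) (i₀ : G₀ ⟶ G) :
    (r ⊗ₘ i₀) ≫ μ[G] = (fst Gr G₀ ≫ r) * (snd Gr G₀ ≫ i₀) := by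
  rw [Hom.mul_def]
  congr 1

theorem isIso_mul_of_finite [IsFinite G.hom]
    (r : Gr ⟶ G) [IsMonHom r] [IsClosedImmersion r.left] [IsReduced Gr.left] [Surjective r.left]
    (i₀ : G₀ ⟶ G) [IsMonHom i₀] [IsOpenImmersion i₀.left] [ConnectedSpace G₀.left] :
    IsIso ((r ⊗ₘ i₀) ≫ μ[G]) := by
  have hsub : Subsingleton (Spec (CommRingCat.of k)) :=
    inferInstanceAs (Subsingleton (PrimeSpectrum k))
  set m : Gr ⊗ G₀ ⟶ G := (r ⊗ₘ i₀) ≫ μ[G] with hmdef
  have hm : m = (fst Gr G₀ ≫ r) * (snd Gr G₀ ≫ i₀) := tensorHom_comp_mul r i₀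
  -- the intersection `Gr ∩ G₀`
  have hw : pullback.snd r.left i₀.left ≫ G₀.hom = pullback.fst r.left i₀.left ≫ Gr.hom := by
    rw [← Over.w i₀, ← Over.w r, ← Category.assoc, ← Category.assoc, pullback.condition]
  let P : Over (Spec (CommRingCat.of k)) := Over.mk (pullback.fst r.left i₀.left ≫ Gr.hom)
  let p₁ : P ⟶ Gr := Over.homMk (pullback.fst r.left i₀.left) rfl
  let p₂ : P ⟶ G₀ := Over.homMk (pullback.snd r.left i₀.left) hw
  have hP1 : IsOpenImmersion (pullback.fst r.left i₀.left) := inferInstance
  have hP2 : IsClosedImmersion (pullback.snd r.left i₀.left) := inferInstance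
  have hPred : IsReduced P.left := isReduced_of_isOpenImmersion (pullback.fst r.left i₀.left)
  have hG₀ : Subsingleton G₀.left := subsingleton_of_connected_of_finite G G₀ i₀
  have hPsub : Subsingleton P.left :=
    (pullback.snd r.left i₀.left).isClosedEmbedding.injective.subsingleton
  have hη : η[Gr] ≫ r = η[G₀] ≫ i₀ := by
    rw [IsMonHom.one_hom, IsMonHom.one_hom]
  let eP : 𝟙_ (Over (Spec (CommRingCat.of k))) ⟶ P :=
    Over.homMk (pullback.lift η[Gr].left η[G₀].left (congrArg CommaMorphism.left hη)) (by
      change pullback.lift _ _ _ ≫ pullback.fst r.left i₀.left ≫ Gr.hom = _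
      rw [pullback.lift_fst_assoc]
      exact Over.w η[Gr])
  have heP1 : eP ≫ p₁ = η[Gr] := by
    ext1
    exact pullback.lift_fst _ _ _
  have heP2 : eP ≫ p₂ = η[G₀] := by
    ext1
    exact pullback.lift_snd _ _ _
  have key : ∀ {T : Over (Spec (CommRingCat.of k))} (c : T ⟶ Gr) (d : T ⟶ G₀),
      c ≫ r = d ≫ i₀ → c = 1 ∧ d = 1 := by
    intro T c d hcd
    let t : T ⟶ P := Over.homMk (pullback.lift c.left d.left (congrArg CommaMorphism.left hcd)) (by
      change pullback.lift _ _ _ ≫ pullback.fst r.left i₀.left ≫ Gr.hom = _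
      rw [pullback.lift_fst_assoc]
      exact Over.w c)
    have ht1 : t ≫ p₁ = c := by
      ext1
      exact pullback.lift_fst _ _ _
    have ht2 : t ≫ p₂ = d := by
      ext1
      exact pullback.lift_snd _ _ _
    have htt : t = toUnit T ≫ eP := eq_of_reduced_subsingleton P eP _ _
    constructor
    · rw [← ht1, htt, Category.assoc, heP1, Hom.one_def]
    · rw [← ht2, htt, Category.assoc, heP2, Hom.one_def]
  -- `m` is a monomorphism
  have hmono : Mono m := by
    constructor
    intro T a b hab
    rw [hm, MonObj.comp_mul, MonObj.comp_mul] at hab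
    simp only [← Category.assoc] at hab
    set a₁ := a ≫ fst Gr G₀
    set a₂ := a ≫ snd Gr G₀
    set b₁ := b ≫ fst Gr G₀
    set b₂ := b ≫ snd Gr G₀
    have h1 : (b₁⁻¹ * a₁) ≫ r = (b₂ * a₂⁻¹) ≫ i₀ := by
      rw [MonObj.mul_comp, MonObj.mul_comp, GrpObj.inv_comp, GrpObj.inv_comp]
      rw [inv_mul_eq_iff_eq_mul, ← _root_.mul_assoc, eq_mul_inv_iff_mul_eq]
      exact hab
    obtain ⟨hc, hd⟩ := key _ _ h1
    have e1 : a₁ = b₁ := by
      have := inv_mul_eq_one.mp hc
      exact this.symm
    have e2 : a₂ = b₂ := by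
      have := mul_inv_eq_one.mp hd
      exact this.symm
    exact CartesianMonoidalCategory.hom_ext _ _ e1 e2
  -- `m` is flat
  let τ : Gr ⊗ G ≅ Gr ⊗ G :=
    { hom := lift (fst Gr G) ((fst Gr G ≫ r) * snd Gr G)
      inv := lift (fst Gr G) ((fst Gr G ≫ r)⁻¹ * snd Gr G)
      hom_inv_id := by
        apply CartesianMonoidalCategory.hom_ext
        · simp
        · simp only [Category.assoc, lift_snd, Category.id_comp, MonObj.comp_mul, GrpObj.comp_inv,
            lift_fst_assoc, lift_snd]
          rw [inv_mul_cancel_left]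
      inv_hom_id := by
        apply CartesianMonoidalCategory.hom_ext
        · simp
        · simp only [Category.assoc, lift_snd, Category.id_comp, MonObj.comp_mul, GrpObj.comp_inv,
            lift_fst_assoc, lift_snd]
          rw [mul_inv_cancel_left] }
  have hΦ : m = ((Gr ◁ i₀) ≫ τ.hom) ≫ snd Gr G := by
    change m = ((Gr ◁ i₀) ≫ lift (fst Gr G) ((fst Gr G ≫ r) * snd Gr G)) ≫ snd Gr G
    rw [Category.assoc, lift_snd, MonObj.comp_mul, whiskerLeft_fst_assoc, whiskerLeft_snd, hm]
  have hflat : Flat m.left := by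
    rw [hΦ, Over.comp_left, Over.comp_left]
    have h1 : IsOpenImmersion (Gr ◁ i₀).left := by
      rw [Over.whiskerLeft_left]
      infer_instance
    have h2' : IsIso τ.hom := ⟨τ.inv, τ.hom_inv_id, τ.inv_hom_id⟩
    have h2 : IsIso τ.hom.left := (Over.forget _).map_isIso τ.hom
    have h3 : Flat (snd Gr G).left := by
      rw [Over.snd_left]
      have : Flat Gr.hom := inferInstance
      infer_instance
    infer_instance
  -- `m` is surjective
  have hsurj : Surjective m.left := by
    have h1 : lift (𝟙 Gr) (toUnit Gr ≫ η[G₀]) ≫ m = r := by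
      rw [hm, MonObj.comp_mul, lift_fst_assoc, lift_snd_assoc, Category.id_comp, Category.assoc,
        IsMonHom.one_hom, ← Hom.one_def, _root_.mul_one]
    constructor
    intro x
    obtain ⟨y, rfl⟩ := (inferInstance : Surjective r.left).surj x
    refine ⟨(lift (𝟙 Gr) (toUnit Gr ≫ η[G₀])).left y, ?_⟩
    rw [← Scheme.Hom.comp_apply, ← Over.comp_left, h1]
  -- quasi-compactness
  have hqc : QuasiCompact m.left := by
    have hGaff : IsAffine G.left := isAffine_of_isAffineHom G.hom
    have hGc : CompactSpace G.left := inferInstance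
    have hGrc : CompactSpace Gr.left := QuasiCompact.compactSpace_of_compactSpace r.left
    have hG₀c : CompactSpace G₀.left := Finite.compactSpace
    have hG₀q : QuasiCompact G₀.hom := inferInstance
    have hq1 : QuasiCompact (pullback.fst Gr.hom G₀.hom) := inferInstance
    have hc : CompactSpace (Gr ⊗ G₀).left :=
      QuasiCompact.compactSpace_of_compactSpace (pullback.fst Gr.hom G₀.hom)
    infer_instance
  have hmonoL : Mono m.left := inferInstance
  have hisoL : IsIso m.left := Flat.isIso_of_surjective_of_mono m.left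
  have : IsIso ((Over.forget _).map m) := hisoL
  exact isIso_of_reflects_iso m (Over.forget _)

end Groth.Agent.Lib.Helper41.FiniteGroupSplit
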