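import Groth.Agent.Lib.Helper41.QuotientPoints
import Groth.Agent.Lib.Helper41.HomFlat
import Mathlib.AlgebraicGeometry.Morphisms.QuasiFinite

/-!
# Quotients by open subgroups are finite (helper41)

* `isFinite_of_finite` : a `k`-scheme locally of finite type with finitely many points is finite over `k`.
* `exists_open_nhds_subset_fibre` : for `X = G/H` with `H ⟶ G` of open image, every closed point `g`
  of `G` has an open neighbourhood contained in the fibre of `π : G ⟶ X` through `g`.
* `finite_of_isOpen_range`, `isFinite_of_isOpen_range` : `G/H` is finite over `k` if the image of `H` is open.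
-/

set_option autoImplicit false
universe u
open CategoryTheory CategoryTheory.Limits MonoidalCategory CartesianMonoidalCategory MonObj
  AlgebraicGeometry

namespace Groth.Agent.Lib.Helper41.FiniteQuotient

open Groth.Agent.Lib.Helper41.ActionPoints Groth.Agent.Lib.Helper93.ActionOpen
  Groth.Agent.Lib.Helper41.QuotientPoints Groth.Agent.Lib.Helper41.Translate
  Groth.Agent.Lib.Helper41.HomFlat

variable {k : Type u} [Field k]

theorem isFinite_of_finite (X : Over (Spec (CommRingCat.of k))) [LocallyOfFiniteType X.hom]
    [Finite X.left] : IsFinite X.hom := by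
  have h1 : LocallyQuasiFinite X.hom :=
    LocallyQuasiFinite.of_finite_preimage_singleton _ (fun x => Set.toFinite _)
  have h2 : CompactSpace X.left := Finite.compactSpace
  have h3 : QuasiCompact X.hom := (quasiCompact_iff_compactSpace X.hom).mpr h2
  have h4 : IsLocallyArtinian (Spec (CommRingCat.of k)) :=
    Scheme.isLocallyArtinianScheme_Spec.mpr (inferInstanceAs (IsArtinianRing k))
  exact IsFinite.of_locallyQuasiFinite X.hom

variable {G H X : Over (Spec (CommRingCat.of k))} [GrpObj G] [GrpObj H]
  {i : H ⟶ G} [IsMonHom i] {a : AlgGrp.Action G X} {o : 𝟙_ (Over (Spec (CommRingCat.of k))) ⟶ X}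

theorem exists_open_nhds_subset_fibre [LocallyOfFiniteType G.hom] (hq : AGF.IsQuotient i X a o)
    (hopen : IsOpen (Set.range i.left.base)) (g : G.left) (hg : IsClosed ({g} : Set G.left)) :
    ∃ U : Set G.left, IsOpen U ∧ g ∈ U ∧
      ∀ g' ∈ U, (a.orbitMap o).left.base g' = (a.orbitMap o).left.base g := by
  have hci : IsClosedImmersion (G.left.fromSpecResidueField g) :=
    isClosed_singleton_iff_isClosedImmersion.mp hg
  let T : Over (Spec (CommRingCat.of k)) := Over.mk (G.left.fromSpecResidueField g ≫ G.hom)
  have hTlft : LocallyOfFiniteType T.hom :=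
    inferInstanceAs (LocallyOfFiniteType (G.left.fromSpecResidueField g ≫ G.hom))
  let gT : T ⟶ G := Over.homMk (G.left.fromSpecResidueField g) rfl
  have hgT : ∀ z : T.left, gT.left.base z = g := fun z => Scheme.fromSpecResidueField_apply g z
  let τ' : G ⊗ T ⟶ G := (snd G T ≫ gT) * fst G T
  let τ : H ⊗ T ⟶ G := (snd H T ≫ gT) * (fst H T ≫ i)
  have hτ : τ = (i ▷ T) ≫ τ' := by
    change _ = (i ▷ T) ≫ ((snd G T ≫ gT) * fst G T)
    rw [MonObj.comp_mul, ← Category.assoc, whiskerRight_snd, whiskerRight_fst]
  have hτπ : τ ≫ a.orbitMap o = (snd H T ≫ gT) ≫ a.orbitMap o := orbit_mul_right hq _ _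
  -- τ' is an open map
  have hτ' : τ' = (transIso (actionLeftMul G) gT).hom ≫ fst G T := by
    change _ = Translate.trans (actionLeftMul G) gT ≫ fst G T
    unfold Translate.trans
    rw [lift_fst, actionLeftMul_pt]
  have hTuo : UniversallyOpen T.hom := universallyOpen_of_field T.hom
  have hfstuo : UniversallyOpen (fst G T).left := by
    rw [Over.fst_left]
    infer_instance
  have hτ'uo : UniversallyOpen τ'.left := by
    rw [hτ', Over.comp_left]
    have : IsIso (transIso (actionLeftMul G) gT).hom.left :=
      (Over.forget _).map_isIso (transIso (actionLeftMul G) gT).hom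
    infer_instance
  refine ⟨Set.range τ.left.base, ?_, ?_, ?_⟩
  · rw [hτ, Over.comp_left, Scheme.Hom.comp_base, TopCat.coe_comp, Set.range_comp]
    apply τ'.left.isOpenMap
    have hpb := Groth.Agent.Lib.Helper41.ActionPoints2.isPullback_whiskerRight_fst T i
    have h1 := Scheme.image_preimage_eq_of_isPullback hpb.flip Set.univ
    rw [Set.preimage_univ, Set.image_univ, Set.image_univ] at h1
    rw [h1]
    exact hopen.preimage (fst G T).left.continuous
  · let s : T ⟶ H ⊗ T := lift 1 (𝟙 T)
    have hs : s ≫ τ = gT := by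
      change s ≫ ((snd H T ≫ gT) * (fst H T ≫ i)) = gT
      rw [MonObj.comp_mul, ← Category.assoc, lift_snd, Category.id_comp, ← Category.assoc, lift_fst,
        MonObj.one_comp, _root_.mul_one]
    have hne : Nonempty T.left := inferInstanceAs (Nonempty (Spec _))
    obtain ⟨z⟩ := hne
    refine ⟨s.left.base z, ?_⟩
    rw [← hgT z, ← hs]
    rfl
  · rintro g' ⟨z, rfl⟩
    have h1 : (a.orbitMap o).left.base (τ.left.base z) = (τ ≫ a.orbitMap o).left.base z := rfl
    rw [h1, hτπ]
    change (a.orbitMap o).left.base (gT.left.base ((snd H T).left.base z)) = _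
    rw [hgT]

theorem finite_of_isOpen_range [LocallyOfFiniteType G.hom] [QuasiCompact G.hom]
    (hq : AGF.IsQuotient i X a o) (hopen : IsOpen (Set.range i.left.base)) : Finite X.left := by
  classical
  have hGc : CompactSpace G.left := QuasiCompact.compactSpace_of_compactSpace G.hom
  have hJ : JacobsonSpace G.left := LocallyOfFiniteType.jacobsonSpace (Y := Spec _) G.hom
  have hsurj : Surjective (a.orbitMap o).left := hq.2.2.1
  choose U hUo hUg hUf using fun g : closedPoints G.left =>
    exists_open_nhds_subset_fibre hq hopen g.1 ((mem_closedPoints_iff).mp g.2)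
  have hcover : (⋃ g, U g) = Set.univ := by
    apply Groth.Agent.Lib.Helper41.TransitiveFlat.eq_univ_of_isOpen_of_closedPoints_subset _
      (isOpen_iUnion hUo)
    intro g hg
    exact Set.mem_iUnion.mpr ⟨⟨g, hg⟩, hUg ⟨g, hg⟩⟩
  obtain ⟨t, ht⟩ := isCompact_univ.elim_finite_subcover U hUo hcover.ge
  have hfin : (Set.univ : Set X.left) ⊆
      (fun g : closedPoints G.left => (a.orbitMap o).left.base g.1) '' (t : Set (closedPoints G.left)) := by
    intro x _
    obtain ⟨g', rfl⟩ := (a.orbitMap o).left.surjective x
    obtain ⟨g, hgt, hg'⟩ := Set.mem_iUnion₂.mp (ht (Set.mem_univ g'))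
    exact ⟨g, hgt, (hUf g g' hg').symm⟩
  exact Set.finite_univ_iff.mp ((t.finite_toSet.image _).subset hfin)

theorem isFinite_of_isOpen_range [LocallyOfFiniteType G.hom] [QuasiCompact G.hom]
    (hq : AGF.IsQuotient i X a o) (hopen : IsOpen (Set.range i.left.base)) : IsFinite X.hom := by
  have h1 : LocallyOfFiniteType X.hom := hq.1
  have h2 := finite_of_isOpen_range hq hopen
  exact isFinite_of_finite X

end Groth.Agent.Lib.Helper41.FiniteQuotient
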