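import Groth.Agent.Lib.Helper78.DVRValuative
import Groth.Agent.Lib.Helper19.Subscheme
import Groth.Prelude.Def_W4c2lssmoduliGProp

/-!
# `G`-universally closed morphisms (helper41)

If `p = q ∘ f` is `G`-universally closed with `f` invariant and `q` separated, then `f(R)` is closed and
proper over the base.
-/

set_option autoImplicit false
universe u
open CategoryTheory CategoryTheory.Limits MonoidalCategory CartesianMonoidalCategory MonObj
  AlgebraicGeometry

namespace Groth.Agent.Lib.Helper41.GUnivClosed

open Groth.Agent.Lib.Helper78 TopologicalSpace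

/-- every point of the closure of the image of a morphism from a Noetherian scheme is a specialization of
a point of the image -/
theorem exists_specializes_of_mem_closure_range {X Y : Scheme.{u}} (f : X ⟶ Y) [NoetherianSpace X]
    (y : Y) (hy : y ∈ closure (Set.range f.base)) : ∃ x : X, f.base x ⤳ y := by
  have hfin : (irreducibleComponents X).Finite := NoetherianSpace.finite_irreducibleComponents
  have hrange : Set.range f.base = ⋃ C ∈ irreducibleComponents X, f.base '' C := by
    rw [← Set.image_univ, ← sUnion_irreducibleComponents, Set.sUnion_eq_biUnion, Set.image_iUnion₂]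
  rw [hrange, hfin.closure_biUnion] at hy
  obtain ⟨C, hC, hyC⟩ := Set.mem_iUnion₂.mp hy
  have hCirr : IsIrreducible C := hC.1
  have hCcl : IsClosed C := isClosed_of_mem_irreducibleComponents C hC
  obtain ⟨gp, hgp⟩ := QuasiSober.sober hCirr hCcl
  refine ⟨gp, ?_⟩
  rw [specializes_iff_mem_closure]
  have h1 : f.base '' C ⊆ closure {f.base gp} := by
    rw [← hgp.def, ← Set.image_singleton]
    exact image_closure_subset_closure_image f.base.hom.continuous
  exact closure_minimal h1 isClosed_closure hyC

/-- uniqueness in the valuative criterion for separated morphisms -/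
theorem eq_of_valuative {X Y : Scheme.{u}} (q : X ⟶ Y) [IsSeparated q] (A : Type u) [CommRing A]
    [IsDomain A] [ValuationRing A] (K : Type u) [Field K] [Algebra A K] [IsFractionRing A K]
    (l₁ l₂ : Spec (CommRingCat.of A) ⟶ X) (h1 : l₁ ≫ q = l₂ ≫ q)
    (h2 : Spec.map (CommRingCat.ofHom (algebraMap A K)) ≫ l₁ =
      Spec.map (CommRingCat.ofHom (algebraMap A K)) ≫ l₂) : l₁ = l₂ := by
  have hu := IsSeparated.valuativeCriterion q
  let Sq : ValuativeCommSq q :=
    { R := A, K := K
      i₁ := Spec.map (CommRingCat.ofHom (algebraMap A K)) ≫ l₁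
      i₂ := l₁ ≫ q
      commSq := ⟨by rw [Category.assoc]⟩ }
  have := hu Sq
  let s₁ : Sq.commSq.LiftStruct := ⟨l₁, rfl, rfl⟩
  let s₂ : Sq.commSq.LiftStruct := ⟨l₂, h2.symm, h1.symm⟩
  exact congrArg CommSq.LiftStruct.l (Subsingleton.elim s₁ s₂)

variable {k : Type u} [Field k] {G R S T : Over (Spec (CommRingCat.of k))} [GrpObj G]

/-- the image of `f` is stable under specialization -/
theorem mem_range_of_specializes (a : AlgGrp.Action G R) (f : R ⟶ S) (q : S ⟶ T)
    [IsSeparated q.left] [LocallyOfFiniteType f.left] [IsLocallyNoetherian S.left]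
    (hf : W4c2lssmoduli.IsInvariantMor a f) (hp : W4c2lssmoduli.IsGUnivClosed a (f ≫ q))
    (r : R.left) (s : S.left) (hsp : f.left.base r ⤳ s) : s ∈ Set.range f.left.base := by
  by_cases hne : s = f.left.base r
  · exact ⟨r, hne.symm⟩
  obtain ⟨A, hS, hA, hcl, hgen⟩ := exists_dvr_specialization f.left r s hsp hne
  let sA : Spec (CommRingCat.of A) ⟶ Spec (CommRingCat.of k) := hS ≫ S.hom
  have hgen' : Spec.map (CommRingCat.ofHom (algebraMap A (R.left.residueField r))) ≫ hS =
      R.left.fromSpecResidueField r ≫ f.left := hgen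
  let g : Over.mk (Spec.map (CommRingCat.ofHom (algebraMap A (R.left.residueField r))) ≫ sA) ⟶ R :=
    Over.homMk (R.left.fromSpecResidueField r) (by
      change _ = Spec.map _ ≫ hS ≫ S.hom
      rw [← Over.w f, ← Category.assoc, ← hgen', Category.assoc])
  let h : Over.mk sA ⟶ T := Over.homMk (hS ≫ q.left) (by
    change (hS ≫ q.left) ≫ T.hom = hS ≫ S.hom
    rw [Category.assoc, Over.w q])
  have hsq : g ≫ (f ≫ q) = Over.homMk (Spec.map (CommRingCat.ofHom
      (algebraMap A (R.left.residueField r)))) rfl ≫ h := by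
    ext1
    change R.left.fromSpecResidueField r ≫ f.left ≫ q.left = Spec.map _ ≫ hS ≫ q.left
    rw [← Category.assoc, ← hgen', Category.assoc]
  obtain ⟨i, gam, hi1, hi2⟩ := hp.2 A (R.left.residueField r) sA g h hsq
  have e1 : (i.left ≫ f.left) ≫ q.left = hS ≫ q.left := by
    have := congrArg CommaMorphism.left hi1
    rw [Category.assoc]
    exact this
  have e2 : Spec.map (CommRingCat.ofHom (algebraMap A (R.left.residueField r))) ≫
      (i.left ≫ f.left) = Spec.map (CommRingCat.ofHom
        (algebraMap A (R.left.residueField r))) ≫ hS := by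
    have h3 : (Over.homMk (Spec.map (CommRingCat.ofHom
        (algebraMap A (R.left.residueField r)))) rfl ≫ i) ≫ f = g ≫ f := by
      rw [hi2, Category.assoc, hf, lift_snd_assoc]
    have := congrArg CommaMorphism.left h3
    rw [hgen', ← Category.assoc]
    exact this
  have e3 : i.left ≫ f.left = hS :=
    eq_of_valuative q.left A (R.left.residueField r) _ _ e1 e2
  refine ⟨i.left.base (IsLocalRing.closedPoint A), ?_⟩
  rw [← hcl, ← e3]
  rfl

/-- the image of `f` is closed -/
theorem isClosed_range (a : AlgGrp.Action G R) (f : R ⟶ S) (q : S ⟶ T)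
    [IsSeparated q.left] [LocallyOfFiniteType R.hom] [CompactSpace R.left]
    [LocallyOfFiniteType S.hom]
    (hf : W4c2lssmoduli.IsInvariantMor a f) (hp : W4c2lssmoduli.IsGUnivClosed a (f ≫ q)) :
    IsClosed (Set.range f.left.base) := by
  have hSN : IsLocallyNoetherian S.left := LocallyOfFiniteType.isLocallyNoetherian S.hom
  have hRN : IsLocallyNoetherian R.left := LocallyOfFiniteType.isLocallyNoetherian R.hom
  have hRn : IsNoetherian R.left := {}
  have hNS : NoetherianSpace R.left := inferInstance
  have hflft : LocallyOfFiniteType f.left := by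
    have : LocallyOfFiniteType (f.left ≫ S.hom) := by
      rw [Over.w f]; infer_instance
    exact locallyOfFiniteType_of_comp f.left S.hom
  rw [← closure_subset_iff_isClosed]
  intro s hs
  obtain ⟨r, hr⟩ := exists_specializes_of_mem_closure_range f.left s hs
  exact mem_range_of_specializes a f q hf hp r s hr

/-- for a closed subscheme `Z` of `S` supported on `f(R)`, every base change of `Z ⟶ T` to a locally
Noetherian scheme is specializing -/
theorem specializingMap_snd (a : AlgGrp.Action G R) (f : R ⟶ S) (q : S ⟶ T)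
    [IsSeparated q.left] [LocallyOfFiniteType f.left] [LocallyOfFiniteType q.left]
    (hf : W4c2lssmoduli.IsInvariantMor a f) (hp : W4c2lssmoduli.IsGUnivClosed a (f ≫ q))
    {Z : Scheme.{u}} (i₀ : Z ⟶ S.left) [IsClosedImmersion i₀]
    (hZ : Set.range i₀.base = Set.range f.left.base)
    {T' : Scheme.{u}} [IsLocallyNoetherian T'] (τ : T' ⟶ T.left) :
    SpecializingMap (pullback.snd (i₀ ≫ q.left) τ) := by
  intro c t hct
  by_cases hne : t = pullback.snd (i₀ ≫ q.left) τ c
  · exact ⟨c, specializes_rfl, hne.symm⟩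
  -- the morphism `Z' ⟶ S`
  let w : pullback (i₀ ≫ q.left) τ ⟶ S.left := pullback.fst (i₀ ≫ q.left) τ ≫ i₀
  obtain ⟨r, hr⟩ : w c ∈ Set.range f.left.base := by
    rw [← hZ]; exact ⟨pullback.fst (i₀ ≫ q.left) τ c, rfl⟩
  obtain ⟨d, hd1, hd2⟩ := Scheme.Pullback.exists_preimage_pullback (f := f.left) (g := w) r c hr
  let ρ : pullback f.left w ⟶ T' := pullback.snd f.left w ≫ pullback.snd (i₀ ≫ q.left) τ
  have hρ : LocallyOfFiniteType ρ := by
    dsimp only [ρ]; infer_instance
  have hρd : ρ d = pullback.snd (i₀ ≫ q.left) τ c := by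
    change (pullback.snd f.left w ≫ pullback.snd (i₀ ≫ q.left) τ) d = _
    rw [Scheme.Hom.comp_apply, hd2]
  have hsp : ρ d ⤳ t := by rw [hρd]; exact hct
  have hne' : t ≠ ρ d := by rw [hρd]; exact hne
  obtain ⟨A, hT', hA, hcl, hgen⟩ := exists_dvr_specialization ρ d t hsp hne'
  let K := (pullback f.left w).residueField d
  let j : Spec (CommRingCat.of K) ⟶ Spec (CommRingCat.of A) :=
    Spec.map (CommRingCat.ofHom (algebraMap A K))
  have hgen' : j ≫ hT' = (pullback f.left w).fromSpecResidueField d ≫ ρ := hgen
  let gK : Spec (CommRingCat.of K) ⟶ R.left :=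
    (pullback f.left w).fromSpecResidueField d ≫ pullback.fst f.left w
  have hgK : gK ≫ f.left ≫ q.left = j ≫ hT' ≫ τ := by
    rw [← Category.assoc j, hgen']
    simp only [gK, ρ, Category.assoc]
    rw [pullback.condition_assoc]
    simp only [w, Category.assoc]
    rw [pullback.condition]
  let sA : Spec (CommRingCat.of A) ⟶ Spec (CommRingCat.of k) := hT' ≫ τ ≫ T.hom
  let g : Over.mk (Spec.map (CommRingCat.ofHom (algebraMap A K)) ≫ sA) ⟶ R :=
    Over.homMk gK (by
      change gK ≫ R.hom = j ≫ hT' ≫ τ ≫ T.hom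
      have e : f.left ≫ q.left ≫ T.hom = R.hom := by rw [Over.w q, Over.w f]
      calc gK ≫ R.hom = (gK ≫ f.left ≫ q.left) ≫ T.hom := by
            rw [← e]; simp only [Category.assoc]
        _ = _ := by rw [hgK]; simp only [Category.assoc])
  let h : Over.mk sA ⟶ T := Over.homMk (hT' ≫ τ) (by
    change (hT' ≫ τ) ≫ T.hom = hT' ≫ τ ≫ T.hom
    rw [Category.assoc])
  have hsq : g ≫ (f ≫ q) = Over.homMk (Spec.map (CommRingCat.ofHom (algebraMap A K))) rfl ≫ h := by
    ext1
    exact hgK
  obtain ⟨i, gam, hi1, hi2⟩ := hp.2 A K sA g h hsq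
  -- `i ≫ f` factors through `Z`
  have hred : IsReduced (Over.mk sA).left := (inferInstance : IsReduced (Spec (CommRingCat.of A)))
  obtain ⟨iZ, hiZ⟩ := Helper19.exists_lift_of_isReduced_of_range_subset (i.left ≫ f.left) i₀ (by
    rintro _ ⟨x, rfl⟩
    rw [hZ, Scheme.Hom.comp_apply]
    exact ⟨i.left x, rfl⟩)
  have e1 : i.left ≫ f.left ≫ q.left = hT' ≫ τ := congrArg CommaMorphism.left hi1
  have e2 : j ≫ i.left ≫ f.left = gK ≫ f.left := by
    have h3 : (Over.homMk (Spec.map (CommRingCat.ofHom (algebraMap A K))) rfl ≫ i) ≫ f = g ≫ f := by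
      rw [hi2, Category.assoc, hf, lift_snd_assoc]
    have := congrArg CommaMorphism.left h3
    rw [← Category.assoc]
    exact this
  let i' : Spec (CommRingCat.of A) ⟶ pullback (i₀ ≫ q.left) τ :=
    pullback.lift iZ hT' (by rw [← Category.assoc, hiZ, Category.assoc, e1])
  have hji' : j ≫ i' = (pullback f.left w).fromSpecResidueField d ≫ pullback.snd f.left w := by
    apply pullback.hom_ext
    · rw [Category.assoc, pullback.lift_fst, ← cancel_mono i₀, Category.assoc, hiZ, e2]
      simp only [gK, w, Category.assoc]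
      rw [pullback.condition]
    · rw [Category.assoc, pullback.lift_snd, hgen']
      simp only [ρ, Category.assoc]
  let cl : ↥(Spec (CommRingCat.of A)) := IsLocalRing.closedPoint A
  have hcl' : hT' cl = t := hcl
  refine ⟨i' cl, ?_, ?_⟩
  · let pt : ↥(Spec (CommRingCat.of K)) := IsLocalRing.closedPoint K
    have h1 : i' (j pt) = c := by
      rw [← Scheme.Hom.comp_apply, hji', Scheme.Hom.comp_apply, Scheme.fromSpecResidueField_apply, hd2]
    have hsp' : j pt ⤳ cl := IsLocalRing.specializes_closedPoint (R := A) (j pt)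
    have h2 := hsp'.map i'.continuous
    rw [h1] at h2
    exact h2
  · rw [← Scheme.Hom.comp_apply, pullback.lift_snd]
    exact hcl'

/-- a closed subscheme `Z` of `S` supported on `f(R)` is proper over `T` -/
theorem isProper_of_range_eq (a : AlgGrp.Action G R) (f : R ⟶ S) (q : S ⟶ T)
    [IsSeparated q.left] [LocallyOfFiniteType R.hom]
    [LocallyOfFiniteType S.hom] [CompactSpace S.left] [LocallyOfFiniteType T.hom]
    (hf : W4c2lssmoduli.IsInvariantMor a f) (hp : W4c2lssmoduli.IsGUnivClosed a (f ≫ q))
    {Z : Scheme.{u}} (i₀ : Z ⟶ S.left) [IsClosedImmersion i₀]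
    (hZ : Set.range i₀.base = Set.range f.left.base) : IsProper (i₀ ≫ q.left) := by
  have hSN : IsLocallyNoetherian S.left := LocallyOfFiniteType.isLocallyNoetherian S.hom
  have hTN : IsLocallyNoetherian T.left := LocallyOfFiniteType.isLocallyNoetherian T.hom
  have hSn : IsNoetherian S.left := {}
  have hqlft : LocallyOfFiniteType q.left := by
    have : LocallyOfFiniteType (q.left ≫ T.hom) := by
      rw [Over.w q]; infer_instance
    exact locallyOfFiniteType_of_comp q.left T.hom
  have hflft : LocallyOfFiniteType f.left := by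
    have : LocallyOfFiniteType (f.left ≫ S.hom) := by
      rw [Over.w f]; infer_instance
    exact locallyOfFiniteType_of_comp f.left S.hom
  have hqc : QuasiCompact q.left := inferInstance
  have huc : UniversallyClosed (i₀ ≫ q.left) := by
    apply universallyClosed_of_affineSpace
    intro n
    have hT'N : IsLocallyNoetherian (𝔸(ULift.{u} (Fin n); T.left)) :=
      LocallyOfFiniteType.isLocallyNoetherian (𝔸(ULift.{u} (Fin n); T.left) ↘ T.left)
    rw [isClosedMap_iff_specializingMap]
    exact specializingMap_snd a f q hf hp i₀ hZ _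
  exact {}

/-- the reduced induced closed subscheme on the closure of `f(R)` is proper over `T` -/
theorem isProper_image (a : AlgGrp.Action G R) (f : R ⟶ S) (q : S ⟶ T)
    [IsSeparated q.left] [LocallyOfFiniteType R.hom] [CompactSpace R.left]
    [LocallyOfFiniteType S.hom] [CompactSpace S.left] [LocallyOfFiniteType T.hom]
    (hf : W4c2lssmoduli.IsInvariantMor a f) (hp : W4c2lssmoduli.IsGUnivClosed a (f ≫ q)) :
    IsProper ((Scheme.IdealSheafData.vanishingIdeal
      (⟨closure (Set.range f.left.base), isClosed_closure⟩ : Closeds S.left)).subschemeι ≫ q.left) := by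
  apply isProper_of_range_eq a f q hf hp
  rw [Scheme.IdealSheafData.range_subschemeι, Scheme.IdealSheafData.coe_support_vanishingIdeal]
  exact (isClosed_range a f q hf hp).closure_eq

end Groth.Agent.Lib.Helper41.GUnivClosed
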