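import Mathlib

/-!
# Geometric reducedness: separable field extensions and compositions (helper41)

* `isGeometricallyReduced_of_isSeparable` : a separable algebraic field extension `K/k` is
  geometrically reduced (`k̄ ⊗ K` is reduced).
* `geometricallyReduced_comp` : a composition `X ⟶ Y ⟶ S` of geometrically reduced morphisms
  with `X ⟶ Y` flat and `Y ⟶ S` locally of finite type is geometrically reduced.
* `geometricallyReduced_tensor` : the product of two geometrically reduced `k`-schemes locally of
  finite type is geometrically reduced.
-/

set_option autoImplicit false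
universe u
open TensorProduct CategoryTheory Limits AlgebraicGeometry MonoidalCategory CartesianMonoidalCategory

namespace Groth.Agent.Lib.Helper41.GeomRedSep

theorem isGeometricallyReduced_of_finite_separable (k L : Type u) [Field k] [Field L] [Algebra k L]
    [Module.Finite k L] [Algebra.IsSeparable k L] : Algebra.IsGeometricallyReduced k L := by
  have : Algebra.FormallyUnramified k L := Algebra.FormallyUnramified.of_isSeparable k L
  rw [Algebra.isGeometricallyReduced_field_iff]
  exact Algebra.FormallyUnramified.isReduced_of_field (AlgebraicClosure k) (AlgebraicClosure k ⊗[k] L)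

theorem isGeometricallyReduced_of_isSeparable (k K : Type u) [Field k] [Field K] [Algebra k K]
    [Algebra.IsSeparable k K] : Algebra.IsGeometricallyReduced k K := by
  apply Algebra.IsGeometricallyReduced.of_forall_fg
  intro B hB
  obtain ⟨S, hS⟩ := hB
  let L := IntermediateField.adjoin k (S : Set K)
  have hfin : FiniteDimensional k L :=
    IntermediateField.finiteDimensional_adjoin (fun x _ => Algebra.IsIntegral.isIntegral x)
  have hsep : Algebra.IsSeparable k L := Algebra.isSeparable_tower_bot_of_isSeparable k L K
  have hle : B ≤ L.toSubalgebra := by
    rw [← hS]
    exact IntermediateField.algebra_adjoin_le_adjoin k _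
  have := isGeometricallyReduced_of_finite_separable k L
  exact Algebra.IsGeometricallyReduced.of_injective (Subalgebra.inclusion hle)
    (Subalgebra.inclusion_injective hle)

theorem geometricallyReduced_comp {X Y S : Scheme.{u}} (f : X ⟶ Y) (g : Y ⟶ S)
    [GeometricallyReduced f] [Flat f] [GeometricallyReduced g] [LocallyOfFiniteType g] :
    GeometricallyReduced (f ≫ g) := by
  constructor
  intro K _ y Z fst snd h
  have hYK : IsReduced (pullback g y) :=
    GeometricallyReduced.geometrically_isReduced y (pullback.fst g y) (pullback.snd g y)
      (.of_hasPullback g y)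
  have hnoeth : IsLocallyNoetherian (pullback g y) :=
    LocallyOfFiniteType.isLocallyNoetherian (pullback.snd g y)
  let l : Z ⟶ pullback g y := pullback.lift (fst ≫ f) snd (by rw [Category.assoc]; exact h.w)
  have hl : l ≫ pullback.snd g y = snd := pullback.lift_snd _ _ _
  have htop : IsPullback fst l f (pullback.fst g y) :=
    IsPullback.of_bot (by rw [hl]; exact h) (pullback.lift_fst _ _ _).symm
      (IsPullback.of_hasPullback g y)
  have : IsReduced (pullback f (pullback.fst g y)) := inferInstance
  exact isReduced_of_isOpenImmersion htop.isoPullback.hom

theorem geometricallyReduced_tensor {k : Type u} [Field k]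
    (X Y : Over (Spec (CommRingCat.of k))) [GeometricallyReduced X.hom] [GeometricallyReduced Y.hom]
    [LocallyOfFiniteType X.hom] : GeometricallyReduced (X ⊗ Y).hom := by
  have hsub : Subsingleton (Spec (CommRingCat.of k)) :=
    inferInstanceAs (Subsingleton (PrimeSpectrum k))
  have e : (X ⊗ Y).hom = (fst X Y).left ≫ X.hom := (Over.w (fst X Y)).symm
  rw [e, Over.fst_left]
  have : Flat Y.hom := inferInstance
  exact geometricallyReduced_comp _ _

end Groth.Agent.Lib.Helper41.GeomRedSep
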