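import Groth.Agent.Lib.Helper41.GeomConnGroup

/-!
# Geometric connectedness of homomorphisms with connected kernel, kernel without group structure
(helper41)

* `exists_section_of_isKernel` : a kernel `N` of a homomorphism has a rational point.
* `geometricallyConnected_of_isKernel'` : as `GeomConnGroup.geometricallyConnected_of_isKernel`, but
  `N` is not assumed to carry a group structure.
-/

set_option autoImplicit false
universe u
open CategoryTheory CategoryTheory.Limits MonoidalCategory CartesianMonoidalCategory MonObj
  AlgebraicGeometry

namespace Groth.Agent.Lib.Helper41.GeomConnGroup2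

open Groth.Agent.Lib.Helper41.GeomConnGroup

variable {k : Type u} [Field k] {N G Q : Over (Spec (CommRingCat.of k))} [GrpObj G] [GrpObj Q]

theorem exists_section_of_isKernel (i : N ⟶ G) (q : G ⟶ Q) [IsMonHom q]
    (hker : AlgGrp.IsKernel i q) : ∃ e : 𝟙_ (Over (Spec (CommRingCat.of k))) ⟶ N, e ≫ i = η[G] := by
  have hker' : IsPullback i (toUnit N) q η[Q] := hker
  obtain ⟨e, he, -⟩ := hker'.exists_lift η[G] (𝟙 _) (by rw [IsMonHom.one_hom, Category.id_comp])
  exact ⟨e, he⟩

theorem geometricallyConnected_of_isKernel' [LocallyOfFiniteType G.hom]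
    (i : N ⟶ G) (q : G ⟶ Q) [IsMonHom q] [Surjective q.left] (hker : AlgGrp.IsKernel i q)
    [ConnectedSpace N.left] : GeometricallyConnected q.left := by
  obtain ⟨e, -⟩ := exists_section_of_isKernel i q hker
  have hN : GeometricallyConnected N.hom := by
    refine geometricallyConnected_of_section N.hom e.left ?_
    rw [Over.w e]
    rfl
  have hfst : GeometricallyConnected (fst G N).left := by
    rw [Over.fst_left]
    infer_instance
  have hpb := Groth.Agent.Lib.Helper41.KernelPair.isPullback_fst_mul_of_isKernel q i hker
  have hpb' : IsPullback ((G ◁ i) ≫ μ[G]).left (fst G N).left q.left q.left :=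
    (hpb.map (Over.forget _)).flip
  have key := Groth.Agent.S9765.result q.left q.left (fst G N).left ((G ◁ i) ≫ μ[G]).left hpb'
  rw [GeometricallyConnected.iff_geometricallyConnected_fiber]
  intro y
  obtain ⟨y', rfl⟩ := q.left.surjective y
  have h1 : y' ∈ {y' : ↑G.left | GeometricallyConnected ((fst G N).left.fiberToSpecResidueField y')} :=
    (GeometricallyConnected.iff_geometricallyConnected_fiber _).mp hfst y'
  rw [key] at h1
  exact h1

end Groth.Agent.Lib.Helper41.GeomConnGroup2
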