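import Groth.Agent.Lib.Helper41.EtGlueModule
import Groth.Agent.Lib.Helper63.TorQuot
import Mathlib

/-!
# Flatness along a glueing pair (Tor-free dévissage)

For a glueing pair `(R → R', f)` and an `R`-module `M` with `R' ⊗ M` flat over `R'` and
`R_f ⊗ M` flat over `R_f`, `M` is flat over `R`.

We fix a presentation `0 → K → F → M → 0` with `F` flat and show that `Q ⊗ K → Q ⊗ F` is injective
for every `R`-module `Q` (i.e. `Tor₁(Q, M) = 0`) by dévissage on `Q`:
`f`-power torsion `Q`, `Q` an `R_f`-module, `f`-torsion free `Q`, extensions.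
-/

namespace Groth.Agent.Lib.Helper41.GlueFlat

open TensorProduct Groth.Agent.Lib.Helper41.EtGlueTorsion Groth.Agent.Lib.Helper41.EtGlueModule

universe u

section General

variable {S : Type u} [CommRing S]
variable {K F M : Type u} [AddCommGroup K] [Module S K] [AddCommGroup F] [Module S F]
  [AddCommGroup M] [Module S M]

/-- Stacks 00HL: if `0 → K → F → M → 0` is exact with `M` and `F` flat then `N ⊗ K → N ⊗ F` is
injective for all `N`. -/
theorem lTensor_injective_of_flat_quotient [Module.Flat S F] [Module.Flat S M]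
    (ι : K →ₗ[S] F) (π : F →ₗ[S] M) (hι : Function.Injective ι) (hπ : Function.Surjective π)
    (hex : Function.Exact ι π) (N : Type u) [AddCommGroup N] [Module S N] :
    Function.Injective (ι.lTensor N) := by
  let p : (N →₀ S) →ₗ[S] N := Finsupp.linearCombination S id
  have hp : Function.Surjective p := Finsupp.linearCombination_id_surjective S N
  refine lTensor_injective_of_exact_of_exact_of_rTensor_injective (R := S)
    (M₁ := LinearMap.ker p) (M₂ := N →₀ S) (M₃ := N) (f₁ := (LinearMap.ker p).subtype) (f₂ := p)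
    (LinearMap.exact_subtype_ker_map p) hp hex hπ ?_ ?_
  · exact Module.Flat.rTensor_preserves_injective_linearMap _
      (LinearMap.ker p).injective_subtype
  · exact Module.Flat.lTensor_preserves_injective_linearMap _ hι

/-- The kernel of a surjection of flat modules is flat. -/
theorem flat_ker [Module.Flat S F] [Module.Flat S M]
    (ι : K →ₗ[S] F) (π : F →ₗ[S] M) (hι : Function.Injective ι) (hπ : Function.Surjective π)
    (hex : Function.Exact ι π) : Module.Flat S K := by
  rw [Module.Flat.iff_lTensor_preserves_injective_linearMap]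
  intro N P _ _ _ _ g hg
  have h1 : Function.Injective (ι.rTensor N) := by
    rw [← LinearMap.lTensor_inj_iff_rTensor_inj]
    exact lTensor_injective_of_flat_quotient ι π hι hπ hex N
  have h2 : Function.Injective (g.lTensor F) :=
    Module.Flat.lTensor_preserves_injective_linearMap _ hg
  have h3 : (g.lTensor F) ∘ₗ (ι.rTensor N) = (ι.rTensor P) ∘ₗ (g.lTensor K) := by
    rw [LinearMap.lTensor_comp_rTensor, LinearMap.rTensor_comp_lTensor]
  have h4 : Function.Injective ((ι.rTensor P) ∘ₗ (g.lTensor K)) := by
    rw [← h3]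
    exact h2.comp h1
  exact Function.Injective.of_comp h4

/-- Extension step: if `Tor₁(N₁, M) = Tor₁(N₃, M) = 0` then `Tor₁(N₂, M) = 0`. -/
theorem lTensor_injective_of_extension [Module.Flat S F] (ι : K →ₗ[S] F)
    {N₁ N₂ N₃ : Type u} [AddCommGroup N₁] [Module S N₁] [AddCommGroup N₂] [Module S N₂]
    [AddCommGroup N₃] [Module S N₃] (a : N₁ →ₗ[S] N₂) (b : N₂ →ₗ[S] N₃)
    (ha : Function.Injective a) (hb : Function.Surjective b) (hab : Function.Exact a b)
    (h1 : Function.Injective (ι.lTensor N₁)) (h3 : Function.Injective (ι.lTensor N₃)) :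
    Function.Injective (ι.lTensor N₂) := by
  rw [injective_iff_map_eq_zero]
  intro x hx
  have e1 : (ι.lTensor N₃) ((b.rTensor K) x) = 0 := by
    rw [← LinearMap.comp_apply, LinearMap.lTensor_comp_rTensor, ← LinearMap.rTensor_comp_lTensor,
      LinearMap.comp_apply, hx, map_zero]
  have e2 : (b.rTensor K) x = 0 := h3 (e1.trans (map_zero _).symm)
  obtain ⟨y, rfl⟩ := (rTensor_exact K hab hb x).mp e2
  have e3 : (a.rTensor F) ((ι.lTensor N₁) y) = 0 := by
    rw [← LinearMap.comp_apply, LinearMap.rTensor_comp_lTensor, ← LinearMap.lTensor_comp_rTensor,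
      LinearMap.comp_apply, hx]
  have e4 : Function.Injective (a.rTensor F) :=
    Module.Flat.rTensor_preserves_injective_linearMap _ ha
  have e5 : (ι.lTensor N₁) y = 0 := e4 (e3.trans (map_zero _).symm)
  have e6 : y = 0 := h1 (e5.trans (map_zero _).symm)
  rw [e6, map_zero]

/-- Transport along an isomorphism in the first variable. -/
theorem lTensor_injective_of_linearEquiv (ι : K →ₗ[S] F)
    {N N' : Type u} [AddCommGroup N] [Module S N] [AddCommGroup N'] [Module S N']
    (e : N ≃ₗ[S] N') (h : Function.Injective (ι.lTensor N')) :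
    Function.Injective (ι.lTensor N) := by
  have h3 : (e.toLinearMap.rTensor F) ∘ₗ (ι.lTensor N) =
      (ι.lTensor N') ∘ₗ (e.toLinearMap.rTensor K) := by
    rw [LinearMap.rTensor_comp_lTensor, LinearMap.lTensor_comp_rTensor]
  have h4 : Function.Injective ((e.toLinearMap.rTensor F) ∘ₗ (ι.lTensor N)) := by
    rw [h3]
    exact h.comp (e.rTensor K).injective
  exact Function.Injective.of_comp h4

end General

section Glue

variable {R R' : Type u} [CommRing R] [CommRing R'] [Algebra R R'] {f : R}
variable {K F M : Type u} [AddCommGroup K] [Module R K] [AddCommGroup F] [Module R F]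
  [AddCommGroup M] [Module R M]

/-- a torsion element `m` gives `1 ⊗ m = 0` in `R_f ⊗ M`. -/
theorem one_tmul_eq_zero_of_torsion (m : M) (hm : ∃ n : ℕ, f ^ n • m = 0) :
    (1 : Localization.Away f) ⊗ₜ[R] m = 0 := by
  apply (LocalizedModule.isBaseChange (Submonoid.powers f) M).equiv.injective
  rw [IsBaseChange.equiv_tmul, one_smul, map_zero]
  exact (mk_eq_zero_iff m).mpr hm

theorem torsion_of_one_tmul_eq_zero (m : M) (h : (1 : Localization.Away f) ⊗ₜ[R] m = 0) :
    ∃ n : ℕ, f ^ n • m = 0 := by
  have h3 := congrArg (LocalizedModule.isBaseChange (Submonoid.powers f) M).equiv h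
  rw [IsBaseChange.equiv_tmul, one_smul, map_zero] at h3
  exact (mk_eq_zero_iff m).mp h3

/-- For a flat module, `f`-power torsion injects into `R' ⊗ F` (flat modules are glueable). -/
theorem torsion_injective_of_flat (hRR : EtGlue.IsGlueingPair R R' f) [Module.Flat R F]
    (m : F) (hm : ∃ n : ℕ, f ^ n • m = 0) (h0 : (1 : R') ⊗ₜ[R] m = 0) : m = 0 := by
  obtain ⟨-, hinj, -, -⟩ := hRR
  let g₁ : R →ₗ[R] R' × Localization.Away f :=
    (Algebra.linearMap R R').prod (Algebra.linearMap R (Localization.Away f))
  have hg₁ : Function.Injective g₁ := hinj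
  have h1 : Function.Injective (g₁.rTensor F) :=
    Module.Flat.rTensor_preserves_injective_linearMap g₁ hg₁
  have h2 : g₁.rTensor F ((1 : R) ⊗ₜ[R] m) = 0 := by
    rw [LinearMap.rTensor_tmul]
    have e1 : g₁ 1 = LinearMap.inl R R' (Localization.Away f) 1 +
        LinearMap.inr R R' (Localization.Away f) 1 := by
      simp [g₁]
    rw [e1, TensorProduct.add_tmul]
    have e2 : (LinearMap.inl R R' (Localization.Away f) 1) ⊗ₜ[R] m =
        (LinearMap.inl R R' (Localization.Away f)).rTensor F ((1 : R') ⊗ₜ[R] m) := rfl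
    have e3 : (LinearMap.inr R R' (Localization.Away f) 1) ⊗ₜ[R] m =
        (LinearMap.inr R R' (Localization.Away f)).rTensor F
          ((1 : Localization.Away f) ⊗ₜ[R] m) := rfl
    rw [e2, e3, h0, one_tmul_eq_zero_of_torsion m hm, map_zero, map_zero, add_zero]
  have h3 : (1 : R) ⊗ₜ[R] m = 0 := h1 (h2.trans (map_zero _).symm)
  have h4 := congrArg (TensorProduct.lid R F) h3
  rw [TensorProduct.lid_tmul, one_smul, map_zero] at h4
  exact h4

variable (ι : K →ₗ[R] F) (π : F →ₗ[R] M)

/-- `Tor₁(R', M) = 0`: `R' ⊗ K → R' ⊗ F` is injective. -/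
theorem lTensor_base_injective (hRR : EtGlue.IsGlueingPair R R' f) [Module.Flat R F]
    [Module.Flat (Localization.Away f) (Localization.Away f ⊗[R] M)]
    (hι : Function.Injective ι) (hπ : Function.Surjective π) (hex : Function.Exact ι π) :
    Function.Injective (ι.lTensor R') := by
  rw [injective_iff_map_eq_zero]
  intro y hy
  have ha : ∃ n : ℕ, f ^ n • y = 0 := by
    have hflat : Function.Injective (ι.lTensor (Localization.Away f)) :=
      Module.Flat.lTensor_preserves_injective_linearMap _ hι
    have key := Groth.Agent.Lib.Helper63.lTensor_injective_of_baseChange_flat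
      (Localization.Away f) ι π hex hπ hflat (Localization.Away f ⊗[R] R')
    have hpt : ∀ z, ((ι.lTensor R').lTensor (Localization.Away f)) z =
        TensorProduct.assoc R (Localization.Away f) R' F
          (ι.lTensor (Localization.Away f ⊗[R] R')
            ((TensorProduct.assoc R (Localization.Away f) R' K).symm z)) := by
      intro z
      rw [LinearMap.lTensor_tensor]
      simp
    have h1 : (1 : Localization.Away f) ⊗ₜ[R] y = 0 := by
      have h2 := hpt ((1 : Localization.Away f) ⊗ₜ[R] y)
      rw [LinearMap.lTensor_tmul, hy, TensorProduct.tmul_zero] at h2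
      have h3 := (TensorProduct.assoc R (Localization.Away f) R' F).injective
        (h2.symm.trans (map_zero _).symm)
      have h4 := key (h3.trans (map_zero _).symm)
      have h5 := (TensorProduct.assoc R (Localization.Away f) R' K).symm.injective
        (h4.trans (map_zero _).symm)
      exact h5
    exact torsion_of_one_tmul_eq_zero y h1
  obtain ⟨k, hk, rfl⟩ := torsion_surjective_of_isGlueingPair hRR y ha
  rw [LinearMap.lTensor_tmul] at hy
  have h1 : ι k = 0 := by
    apply torsion_injective_of_flat hRR (ι k) _ hy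
    obtain ⟨n, hn⟩ := hk
    exact ⟨n, by rw [← map_smul, hn, map_zero]⟩
  have h2 : k = 0 := hι (h1.trans (map_zero _).symm)
  rw [h2, TensorProduct.tmul_zero]

/-- `R' ⊗ K` is flat over `R'`. -/
theorem flat_base_ker (hRR : EtGlue.IsGlueingPair R R' f) [Module.Flat R F]
    [Module.Flat R' (R' ⊗[R] M)]
    [Module.Flat (Localization.Away f) (Localization.Away f ⊗[R] M)]
    (hι : Function.Injective ι) (hπ : Function.Surjective π) (hex : Function.Exact ι π) :
    Module.Flat R' (R' ⊗[R] K) :=
  flat_ker (S := R') (ι.baseChange R') (π.baseChange R')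
    (lTensor_base_injective ι π hRR hι hπ hex) (LinearMap.lTensor_surjective R' hπ)
    (lTensor_exact R' hex hπ)

/-- `R_f ⊗ K` is flat over `R_f`. -/
theorem flat_loc_ker [Module.Flat R F]
    [Module.Flat (Localization.Away f) (Localization.Away f ⊗[R] M)]
    (hι : Function.Injective ι) (hπ : Function.Surjective π) (hex : Function.Exact ι π) :
    Module.Flat (Localization.Away f) (Localization.Away f ⊗[R] K) :=
  flat_ker (S := Localization.Away f) (ι.baseChange (Localization.Away f))
    (π.baseChange (Localization.Away f))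
    (Module.Flat.lTensor_preserves_injective_linearMap (M := Localization.Away f) ι hι)
    (LinearMap.lTensor_surjective (Localization.Away f) hπ)
    (lTensor_exact (Localization.Away f) hex hπ)

/-- `Tor₁(Q, M) = 0` for `f`-power torsion `Q`. -/
theorem lTensor_injective_of_torsion (hRR : EtGlue.IsGlueingPair R R' f) [Module.Flat R F]
    [Module.Flat R' (R' ⊗[R] M)]
    [Module.Flat (Localization.Away f) (Localization.Away f ⊗[R] M)]
    (hι : Function.Injective ι) (hπ : Function.Surjective π) (hex : Function.Exact ι π)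
    (Q : Type u) [AddCommGroup Q] [Module R Q] (hQ : ∀ q : Q, ∃ n : ℕ, f ^ n • q = 0) :
    Function.Injective (ι.lTensor Q) := by
  have hA := lTensor_base_injective ι π hRR hι hπ hex
  have key := Groth.Agent.Lib.Helper63.lTensor_injective_of_baseChange_flat R' ι π hex hπ hA
    (R' ⊗[R] Q)
  let e : Q ≃ₗ[R] R' ⊗[R] Q := LinearEquiv.ofBijective (TensorProduct.mk R R' Q 1)
    (bijective_mk_of_fPowTorsion hRR.1 hQ)
  exact lTensor_injective_of_linearEquiv ι e key

/-- `Tor₁(Q_f, M) = 0`. -/
theorem lTensor_injective_localized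
    [Module.Flat (Localization.Away f) (Localization.Away f ⊗[R] M)]
    (hι : Function.Injective ι) (hπ : Function.Surjective π) (hex : Function.Exact ι π)
    (Q : Type u) [AddCommGroup Q] [Module R Q] :
    Function.Injective (ι.lTensor (LocalizedModule (Submonoid.powers f) Q)) :=
  Groth.Agent.Lib.Helper63.lTensor_injective_of_baseChange_flat (Localization.Away f) ι π hex hπ
    (Module.Flat.lTensor_preserves_injective_linearMap (M := Localization.Away f) ι hι)
    (LocalizedModule (Submonoid.powers f) Q)

/-- every module has a free presentation (with opaque types). -/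
theorem exists_presentation (R : Type u) [CommRing R] (M : Type u) [AddCommGroup M] [Module R M] :
    ∃ (K F : Type u) (_ : AddCommGroup K) (_ : Module R K) (_ : AddCommGroup F) (_ : Module R F)
      (_ : Module.Flat R F) (ι : K →ₗ[R] F) (π : F →ₗ[R] M),
      Function.Injective ι ∧ Function.Surjective π ∧ Function.Exact ι π := by
  let π : (M →₀ R) →ₗ[R] M := Finsupp.linearCombination R id
  exact ⟨LinearMap.ker π, M →₀ R, inferInstance, inferInstance, inferInstance, inferInstance,
    inferInstance, (LinearMap.ker π).subtype, π, (LinearMap.ker π).injective_subtype,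
    Finsupp.linearCombination_id_surjective R M, LinearMap.exact_subtype_ker_map π⟩

/-- If `j : Q → L` is injective with `f`-power torsion cokernel then `K ⊗ Q → K ⊗ L` is injective,
for `K` with `R' ⊗ K` and `R_f ⊗ K` flat (`Tor₁(K, torsion) = 0`). -/
theorem lTensor_injective_of_torsion_coker (hRR : EtGlue.IsGlueingPair R R' f)
    [Module.Flat R' (R' ⊗[R] K)]
    [Module.Flat (Localization.Away f) (Localization.Away f ⊗[R] K)]
    {Q L C : Type u} [AddCommGroup Q] [Module R Q] [AddCommGroup L] [Module R L]
    [AddCommGroup C] [Module R C] (j : Q →ₗ[R] L) (p : L →ₗ[R] C)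
    (hj : Function.Injective j) (hp : Function.Surjective p) (hjp : Function.Exact j p)
    (hC : ∀ c : C, ∃ n : ℕ, f ^ n • c = 0) : Function.Injective (j.lTensor K) := by
  obtain ⟨K', F', _, _, _, _, _, ι', π', hι', hπ', hex'⟩ := exists_presentation R K
  have hC' : Function.Injective (ι'.lTensor C) :=
    lTensor_injective_of_torsion ι' π' hRR hι' hπ' hex' C hC
  exact lTensor_injective_of_exact_of_exact_of_rTensor_injective
    (f₁ := ι') (f₂ := π') (g₁ := j) (g₂ := p) hex' hπ' hjp hp
    ((ι'.lTensor_inj_iff_rTensor_inj C).mp hC')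
    (Module.Flat.lTensor_preserves_injective_linearMap _ hj)

/-- `Tor₁(Q, M) = 0` for `f`-torsion free `Q`. -/
theorem lTensor_injective_of_torsionFree (hRR : EtGlue.IsGlueingPair R R' f) [Module.Flat R F]
    [Module.Flat R' (R' ⊗[R] M)]
    [Module.Flat (Localization.Away f) (Localization.Away f ⊗[R] M)]
    (hι : Function.Injective ι) (hπ : Function.Surjective π) (hex : Function.Exact ι π)
    (Q : Type u) [AddCommGroup Q] [Module R Q]
    (hQ : ∀ (q : Q) (n : ℕ), f ^ n • q = 0 → q = 0) :
    Function.Injective (ι.lTensor Q) := by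
  have hj : Function.Injective (LocalizedModule.mkLinearMap (Submonoid.powers f) Q) := by
    rw [injective_iff_map_eq_zero]
    intro q hq
    obtain ⟨n, hn⟩ := (mk_eq_zero_iff q).mp hq
    exact hQ q n hn
  have hC : ∀ c : LocalizedModule (Submonoid.powers f) Q ⧸
      LinearMap.range (LocalizedModule.mkLinearMap (Submonoid.powers f) Q),
      ∃ n : ℕ, f ^ n • c = 0 := by
    intro c
    obtain ⟨y, rfl⟩ := Submodule.Quotient.mk_surjective _ c
    obtain ⟨n, q, hq⟩ := IsLocalizedModule.Away.surj
      (LocalizedModule.mkLinearMap (Submonoid.powers f) Q) f y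
    refine ⟨n, ?_⟩
    rw [← Submodule.Quotient.mk_smul, Submodule.Quotient.mk_eq_zero, hq]
    exact ⟨q, rfl⟩
  have hK1 : Module.Flat R' (R' ⊗[R] K) := flat_base_ker ι π hRR hι hπ hex
  have hK2 : Module.Flat (Localization.Away f) (Localization.Away f ⊗[R] K) :=
    flat_loc_ker ι π hι hπ hex
  have hjK : Function.Injective
      ((LocalizedModule.mkLinearMap (Submonoid.powers f) Q).lTensor K) :=
    lTensor_injective_of_torsion_coker hRR
      (LocalizedModule.mkLinearMap (Submonoid.powers f) Q)
      (LinearMap.range (LocalizedModule.mkLinearMap (Submonoid.powers f) Q)).mkQ hj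
      (Submodule.mkQ_surjective _) (LinearMap.exact_map_mkQ_range _) hC
  have hD := lTensor_injective_localized (f := f) ι π hι hπ hex Q
  have hjK' : Function.Injective
      ((LocalizedModule.mkLinearMap (Submonoid.powers f) Q).rTensor K) :=
    (LinearMap.lTensor_inj_iff_rTensor_inj K _).mp hjK
  have h3 : ((LocalizedModule.mkLinearMap (Submonoid.powers f) Q).rTensor F) ∘ₗ (ι.lTensor Q) =
      (ι.lTensor (LocalizedModule (Submonoid.powers f) Q)) ∘ₗ
        ((LocalizedModule.mkLinearMap (Submonoid.powers f) Q).rTensor K) := by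
    rw [LinearMap.rTensor_comp_lTensor, LinearMap.lTensor_comp_rTensor]
  have h4 : Function.Injective
      (((LocalizedModule.mkLinearMap (Submonoid.powers f) Q).rTensor F) ∘ₗ (ι.lTensor Q)) := by
    rw [h3]
    exact hD.comp hjK'
  exact Function.Injective.of_comp h4

/-- the `f`-power torsion submodule. -/
def fTorsion (f : R) (Q : Type u) [AddCommGroup Q] [Module R Q] : Submodule R Q where
  carrier := {q | ∃ n : ℕ, f ^ n • q = 0}
  add_mem' := by
    rintro a b ⟨n, hn⟩ ⟨m, hm⟩
    refine ⟨n + m, ?_⟩
    have h1 : f ^ (n + m) • a = 0 := by rw [pow_add, mul_comm, mul_smul, hn, smul_zero]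
    have h2 : f ^ (n + m) • b = 0 := by rw [pow_add, mul_smul, hm, smul_zero]
    rw [smul_add, h1, h2, add_zero]
  zero_mem' := ⟨0, smul_zero _⟩
  smul_mem' := by
    rintro r a ⟨n, hn⟩
    exact ⟨n, by rw [smul_comm, hn, smul_zero]⟩

/-- `Tor₁(Q, M) = 0` for all `Q`. -/
theorem lTensor_injective_of_glue (hRR : EtGlue.IsGlueingPair R R' f) [Module.Flat R F]
    [Module.Flat R' (R' ⊗[R] M)]
    [Module.Flat (Localization.Away f) (Localization.Away f ⊗[R] M)]
    (hι : Function.Injective ι) (hπ : Function.Surjective π) (hex : Function.Exact ι π)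
    (Q : Type u) [AddCommGroup Q] [Module R Q] :
    Function.Injective (ι.lTensor Q) := by
  refine lTensor_injective_of_extension ι (fTorsion f Q).subtype (fTorsion f Q).mkQ
    (fTorsion f Q).injective_subtype (Submodule.mkQ_surjective _)
    (LinearMap.exact_subtype_mkQ _) ?_ ?_
  · apply lTensor_injective_of_torsion ι π hRR hι hπ hex
    rintro ⟨q, n, hn⟩
    exact ⟨n, Subtype.ext hn⟩
  · apply lTensor_injective_of_torsionFree ι π hRR hι hπ hex
    intro q n hn
    obtain ⟨q, rfl⟩ := Submodule.Quotient.mk_surjective _ q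
    rw [← Submodule.Quotient.mk_smul, Submodule.Quotient.mk_eq_zero] at hn
    obtain ⟨m, hm⟩ := hn
    rw [Submodule.Quotient.mk_eq_zero]
    exact ⟨m + n, by rw [pow_add, mul_smul, hm]⟩

/-- **Flatness descends along a glueing pair.** -/
theorem flat_of_glue (hRR : EtGlue.IsGlueingPair R R' f)
    (M : Type u) [AddCommGroup M] [Module R M] [Module.Flat R' (R' ⊗[R] M)]
    [Module.Flat (Localization.Away f) (Localization.Away f ⊗[R] M)] : Module.Flat R M := by
  obtain ⟨K, F, _, _, _, _, _, ι, π, hι, hπ, hex⟩ := exists_presentation R M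
  rw [Module.Flat.iff_lTensor_preserves_injective_linearMap]
  intro N P _ _ _ _ g hg
  have h1 : Function.Injective (ι.lTensor (P ⧸ LinearMap.range g)) :=
    lTensor_injective_of_glue ι π hRR hι hπ hex _
  exact lTensor_injective_of_exact_of_exact_of_rTensor_injective
    (f₁ := ι) (f₂ := π) (g₁ := g) (g₂ := (LinearMap.range g).mkQ)
    hex hπ (LinearMap.exact_map_mkQ_range g) (Submodule.mkQ_surjective _)
    ((ι.lTensor_inj_iff_rTensor_inj _).mp h1)
    (Module.Flat.lTensor_preserves_injective_linearMap _ hg)

end Glue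

end Groth.Agent.Lib.Helper41.GlueFlat
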