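import Groth.Agent.Lib.Helper41.EtGlueTorsion
import Mathlib

/-!
# Glueing pairs and finiteness of algebras

Core lemma for "finite type can be checked on `R'` and `R_f`" along a `QuotPowBijective` pair.
-/

namespace Groth.Agent.Lib.Helper41.GluePairAlg

open TensorProduct Groth.Agent.Lib.Helper41.EtGlueTorsion

universe u

variable {R R' : Type u} [CommRing R] [CommRing R'] [Algebra R R'] {f : R}
variable {A B : Type u} [CommRing A] [CommRing B] [Algebra R A] [Algebra R B] [Algebra A B]
  [IsScalarTower R A B]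

/-- A subalgebra `B₀ ⊆ B` (over `A`) which is "everything after inverting `f`" and "everything
after tensoring with `R'`" is everything. -/
theorem subalgebra_eq_top (hq : EtGlue.QuotPowBijective R R' f) (B₀ : Subalgebra A B)
    (h1 : ∀ b : B, ∃ N : ℕ, f ^ N • b ∈ B₀)
    (h2 : Function.Surjective
      (((B₀.restrictScalars R).val.toLinearMap).lTensor R')) : B₀ = ⊤ := by
  let P : Submodule R B := Subalgebra.toSubmodule (B₀.restrictScalars R)
  have hPmem : ∀ b : B, b ∈ P ↔ b ∈ B₀ := fun b => Iff.rfl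
  have htors : ∀ q : B ⧸ P, ∃ n : ℕ, f ^ n • q = 0 := by
    intro q
    obtain ⟨b, rfl⟩ := Submodule.Quotient.mk_surjective P q
    obtain ⟨N, hN⟩ := h1 b
    refine ⟨N, ?_⟩
    rw [← Submodule.Quotient.mk_smul, Submodule.Quotient.mk_eq_zero]
    exact hN
  have hzero : Subsingleton (R' ⊗[R] (B ⧸ P)) := by
    have hqs : Function.Surjective (P.mkQ.lTensor R') :=
      LinearMap.lTensor_surjective R' (Submodule.mkQ_surjective P)
    have hkill : ∀ z : R' ⊗[R] B, P.mkQ.lTensor R' z = 0 := by
      intro z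
      obtain ⟨w, hw⟩ := h2 z
      rw [← hw, ← LinearMap.comp_apply, ← LinearMap.lTensor_comp]
      have : P.mkQ ∘ₗ (B₀.restrictScalars R).val.toLinearMap = 0 := by
        ext a
        simp only [LinearMap.coe_comp, Function.comp_apply, Submodule.mkQ_apply,
          LinearMap.zero_apply, Submodule.Quotient.mk_eq_zero]
        exact a.2
      rw [this, LinearMap.lTensor_zero, LinearMap.zero_apply]
    refine ⟨fun a b => ?_⟩
    obtain ⟨a', rfl⟩ := hqs a
    obtain ⟨b', rfl⟩ := hqs b
    rw [hkill, hkill]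
  have hQ : Subsingleton (B ⧸ P) := subsingleton_of_fPowTorsion hq htors hzero
  have hP : P = ⊤ := Submodule.Quotient.subsingleton_iff.mp hQ
  rw [eq_top_iff]
  intro b _
  rw [← hPmem, hP]
  trivial

/-- finite type is preserved by `R' ⊗ -`. -/
theorem finiteType_tensorMap {A B : Type u} [CommRing A] [CommRing B] [Algebra R A] [Algebra R B]
    (φ : A →ₐ[R] B) (h : φ.toRingHom.FiniteType) :
    (Algebra.TensorProduct.map (AlgHom.id R R') φ).toRingHom.FiniteType := by
  classical
  algebraize [φ.toRingHom]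
  obtain ⟨n, π, hπ⟩ := Algebra.FiniteType.iff_quotient_mvPolynomial''.mp h
  have hφ : ∀ a : A, algebraMap A B a = φ a := fun a => rfl
  set ψ : R' ⊗[R] A →+* R' ⊗[R] B := (Algebra.TensorProduct.map (AlgHom.id R R') φ).toRingHom
    with hψ
  have hψt : ∀ (r' : R') (a : A), ψ (r' ⊗ₜ[R] a) = r' ⊗ₜ[R] φ a := by
    intro r' a
    simp [ψ]
  let Ψ : MvPolynomial (Fin n) (R' ⊗[R] A) →+* R' ⊗[R] B :=
    MvPolynomial.eval₂Hom ψ (fun i => (1 : R') ⊗ₜ[R] π (MvPolynomial.X i))
  have hΨC : ∀ z, Ψ (MvPolynomial.C z) = ψ z := fun z => MvPolynomial.eval₂Hom_C _ _ z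
  have hΨX : ∀ i, Ψ (MvPolynomial.X i) = (1 : R') ⊗ₜ[R] π (MvPolynomial.X i) :=
    fun i => MvPolynomial.eval₂Hom_X' _ _ i
  have key : ∀ (p : MvPolynomial (Fin n) A) (r' : R'), r' ⊗ₜ[R] π p ∈ Ψ.range := by
    intro p
    induction p using MvPolynomial.induction_on with
    | C a =>
      intro r'
      refine ⟨MvPolynomial.C (r' ⊗ₜ[R] a), ?_⟩
      rw [hΨC, hψt, ← MvPolynomial.algebraMap_eq, π.commutes, hφ]
    | add p q hp hq =>
      intro r'
      rw [map_add, TensorProduct.tmul_add]
      exact Ψ.range.add_mem (hp r') (hq r')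
    | mul_X p i hp =>
      intro r'
      have : r' ⊗ₜ[R] π (p * MvPolynomial.X i) =
          (r' ⊗ₜ[R] π p) * ((1 : R') ⊗ₜ[R] π (MvPolynomial.X i)) := by
        rw [map_mul, Algebra.TensorProduct.tmul_mul_tmul, mul_one]
      rw [this]
      exact Ψ.range.mul_mem (hp r') ⟨MvPolynomial.X i, hΨX i⟩
  have hΨ : Function.Surjective Ψ := by
    intro z
    change z ∈ Ψ.range
    induction z using TensorProduct.induction_on with
    | zero => exact Ψ.range.zero_mem
    | tmul r' b =>
      obtain ⟨p, rfl⟩ := hπ b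
      exact key p r'
    | add x y hx hy => exact Ψ.range.add_mem hx hy
  have hcomp : ψ = Ψ.comp (MvPolynomial.C) := by
    ext z
    · simp [hΨC]
    · simp [hΨC]
  rw [hcomp]
  refine RingHom.FiniteType.comp (RingHom.FiniteType.of_surjective Ψ hΨ) ?_
  rw [← MvPolynomial.algebraMap_eq, RingHom.finiteType_algebraMap]
  infer_instance

end Groth.Agent.Lib.Helper41.GluePairAlg
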