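import Groth.Agent.Lib.Helper41.EtGlueModule
import Groth.Agent.Lib.Helper41.BeauvilleLaszlo
import Groth.Agent.S2004
import Mathlib

/-!
# Base change of a glueing pair along a glueable algebra

If `(R → R', f)` is a glueing pair and `A` is an `R`-algebra which is glueable as an `R`-module, then
`(A → R' ⊗[R] A, f)` is again a glueing pair (`R' ⊗[R] A` is an `A`-algebra via
`Algebra.TensorProduct.rightAlgebra`).
-/

namespace Groth.Agent.Lib.Helper41.GluePairBase

open TensorProduct

universe u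

variable {R R' : Type u} [CommRing R] [CommRing R'] [Algebra R R'] {f : R}

attribute [local instance] Algebra.TensorProduct.rightAlgebra

theorem algebraMap_right_apply (A : Type u) [CommRing A] [Algebra R A] (a : A) :
    algebraMap A (R' ⊗[R] A) a = (1 : R') ⊗ₜ[R] a := rfl

theorem algebraMap_right_pow_mul (A : Type u) [CommRing A] [Algebra R A] (n : ℕ)
    (t : R' ⊗[R] A) :
    algebraMap A (R' ⊗[R] A) (algebraMap R A f) ^ n * t = f ^ n • t := by
  rw [← map_pow, ← map_pow, algebraMap_right_apply, Algebra.algebraMap_eq_smul_one,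
    TensorProduct.tmul_smul, ← Algebra.TensorProduct.one_def, smul_mul_assoc, one_mul]

theorem quotPowBijective_baseChange (hq : EtGlue.QuotPowBijective R R' f)
    (A : Type u) [CommRing A] [Algebra R A] :
    EtGlue.QuotPowBijective A (R' ⊗[R] A) (algebraMap R A f) := by
  intro n hn
  constructor
  · rw [injective_iff_map_eq_zero]
    intro q hq0
    obtain ⟨a, rfl⟩ := Ideal.Quotient.mk_surjective q
    rw [Ideal.quotientMap_mk, Ideal.Quotient.eq_zero_iff_mem, Ideal.map_span,
      Set.image_singleton, Ideal.mem_span_singleton'] at hq0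
    obtain ⟨t, ht⟩ := hq0
    rw [map_pow, mul_comm, algebraMap_right_pow_mul, algebraMap_right_apply] at ht
    obtain ⟨s, hs⟩ := EtGlueModule.exists_smul_eq_of_tmul_eq hq n a t ht.symm
    rw [Ideal.Quotient.eq_zero_iff_mem, Ideal.mem_span_singleton']
    refine ⟨s, ?_⟩
    rw [← hs, mul_comm, ← map_pow, Algebra.smul_def]
  · intro q
    obtain ⟨z, rfl⟩ := Ideal.Quotient.mk_surjective q
    obtain ⟨μ, c₁, hc⟩ := BeauvilleLaszlo.exists_decomp hq n z
    refine ⟨Ideal.Quotient.mk _ μ, ?_⟩
    rw [Ideal.quotientMap_mk, Ideal.Quotient.eq, Ideal.map_span, Set.image_singleton,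
      Ideal.mem_span_singleton']
    refine ⟨-c₁, ?_⟩
    rw [map_pow, mul_comm, algebraMap_right_pow_mul, algebraMap_right_apply, hc]
    simp

/-- **Base change of a glueing pair along a glueable algebra.** -/
theorem isGlueingPair_baseChange (hRR : EtGlue.IsGlueingPair R R' f)
    (A : Type u) [CommRing A] [Algebra R A] (hA : EtGlue.IsGlueable R R' f A) :
    EtGlue.IsGlueingPair A (R' ⊗[R] A) (algebraMap R A f) := by
  rw [Groth.Agent.S2004.result A (R' ⊗[R] A) (algebraMap R A f)
    (quotPowBijective_baseChange hRR.1 A)]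
  obtain ⟨h1, h2⟩ := EtGlueModule.torsion_of_isGlueable hA
  refine ⟨fun x hx h0 => ?_, fun x' hx' => ?_⟩
  · obtain ⟨n, hn⟩ := hx
    apply h1 x ⟨n, ?_⟩ h0
    rw [Algebra.smul_def, map_pow, hn]
  · obtain ⟨n, hn⟩ := hx'
    rw [algebraMap_right_pow_mul] at hn
    obtain ⟨m, ⟨k, hk⟩, hm⟩ := h2 x' ⟨n, hn⟩
    refine ⟨m, ⟨k, ?_⟩, hm⟩
    rw [← map_pow, ← Algebra.smul_def, hk]

end Groth.Agent.Lib.Helper41.GluePairBase
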