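import Groth.Agent.Lib.Helper41.GluePairFinite
import Groth.Agent.Lib.Helper41.GlueFlat
import Mathlib

/-!
# Finite presentation descends along a glueing pair (for flat algebras of finite type)
-/

namespace Groth.Agent.Lib.Helper41.GluePairFP

open TensorProduct

universe u

attribute [local instance] Algebra.TensorProduct.rightAlgebra

section Gen

variable {A : Type u} [CommRing A] (T : Type u) [CommRing T] [Algebra A T]
variable {Q S : Type u} [CommRing Q] [Algebra A Q] [CommRing S] [Algebra A S]

/-- If `T ⊗ S` is finitely presented over `T` and `T ⊗ I → T ⊗ Q` is injective for the kernel `I`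
of a surjection `Q → S` from a finitely presented algebra, then there is a finite subset `s ⊆ I`
such that `T ⊗ J → T ⊗ I` is surjective for every ideal `s ⊆ J ⊆ I`. -/
theorem exists_finset_lTensor_surjective [Algebra.FinitePresentation A Q]
    [Algebra.FinitePresentation T (T ⊗[A] S)] (π : Q →ₐ[A] S) (hπ : Function.Surjective π)
    (hinj : Function.Injective
      (((RingHom.ker π.toRingHom).restrictScalars A).subtype.lTensor T)) :
    ∃ s : Finset Q, (s : Set Q) ⊆ RingHom.ker π.toRingHom ∧
      ∀ (J : Ideal Q) (hJ : J ≤ RingHom.ker π.toRingHom), (s : Set Q) ⊆ J →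
        Function.Surjective ((Submodule.inclusion
          (show J.restrictScalars A ≤ (RingHom.ker π.toRingHom).restrictScalars A from hJ)).lTensor
            T) := by
  classical
  let I : Ideal Q := RingHom.ker π.toRingHom
  let πT : T ⊗[A] Q →ₐ[T] T ⊗[A] S := Algebra.TensorProduct.map (AlgHom.id T T) π
  have hπT : Function.Surjective πT :=
    Algebra.TensorProduct.map_surjective _ _ Function.surjective_id hπ
  have hker : RingHom.ker πT.toRingHom =
      I.map (Algebra.TensorProduct.includeRight : Q →ₐ[A] T ⊗[A] Q) :=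
    Algebra.TensorProduct.lTensor_ker π hπ
  have hfg : (I.map (Algebra.TensorProduct.includeRight : Q →ₐ[A] T ⊗[A] Q)).FG := by
    rw [← hker]
    exact Algebra.FinitePresentation.ker_fG_of_surjective πT hπT
  obtain ⟨s', hs', hspan⟩ := (Submodule.fg_span_iff_fg_span_finset_subset
    (R := T ⊗[A] Q)
    (s := (Algebra.TensorProduct.includeRight : Q →ₐ[A] T ⊗[A] Q) '' (I : Set Q))).mp hfg
  obtain ⟨s, hs, rfl⟩ := Finset.subset_set_image_iff.mp hs'
  refine ⟨s, hs, fun J hJ hsJ => ?_⟩
  have hJmap : J.map (Algebra.TensorProduct.includeRight : Q →ₐ[A] T ⊗[A] Q) =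
      I.map (Algebra.TensorProduct.includeRight : Q →ₐ[A] T ⊗[A] Q) := by
    apply le_antisymm (Ideal.map_mono hJ)
    change Submodule.span _ _ ≤ _
    rw [hspan, Submodule.span_le]
    intro z hz
    rw [Finset.coe_image] at hz
    obtain ⟨q, hq, rfl⟩ := hz
    exact Ideal.mem_map_of_mem _ (hsJ hq)
  have hrange : LinearMap.range ((J.restrictScalars A).subtype.lTensor T) =
      LinearMap.range ((I.restrictScalars A).subtype.lTensor T) := by
    rw [← Ideal.map_includeRight_eq, ← Ideal.map_includeRight_eq, hJmap]
  intro y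
  have hy : (I.restrictScalars A).subtype.lTensor T y ∈
      LinearMap.range ((J.restrictScalars A).subtype.lTensor T) := by
    rw [hrange]
    exact ⟨y, rfl⟩
  obtain ⟨x, hx⟩ := hy
  refine ⟨x, hinj ?_⟩
  rw [← hx, ← LinearMap.comp_apply, ← LinearMap.lTensor_comp]
  rfl

end Gen

variable {R R' : Type u} [CommRing R] [CommRing R'] [Algebra R R'] {f : R}

/-- A linear map which becomes surjective after `R_f ⊗ -` and after `R' ⊗ -` is surjective. -/
theorem surjective_of_lTensor_surjective (hq : EtGlue.QuotPowBijective R R' f)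
    {N M : Type u} [AddCommGroup N] [Module R N] [AddCommGroup M] [Module R M] (ι : N →ₗ[R] M)
    (h1 : Function.Surjective (ι.lTensor (Localization.Away f)))
    (h2 : Function.Surjective (ι.lTensor R')) : Function.Surjective ι := by
  rw [← LinearMap.range_eq_top]
  apply GluePairFinite.submodule_eq_top hq
  · intro m
    obtain ⟨x, hx⟩ := h1 ((1 : Localization.Away f) ⊗ₜ m)
    have h0 : (1 : Localization.Away f) ⊗ₜ[R] ((LinearMap.range ι).mkQ m) = 0 := by
      have h3 := congrArg ((LinearMap.range ι).mkQ.lTensor (Localization.Away f)) hx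
      rw [← LinearMap.comp_apply, ← LinearMap.lTensor_comp, LinearMap.range_mkQ_comp,
        LinearMap.lTensor_zero, LinearMap.zero_apply, LinearMap.lTensor_tmul] at h3
      exact h3.symm
    obtain ⟨n, hn⟩ := GlueFlat.torsion_of_one_tmul_eq_zero _ h0
    refine ⟨n, ?_⟩
    rw [← map_smul, Submodule.mkQ_apply, Submodule.Quotient.mk_eq_zero] at hn
    exact hn
  · intro z
    obtain ⟨x, hx⟩ := h2 z
    refine ⟨ι.rangeRestrict.lTensor R' x, ?_⟩
    rw [← LinearMap.comp_apply, ← LinearMap.lTensor_comp]
    exact hx

/-- **Finite presentation descends along a `QuotPowBijective` pair** for flat algebras of finite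
type. -/
theorem finitePresentation_of_glue (hq : EtGlue.QuotPowBijective R R' f)
    (S : Type u) [CommRing S] [Algebra R S] [Module.Flat R S] [Algebra.FiniteType R S]
    [Algebra.FinitePresentation R' (R' ⊗[R] S)]
    [Algebra.FinitePresentation (Localization.Away f) (Localization.Away f ⊗[R] S)] :
    Algebra.FinitePresentation R S := by
  classical
  obtain ⟨n, π, hπ⟩ := Algebra.FiniteType.iff_quotient_mvPolynomial''.mp
    (inferInstance : Algebra.FiniteType R S)
  let I : Ideal (MvPolynomial (Fin n) R) := RingHom.ker π.toRingHom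
  have hex : Function.Exact ((I.restrictScalars R).subtype) π.toLinearMap := by
    intro x
    constructor
    · intro hx
      exact ⟨⟨x, hx⟩, rfl⟩
    · rintro ⟨y, rfl⟩
      exact y.2
  have hinj' : Function.Injective ((I.restrictScalars R).subtype.lTensor R') :=
    GlueFlat.lTensor_injective_of_flat_quotient _ π.toLinearMap Subtype.val_injective hπ hex R'
  have hinjg : Function.Injective ((I.restrictScalars R).subtype.lTensor (Localization.Away f)) :=
    Module.Flat.lTensor_preserves_injective_linearMap _ Subtype.val_injective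
  obtain ⟨s₁, hs₁, H₁⟩ := exists_finset_lTensor_surjective R' π hπ hinj'
  obtain ⟨s₂, hs₂, H₂⟩ := exists_finset_lTensor_surjective (Localization.Away f) π hπ hinjg
  let J : Ideal (MvPolynomial (Fin n) R) :=
    Ideal.span ((s₁ ∪ s₂ : Finset (MvPolynomial (Fin n) R)) : Set (MvPolynomial (Fin n) R))
  have hJI : J ≤ I := by
    apply Ideal.span_le.mpr
    rw [Finset.coe_union]
    exact Set.union_subset hs₁ hs₂
  have hs₁J : (s₁ : Set (MvPolynomial (Fin n) R)) ⊆ J := by
    refine subset_trans ?_ Ideal.subset_span
    rw [Finset.coe_union]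
    exact Set.subset_union_left
  have hs₂J : (s₂ : Set (MvPolynomial (Fin n) R)) ⊆ J := by
    refine subset_trans ?_ Ideal.subset_span
    rw [Finset.coe_union]
    exact Set.subset_union_right
  have hsurj := surjective_of_lTensor_surjective hq _ (H₂ J hJI hs₂J) (H₁ J hJI hs₁J)
  have hIJ : I = J := by
    apply le_antisymm _ hJI
    intro x hx
    obtain ⟨y, hy⟩ := hsurj ⟨x, hx⟩
    have : (y : MvPolynomial (Fin n) R) = x := congrArg Subtype.val hy
    rw [← this]
    exact y.2
  refine Algebra.FinitePresentation.of_surjective hπ ?_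
  change I.FG
  rw [hIJ]
  exact ⟨_, rfl⟩

end Groth.Agent.Lib.Helper41.GluePairFP
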