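import Groth.Agent.Lib.Helper41.EtGlueTorsion
import Mathlib

/-!
# Glueing pairs and finiteness of modules / finite ring maps
-/

namespace Groth.Agent.Lib.Helper41.GluePairFinite

open TensorProduct Groth.Agent.Lib.Helper41.EtGlueTorsion

universe u

variable {R R' : Type u} [CommRing R] [CommRing R'] [Algebra R R'] {f : R}

/-- A submodule `P ⊆ M` which is "everything after inverting `f`" and "everything after
tensoring with `R'`" is everything. -/
theorem submodule_eq_top {M : Type u} [AddCommGroup M] [Module R M]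
    (hq : EtGlue.QuotPowBijective R R' f) (P : Submodule R M)
    (h1 : ∀ m : M, ∃ N : ℕ, f ^ N • m ∈ P)
    (h2 : Function.Surjective (P.subtype.lTensor R')) : P = ⊤ := by
  have htors : ∀ q : M ⧸ P, ∃ n : ℕ, f ^ n • q = 0 := by
    intro q
    obtain ⟨b, rfl⟩ := Submodule.Quotient.mk_surjective P q
    obtain ⟨N, hN⟩ := h1 b
    refine ⟨N, ?_⟩
    rw [← Submodule.Quotient.mk_smul, Submodule.Quotient.mk_eq_zero]
    exact hN
  have hzero : Subsingleton (R' ⊗[R] (M ⧸ P)) := by
    have hqs : Function.Surjective (P.mkQ.lTensor R') :=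
      LinearMap.lTensor_surjective R' (Submodule.mkQ_surjective P)
    have hkill : ∀ z : R' ⊗[R] M, P.mkQ.lTensor R' z = 0 := by
      intro z
      obtain ⟨w, hw⟩ := h2 z
      rw [← hw, ← LinearMap.comp_apply, ← LinearMap.lTensor_comp]
      have : P.mkQ ∘ₗ P.subtype = 0 := by
        ext a
        simp
      rw [this, LinearMap.lTensor_zero, LinearMap.zero_apply]
    refine ⟨fun a b => ?_⟩
    obtain ⟨a', rfl⟩ := hqs a
    obtain ⟨b', rfl⟩ := hqs b
    rw [hkill, hkill]
  have hQ : Subsingleton (M ⧸ P) := subsingleton_of_fPowTorsion hq htors hzero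
  exact Submodule.Quotient.subsingleton_iff.mp hQ

/-- finiteness is preserved by `R' ⊗ -`. -/
theorem finite_tensorMap {A B : Type u} [CommRing A] [CommRing B] [Algebra R A] [Algebra R B]
    (φ : A →ₐ[R] B) (h : φ.toRingHom.Finite) :
    (Algebra.TensorProduct.map (AlgHom.id R R') φ).toRingHom.Finite := by
  classical
  algebraize [φ.toRingHom, (Algebra.TensorProduct.map (AlgHom.id R R') φ).toRingHom]
  have hφ : ∀ (a : A) (b : B), a • b = φ a * b := fun a b => rfl
  have hψ : ∀ (z : R' ⊗[R] A) (w : R' ⊗[R] B),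
      z • w = Algebra.TensorProduct.map (AlgHom.id R R') φ z * w := fun z w => rfl
  obtain ⟨s, hs⟩ := (inferInstance : Module.Finite A B).fg_top
  change Module.Finite (R' ⊗[R] A) (R' ⊗[R] B)
  refine ⟨⟨s.image (fun b => (1 : R') ⊗ₜ[R] b), ?_⟩⟩
  rw [eq_top_iff]
  have key : ∀ b : B, ∀ r' : R', r' ⊗ₜ[R] b ∈ Submodule.span (R' ⊗[R] A)
      ((s.image (fun b => (1 : R') ⊗ₜ[R] b) : Finset (R' ⊗[R] B)) : Set (R' ⊗[R] B)) := by
    intro b
    have hb : b ∈ Submodule.span A (s : Set B) := by rw [hs]; trivial
    induction hb using Submodule.span_induction with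
    | mem x hx =>
      intro r'
      have : r' ⊗ₜ[R] x = (r' ⊗ₜ[R] (1 : A)) • ((1 : R') ⊗ₜ[R] x) := by
        rw [hψ, Algebra.TensorProduct.map_tmul, Algebra.TensorProduct.tmul_mul_tmul, map_one,
          one_mul, AlgHom.id_apply, mul_one]
      rw [this]
      apply Submodule.smul_mem
      apply Submodule.subset_span
      rw [Finset.coe_image]
      exact ⟨x, hx, rfl⟩
    | zero =>
      intro r'
      rw [TensorProduct.tmul_zero]
      exact Submodule.zero_mem _
    | add x y _ _ hx hy =>
      intro r'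
      rw [TensorProduct.tmul_add]
      exact Submodule.add_mem _ (hx r') (hy r')
    | smul a x _ hx =>
      intro r'
      have : r' ⊗ₜ[R] (a • x) = ((1 : R') ⊗ₜ[R] a) • (r' ⊗ₜ[R] x) := by
        rw [hψ, Algebra.TensorProduct.map_tmul, Algebra.TensorProduct.tmul_mul_tmul,
          AlgHom.id_apply, one_mul, hφ]
      rw [this]
      exact Submodule.smul_mem _ _ (hx r')
  intro z _
  induction z using TensorProduct.induction_on with
  | zero => exact Submodule.zero_mem _
  | tmul r' b => exact key b r'
  | add x y hx hy => exact Submodule.add_mem _ (hx trivial) (hy trivial)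

end Groth.Agent.Lib.Helper41.GluePairFinite
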