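import Groth.Agent.Lib.Helper41.GluePairBase
import Groth.Agent.Lib.Helper41.GlueFlat
import Mathlib

/-!
# Flatness of algebra maps descends along a glueing pair
-/

namespace Groth.Agent.Lib.Helper41.GluePairFlatAlg

open TensorProduct

universe u

variable {R R' : Type u} [CommRing R] [CommRing R'] [Algebra R R'] {f : R}

attribute [local instance] Algebra.TensorProduct.rightAlgebra

section

variable {A B : Type u} [CommRing A] [Algebra R A] [CommRing B] [Algebra R B] [Algebra A B]
  [IsScalarTower R A B]

/-- The comparison `(R' ⊗[R] A) ⊗[A] B ≃ R' ⊗[R] B`, linear over `R' ⊗[R] A` where the latter acts on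
the right-hand side through `Algebra.TensorProduct.map (AlgHom.id R R') (IsScalarTower.toAlgHom R A B)`. -/
theorem flat_tensor_of_flat_map
    (H2 : (Algebra.TensorProduct.map (AlgHom.id R R') (IsScalarTower.toAlgHom R A B)).toRingHom.Flat) :
    Module.Flat (R' ⊗[R] A) ((R' ⊗[R] A) ⊗[A] B) := by
  algebraize [(Algebra.TensorProduct.map (AlgHom.id R R') (IsScalarTower.toAlgHom R A B)).toRingHom]
  let e : R' ⊗[R] B ≃ₐ[R' ⊗[R] A] (R' ⊗[R] A) ⊗[A] B :=
    { __ := (Algebra.IsPushout.cancelBaseChangeAlg _ _ _ _ _).symm,
      commutes' x := congr($(Algebra.IsPushout.cancelBaseChange_symm_comp_lTensor R A B R') x) }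
  exact .of_linearEquiv e.symm.toLinearEquiv

/-- `A_f ⊗[A] B ≃ B_f`, and flatness. -/
theorem flat_tensor_away_of_flat_awayMap (g : A)
    (H1 : (Localization.awayMap (algebraMap A B) g).Flat) :
    Module.Flat (Localization.Away g) (Localization.Away g ⊗[A] B) := by
  algebraize [Localization.awayMap (algebraMap A B) g]
  have hst : IsScalarTower A (Localization.Away g) (Localization.Away (algebraMap A B g)) := by
    apply IsScalarTower.of_algebraMap_eq'
    rw [IsScalarTower.algebraMap_eq A B (Localization.Away (algebraMap A B g))]
    change _ = (Localization.awayMap (algebraMap A B) g).comp _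
    simp only [Localization.awayMap, IsLocalization.Away.map, IsLocalization.map_comp]
  have hloc : IsLocalization (Algebra.algebraMapSubmonoid B (Submonoid.powers g))
      (Localization.Away (algebraMap A B g)) := by
    rw [Algebra.algebraMapSubmonoid_powers]
    exact (inferInstance : IsLocalization.Away (algebraMap A B g)
      (Localization.Away (algebraMap A B g)))
  have hlm : IsLocalizedModule (Submonoid.powers g)
      (IsScalarTower.toAlgHom A B (Localization.Away (algebraMap A B g))).toLinearMap :=
    isLocalizedModule_iff_isLocalization.mpr hloc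
  have hbc := IsLocalizedModule.isBaseChange (Submonoid.powers g) (Localization.Away g)
    (IsScalarTower.toAlgHom A B (Localization.Away (algebraMap A B g))).toLinearMap
  exact .of_linearEquiv hbc.equiv

end

/-- **Flatness descends along a glueing pair** (for algebra maps out of a glueable algebra). -/
theorem flat_of_glue_alg (hRR : EtGlue.IsGlueingPair R R' f)
    (A B : Type u) [CommRing A] [Algebra R A] [CommRing B] [Algebra R B]
    (hA : EtGlue.IsGlueable R R' f A) (φ : A →ₐ[R] B)
    (H1 : (Localization.awayMap φ.toRingHom (algebraMap R A f)).Flat)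
    (H2 : (Algebra.TensorProduct.map (AlgHom.id R R') φ).toRingHom.Flat) :
    φ.toRingHom.Flat := by
  have hGP := GluePairBase.isGlueingPair_baseChange hRR A hA
  algebraize [φ.toRingHom]
  have : IsScalarTower R A B := IsScalarTower.of_algebraMap_eq (fun r => (φ.commutes r).symm)
  have hφ : IsScalarTower.toAlgHom R A B = φ := AlgHom.ext fun _ => rfl
  have h1 : Module.Flat (R' ⊗[R] A) ((R' ⊗[R] A) ⊗[A] B) :=
    flat_tensor_of_flat_map (by rw [hφ]; exact H2)
  have h2 : Module.Flat (Localization.Away (algebraMap R A f))
      (Localization.Away (algebraMap R A f) ⊗[A] B) :=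
    flat_tensor_away_of_flat_awayMap (algebraMap R A f) H1
  exact GlueFlat.flat_of_glue hGP B

end Groth.Agent.Lib.Helper41.GluePairFlatAlg
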