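import Mathlib

/-!
# Transfer of ring hom properties between the two forms of the pieces of a glueing situation

For an `R`-algebra map `A → B` (given as `[Algebra A B] [IsScalarTower R A B]`), an `R`-algebra `R'`
and `g : A`:
* `tensorMap_iff`: `P (R' ⊗[R] A → R' ⊗[R] B) ↔ P (A' → A' ⊗[A] B)` where `A' = R' ⊗[R] A`;
* `awayMap_iff`: `P (A_g → B_g) ↔ P (A_g → A_g ⊗[A] B)`,
for any `P` respecting isomorphisms.
-/

namespace Groth.Agent.Lib.Helper41.GluePairTransfer

open TensorProduct

universe u

variable {R R' : Type u} [CommRing R] [CommRing R'] [Algebra R R']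

attribute [local instance] Algebra.TensorProduct.rightAlgebra

variable {A B : Type u} [CommRing A] [Algebra R A] [CommRing B] [Algebra R B] [Algebra A B]
  [IsScalarTower R A B]

variable {P : ∀ {R S : Type u} [CommRing R] [CommRing S] (_ : R →+* S), Prop}

theorem tensorMap_iff (hP : RingHom.RespectsIso @P) :
    P (Algebra.TensorProduct.map (AlgHom.id R R') (IsScalarTower.toAlgHom R A B)).toRingHom ↔
      P (algebraMap (R' ⊗[R] A) ((R' ⊗[R] A) ⊗[A] B)) := by
  algebraize [(Algebra.TensorProduct.map (AlgHom.id R R') (IsScalarTower.toAlgHom R A B)).toRingHom]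
  let e : R' ⊗[R] B ≃ₐ[R' ⊗[R] A] (R' ⊗[R] A) ⊗[A] B :=
    { __ := (Algebra.IsPushout.cancelBaseChangeAlg _ _ _ _ _).symm,
      commutes' x := congr($(Algebra.IsPushout.cancelBaseChange_symm_comp_lTensor R A B R') x) }
  have h1 : algebraMap (R' ⊗[R] A) ((R' ⊗[R] A) ⊗[A] B) =
      e.toRingEquiv.toRingHom.comp (algebraMap (R' ⊗[R] A) (R' ⊗[R] B)) := by
    refine RingHom.ext fun x => ?_
    exact (e.commutes x).symm
  have h2 : algebraMap (R' ⊗[R] A) (R' ⊗[R] B) =
      e.symm.toRingEquiv.toRingHom.comp (algebraMap (R' ⊗[R] A) ((R' ⊗[R] A) ⊗[A] B)) := by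
    refine RingHom.ext fun x => ?_
    exact (e.symm.commutes x).symm
  change P (algebraMap (R' ⊗[R] A) (R' ⊗[R] B)) ↔ _
  constructor
  · intro h
    rw [h1]
    exact hP.1 _ _ h
  · intro h
    rw [h2]
    exact hP.1 _ _ h

theorem awayMap_iff (hP : RingHom.RespectsIso @P) (g : A) :
    P (Localization.awayMap (algebraMap A B) g) ↔
      P (algebraMap (Localization.Away g) (Localization.Away g ⊗[A] B)) := by
  have h := hP.isLocalization_away_iff (Localization.Away g) (Localization.Away g ⊗[A] B)
    (algebraMap A B) g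
  rw [h]
  have : IsLocalization.Away.map (Localization.Away g) (Localization.Away g ⊗[A] B)
      (algebraMap A B) g = algebraMap (Localization.Away g) (Localization.Away g ⊗[A] B) := by
    apply IsLocalization.ringHom_ext (Submonoid.powers g)
    ext x
    simp only [IsLocalization.Away.map, IsLocalization.map_comp, RingHom.comp_apply]
    rw [Algebra.TensorProduct.algebraMap_apply, Algebra.algebraMap_self, RingHom.id_apply,
      Algebra.algebraMap_eq_smul_one x]
    change (1 : Localization.Away g) ⊗ₜ[A] (x • (1 : B)) = _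
    rw [← TensorProduct.smul_tmul, ← Algebra.algebraMap_eq_smul_one]
  rw [this]

end Groth.Agent.Lib.Helper41.GluePairTransfer
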