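import Groth.Agent.Lib.Helper41.EtGlueTorsion
import Groth.Agent.Lib.Helper41.GlueFlat
import Mathlib

/-!
# Formal unramifiedness descends along a `QuotPowBijective` pair
-/

namespace Groth.Agent.Lib.Helper41.GluePairUnram

open TensorProduct KaehlerDifferential

universe u

variable {R R' : Type u} [CommRing R] [CommRing R'] [Algebra R R'] {f : R}

attribute [local instance] Algebra.TensorProduct.rightAlgebra

theorem subsingleton_tensor_kaehler (T : Type u) [CommRing T] [Algebra R T]
    (S : Type u) [CommRing S] [Algebra R S] [Algebra.FormallyUnramified T (T ⊗[R] S)] :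
    Subsingleton (T ⊗[R] Ω[S⁄R]) :=
  (KaehlerDifferential.tensorKaehlerEquivBase R T S (T ⊗[R] S)).toEquiv.subsingleton

/-- If `R' ⊗ S` is formally unramified over `R'` and `R_f ⊗ S` is formally unramified over `R_f`
then `S` is formally unramified over `R`. -/
theorem formallyUnramified_of_glue (hq : EtGlue.QuotPowBijective R R' f)
    (S : Type u) [CommRing S] [Algebra R S]
    [Algebra.FormallyUnramified R' (R' ⊗[R] S)]
    [Algebra.FormallyUnramified (Localization.Away f) (Localization.Away f ⊗[R] S)] :
    Algebra.FormallyUnramified R S := by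
  have h1 : Subsingleton (R' ⊗[R] Ω[S⁄R]) := subsingleton_tensor_kaehler R' S
  have h2 : Subsingleton (Localization.Away f ⊗[R] Ω[S⁄R]) :=
    subsingleton_tensor_kaehler (Localization.Away f) S
  refine ⟨EtGlueTorsion.subsingleton_of_fPowTorsion hq (fun m => ?_) h1⟩
  exact GlueFlat.torsion_of_one_tmul_eq_zero m (Subsingleton.elim _ _)

end Groth.Agent.Lib.Helper41.GluePairUnram
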