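import Groth.Agent.Lib.Helper41.GlueFlat
import Mathlib

/-!
# Finite projectivity along a glueing pair: auxiliary lemmas
-/

namespace Groth.Agent.Lib.Helper41.GlueProjective

open TensorProduct

universe u

/-- In a short exact sequence `0 → K → F → M → 0` with `F` finite and `M` projective, `K` is
finite. -/
theorem finite_of_exact_of_projective {S : Type u} [CommRing S]
    {K F M : Type u} [AddCommGroup K] [Module S K] [AddCommGroup F] [Module S F]
    [AddCommGroup M] [Module S M] [Module.Finite S F] [Module.Projective S M]
    (ι : K →ₗ[S] F) (π : F →ₗ[S] M) (hι : Function.Injective ι) (hπ : Function.Surjective π)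
    (hex : Function.Exact ι π) : Module.Finite S K := by
  obtain ⟨s, hs⟩ := Module.projective_lifting_property π LinearMap.id hπ
  have hs' : ∀ m, π (s m) = m := fun m => by
    have := congrArg (fun g => g m) hs
    simpa using this
  let e : F →ₗ[S] F := LinearMap.id - s ∘ₗ π
  have hrange : LinearMap.range e = LinearMap.range ι := by
    apply le_antisymm
    · rintro _ ⟨x, rfl⟩
      have h0 : π (e x) = 0 := by simp [e, hs']
      exact (hex (e x)).mp h0
    · rintro _ ⟨k, rfl⟩
      refine ⟨ι k, ?_⟩
      simp [e, hex.apply_apply_eq_zero k]
  have h1 : Module.Finite S (LinearMap.range e) := Module.Finite.range e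
  have h2 : Module.Finite S (LinearMap.range ι) := by rw [← hrange]; exact h1
  exact Module.Finite.equiv (LinearEquiv.ofInjective ι hι).symm

end Groth.Agent.Lib.Helper41.GlueProjective
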