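import Groth.Agent.Lib.Helper41.GlueFlat
import Groth.Agent.Lib.Helper63.TorBridge
import Groth.Prelude.Def_DRing2
import Mathlib

/-!
# `Tor₁(R', C) = 0` for a glueing pair when `R_f ⊗ C` is flat over `R_f`
-/

namespace Groth.Agent.Lib.Helper41.GlueTor

open TensorProduct Groth.Agent.Lib.Helper41.GlueFlat

universe u

variable {R R' : Type u} [CommRing R] [CommRing R'] [Algebra R R'] {f : R}

/-- every module has a free presentation (with opaque types). -/
theorem exists_free_presentation (R : Type u) [CommRing R] (M : Type u) [AddCommGroup M]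
    [Module R M] :
    ∃ (K F : Type u) (_ : AddCommGroup K) (_ : Module R K) (_ : AddCommGroup F) (_ : Module R F)
      (_ : Module.Free R F) (ι : K →ₗ[R] F) (π : F →ₗ[R] M),
      Function.Injective ι ∧ Function.Surjective π ∧ Function.Exact ι π := by
  let π : (M →₀ R) →ₗ[R] M := Finsupp.linearCombination R id
  exact ⟨LinearMap.ker π, M →₀ R, inferInstance, inferInstance, inferInstance, inferInstance,
    inferInstance, (LinearMap.ker π).subtype, π, (LinearMap.ker π).injective_subtype,
    Finsupp.linearCombination_id_surjective R M, LinearMap.exact_subtype_ker_map π⟩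

/-- `Tor₁^R(R', C) = 0` for a glueing pair whenever `R_f ⊗ C` is `R_f`-flat. -/
theorem tor_one_subsingleton_of_flat_loc (hRR : EtGlue.IsGlueingPair R R' f)
    (C : Type u) [AddCommGroup C] [Module R C]
    [Module.Flat (Localization.Away f) (Localization.Away f ⊗[R] C)] :
    Subsingleton (DRing.Tor R 1 R' C) := by
  classical
  obtain ⟨K, F, _, _, _, _, _, ι, π, hι, hπ, hex⟩ := exists_free_presentation R C
  have key : Function.Injective (ι.lTensor R') := lTensor_base_injective ι π hRR hι hπ hex
  have hS : (ModuleCat.shortComplexOfCompEqZero ι π hex.linearMap_comp_eq_zero).ShortExact :=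
    ModuleCat.shortComplex_shortExact _ hex hι hπ
  have hproj : CategoryTheory.Projective
      (ModuleCat.shortComplexOfCompEqZero ι π hex.linearMap_comp_eq_zero).X₂ := by
    change CategoryTheory.Projective (ModuleCat.of R F)
    rw [← IsProjective.iff_projective]
    infer_instance
  have hz := (Groth.Agent.Lib.Helper63.tor_one_isZero_iff (ModuleCat.of R R') _ hS).mpr key
  exact ModuleCat.subsingleton_of_isZero hz

/-- `R_f ⊗ C = 0` for `f`-power torsion `C`. -/
theorem subsingleton_loc_tensor_of_torsion (C : Type u) [AddCommGroup C] [Module R C]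
    (hC : ∀ c : C, ∃ n : ℕ, f ^ n • c = 0) :
    Subsingleton (Localization.Away f ⊗[R] C) := by
  have hz : ∀ z : Localization.Away f ⊗[R] C, z = 0 := by
    intro z
    induction z using TensorProduct.induction_on with
    | zero => rfl
    | tmul r c =>
      have h1 := one_tmul_eq_zero_of_torsion c (hC c)
      have h2 : r ⊗ₜ[R] c = r • ((1 : Localization.Away f) ⊗ₜ[R] c) := by
        rw [TensorProduct.smul_tmul', smul_eq_mul, mul_one]
      rw [h2, h1, smul_zero]
    | add x y hx hy => rw [hx, hy, add_zero]
  exact ⟨fun a b => (hz a).trans (hz b).symm⟩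

/-- `Tor₁^R(R', C) = 0` for a glueing pair and `f`-power torsion `C`. -/
theorem tor_one_subsingleton_of_torsion (hRR : EtGlue.IsGlueingPair R R' f)
    (C : Type u) [AddCommGroup C] [Module R C] (hC : ∀ c : C, ∃ n : ℕ, f ^ n • c = 0) :
    Subsingleton (DRing.Tor R 1 R' C) := by
  have hsub := subsingleton_loc_tensor_of_torsion C hC
  exact tor_one_subsingleton_of_flat_loc hRR C

end Groth.Agent.Lib.Helper41.GlueTor
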