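import Mathlib

/-!
# Factors of homogeneous polynomials are homogeneous (helper41)

* `eq_C_mul_X_pow_of_mul_eq`: over a domain, a factor of a nonzero monomial `c * X ^ n` is a monomial.
* `scale`: the substitution `X i ↦ X i * λ`; `coeff_scale`: its `λ^d`-coefficient is the `d`-th
  homogeneous component.
* `isHomogeneous_of_mul`: over a domain, if `p * q` is homogeneous and nonzero then `p` is homogeneous.
-/

set_option autoImplicit false

namespace Groth.Agent.Lib.Helper41.HomogFactor

open MvPolynomial

section Monomial

variable {S : Type*} [CommRing S] [IsDomain S]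

/-- In `S[X]` over a domain: a factor of a nonzero monomial is a monomial. -/
lemma eq_C_mul_X_pow_of_mul_eq {A B : Polynomial S} {c : S} {n : ℕ} (hc : c ≠ 0)
    (h : A * B = Polynomial.C c * Polynomial.X ^ n) :
    A = Polynomial.C A.leadingCoeff * Polynomial.X ^ A.natDegree := by
  have hne : A * B ≠ 0 := by
    rw [h, Polynomial.C_mul_X_pow_eq_monomial]
    exact (Polynomial.monomial_eq_zero_iff c n).not.mpr hc
  have hA : A ≠ 0 := left_ne_zero_of_mul hne
  have hB : B ≠ 0 := right_ne_zero_of_mul hne
  have h1 : (A * B).natDegree = n := by rw [h, Polynomial.natDegree_C_mul_X_pow n c hc]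
  have h2 : (A * B).natTrailingDegree = n := by
    rw [h, Polynomial.C_mul_X_pow_eq_monomial, Polynomial.natTrailingDegree_monomial hc]
  rw [Polynomial.natDegree_mul hA hB] at h1
  rw [Polynomial.natTrailingDegree_mul hA hB] at h2
  have hA' := Polynomial.natTrailingDegree_le_natDegree A
  have hB' := Polynomial.natTrailingDegree_le_natDegree B
  have hAeq : A.natTrailingDegree = A.natDegree := by omega
  ext i
  rw [Polynomial.coeff_C_mul_X_pow]
  split_ifs with hi
  · rw [hi]; rfl
  · rcases lt_or_gt_of_ne hi with hlt | hgt
    · exact Polynomial.coeff_eq_zero_of_lt_natTrailingDegree (hAeq ▸ hlt)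
    · exact Polynomial.coeff_eq_zero_of_natDegree_lt hgt

end Monomial

section Scale

variable {σ : Type*} {R : Type*} [CommRing R]

/-- The substitution `X i ↦ X i * λ`. -/
noncomputable def scale : MvPolynomial σ R →ₐ[R] Polynomial (MvPolynomial σ R) :=
  aeval fun i => Polynomial.C (X i) * Polynomial.X

lemma scale_monomial (s : σ →₀ ℕ) (c : R) :
    scale (monomial s c) = Polynomial.C (monomial s c) * Polynomial.X ^ s.degree := by
  rw [scale, aeval_monomial, monomial_eq, Finsupp.prod, Finsupp.prod, Finsupp.degree_apply]
  simp only [mul_pow, Finset.prod_mul_distrib, Finset.prod_pow_eq_pow_sum, map_mul, map_prod,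
    map_pow, Polynomial.algebraMap_apply, algebraMap_eq]
  ring

lemma scale_of_isHomogeneous {p : MvPolynomial σ R} {n : ℕ} (hp : p.IsHomogeneous n) :
    scale p = Polynomial.C p * Polynomial.X ^ n := by
  conv_lhs => rw [← support_sum_monomial_coeff p]
  rw [map_sum]
  conv_rhs => rw [← support_sum_monomial_coeff p]
  rw [map_sum, Finset.sum_mul]
  apply Finset.sum_congr rfl
  intro s hs
  rw [scale_monomial]
  congr 2
  by_contra hne
  exact (mem_support_iff.mp hs) (hp.coeff_eq_zero hne)

lemma scale_eq_sum (p : MvPolynomial σ R) :
    scale p = ∑ d ∈ Finset.range (p.totalDegree + 1),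
      Polynomial.C (homogeneousComponent d p) * Polynomial.X ^ d := by
  conv_lhs => rw [← sum_homogeneousComponent p]
  rw [map_sum]
  apply Finset.sum_congr rfl
  intro d _
  exact scale_of_isHomogeneous (homogeneousComponent_isHomogeneous d p)

lemma coeff_scale (p : MvPolynomial σ R) (d : ℕ) :
    (scale p).coeff d = homogeneousComponent d p := by
  classical
  rw [scale_eq_sum, Polynomial.finsetSum_coeff]
  simp only [Polynomial.coeff_C_mul_X_pow]
  rw [Finset.sum_ite_eq]
  split_ifs with h
  · rfl
  · rw [Finset.mem_range, not_lt] at h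
    exact (homogeneousComponent_eq_zero d p (by omega)).symm

lemma isHomogeneous_of_scale_eq {p p' : MvPolynomial σ R} {a : ℕ}
    (h : scale p = Polynomial.C p' * Polynomial.X ^ a) : p.IsHomogeneous a := by
  have hc : ∀ d, homogeneousComponent d p = if d = a then p' else 0 := by
    intro d
    rw [← coeff_scale, h, Polynomial.coeff_C_mul_X_pow]
  have : p = homogeneousComponent a p := by
    conv_lhs => rw [← sum_homogeneousComponent p]
    simp only [hc]
    rw [Finset.sum_ite_eq']
    simp only [if_true]
    split_ifs with h1
    · rfl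
    · rw [Finset.mem_range, not_lt] at h1
      have := hc a
      rw [if_pos rfl] at this
      rw [← this]
      exact (homogeneousComponent_eq_zero a p (by omega)).symm
  rw [this]
  exact homogeneousComponent_isHomogeneous a p

/-- Over a domain, a factor of a nonzero homogeneous polynomial is homogeneous. -/
theorem isHomogeneous_of_mul [IsDomain R] {p q : MvPolynomial σ R} {n : ℕ}
    (h : (p * q).IsHomogeneous n) (hne : p * q ≠ 0) : ∃ a, p.IsHomogeneous a := by
  have h1 : scale p * scale q = Polynomial.C (p * q) * Polynomial.X ^ n := by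
    rw [← map_mul, scale_of_isHomogeneous h]
  have h2 := eq_C_mul_X_pow_of_mul_eq hne h1
  exact ⟨_, isHomogeneous_of_scale_eq h2⟩

end Scale

end Groth.Agent.Lib.Helper41.HomogFactor
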