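import Mathlib
import Groth.Agent.Lib.Helper41.HomogFactor

/-!
# Irreducibility of `F(X₁T, …, XₙT)` (helper41)

If `G ∈ k[X][T]` has `T^d`-coefficient the degree-`d` homogeneous component of an irreducible
`F ∈ k[X]` with `F(0) ≠ 0`, then `G` is irreducible in `k[X][T]`.
-/

set_option autoImplicit false

namespace Groth.Agent.Lib.Helper41.HomogFactor

open MvPolynomial

section TH

variable {k : Type*} [Field k] {σ : Type*}

/-- `P ∈ k[X][T]` is totally homogeneous of degree `n` (in `X` and `T` together). -/
def TH (P : Polynomial (MvPolynomial σ k)) (n : ℕ) : Prop :=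
  ((optionEquivLeft k σ).symm P).IsHomogeneous n

lemma TH.of_mul {P Q : Polynomial (MvPolynomial σ k)} {n : ℕ} (h : TH (P * Q) n)
    (hne : P * Q ≠ 0) : ∃ a, TH P a := by
  unfold TH at h ⊢
  rw [map_mul] at h
  refine isHomogeneous_of_mul h ?_
  rw [← map_mul]
  exact (map_ne_zero_iff _ (optionEquivLeft k σ).symm.injective).mpr hne

lemma TH.coeff [Finite σ] {P : Polynomial (MvPolynomial σ k)} {n : ℕ} (h : TH P n) (i j : ℕ)
    (hij : i + j = n) : (P.coeff i).IsHomogeneous j :=
  IsHomogeneous.coeff_isHomogeneous_of_optionEquivLeft_symm h i j hij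

lemma TH.natDegree_le {P : Polynomial (MvPolynomial σ k)} {n : ℕ} (h : TH P n) :
    P.natDegree ≤ n := by
  have h1 := natDegree_optionEquivLeft k ((optionEquivLeft k σ).symm P)
  rw [AlgEquiv.apply_symm_apply] at h1
  rw [h1]
  exact (degreeOf_le_totalDegree _ _).trans h.totalDegree_le

lemma TH.of_sum (n : ℕ) (c : ℕ → MvPolynomial σ k)
    (hc : ∀ i ∈ Finset.range (n + 1), (c i).IsHomogeneous (n - i)) :
    TH (∑ i ∈ Finset.range (n + 1), Polynomial.C (c i) * Polynomial.X ^ i) n := by
  unfold TH
  rw [map_sum]
  apply IsHomogeneous.sum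
  intro i hi
  rw [map_mul, map_pow, optionEquivLeft_symm_apply, optionEquivLeft_symm_apply,
    Polynomial.aevalTower_C, Polynomial.aevalTower_X]
  have h1 : (rename some (c i) : MvPolynomial (Option σ) k).IsHomogeneous (n - i) :=
    (hc i hi).rename_isHomogeneous
  have h2 := (isHomogeneous_X_pow (R := k) (none : Option σ) i)
  have := h1.mul h2
  rw [Finset.mem_range] at hi
  rwa [Nat.sub_add_cancel (by omega)] at this

/-- A totally homogeneous polynomial whose value at `T = 1` is a constant is a monomial in `T`. -/
lemma TH.eq_of_eval_one [Finite σ] {A : Polynomial (MvPolynomial σ k)} {a : ℕ} (h : TH A a) {c : k}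
    (hc : A.eval 1 = C c) : A = Polynomial.C (C c) * Polynomial.X ^ a := by
  classical
  have hdeg : A.natDegree < a + 1 := Nat.lt_succ_of_le h.natDegree_le
  have hsum : ∑ i ∈ Finset.range (a + 1), A.coeff i = C c := by
    rw [← hc, Polynomial.eval_eq_sum_range' hdeg]
    simp
  have hcomp : ∀ j, j ≤ a → homogeneousComponent j (C c : MvPolynomial σ k) = A.coeff (a - j) := by
    intro j hj
    rw [← hsum, map_sum]
    rw [Finset.sum_eq_single (a - j)]
    · exact homogeneousComponent_eq_self (h.coeff (a - j) j (by omega))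
    · intro i hi hne
      rw [Finset.mem_range] at hi
      rw [homogeneousComponent_of_mem (h.coeff i (a - i) (by omega)), if_neg (by omega)]
    · intro hn
      exact absurd (Finset.mem_range.mpr (by omega)) hn
  have hC : ∀ j, homogeneousComponent j (C c : MvPolynomial σ k) = if j = 0 then C c else 0 :=
    fun j => homogeneousComponent_of_mem (isHomogeneous_C σ c)
  ext1 i
  rw [Polynomial.coeff_C_mul_X_pow]
  split_ifs with hi
  · subst hi
    have := hcomp 0 (Nat.zero_le _)
    rw [hC, if_pos rfl, Nat.sub_zero] at this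
    exact this.symm
  · rcases lt_or_gt_of_ne hi with hlt | hgt
    · have := hcomp (a - i) (Nat.sub_le _ _)
      rw [hC, if_neg (by omega), Nat.sub_sub_self hlt.le] at this
      exact this.symm
    · exact Polynomial.coeff_eq_zero_of_natDegree_lt (lt_of_le_of_lt h.natDegree_le hgt)

end TH

section Main

variable {k : Type*} [Field k] {σ : Type*} [Finite σ]

/-- If the `T^d`-coefficient of `G ∈ k[X][T]` is the degree-`d` component of an irreducible `F`
with nonzero constant term, then `G` is irreducible. -/
theorem irreducible_of_coeff_eq_homogeneousComponent (G : Polynomial (MvPolynomial σ k))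
    (F : MvPolynomial σ k) (hcoeff : ∀ d, G.coeff d = homogeneousComponent d F)
    (hF : Irreducible F) (hF0 : coeff 0 F ≠ 0) : Irreducible G := by
  classical
  have hG0 : G.coeff 0 ≠ 0 := by
    rw [hcoeff, homogeneousComponent_zero]
    exact (map_ne_zero_iff _ (C_injective σ k)).mpr hF0
  have hGne : G ≠ 0 := fun h => hG0 (by rw [h, Polynomial.coeff_zero])
  -- value at `T = 1`
  have heval : G.eval 1 = F := by
    obtain ⟨N, hN1, hN2⟩ : ∃ N, G.natDegree < N ∧ F.totalDegree + 1 ≤ N :=
      ⟨max (G.natDegree + 1) (F.totalDegree + 1), by omega, by omega⟩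
    rw [Polynomial.eval_eq_sum_range' hN1]
    simp only [one_pow, mul_one, hcoeff]
    conv_rhs => rw [← sum_homogeneousComponent F]
    symm
    apply Finset.sum_subset
    · intro i hi
      rw [Finset.mem_range] at hi ⊢
      omega
    · intro i _ hi
      rw [Finset.mem_range, not_lt] at hi
      exact homogeneousComponent_eq_zero i F (by omega)
  have hrev_eval : ∀ P : Polynomial (MvPolynomial σ k), P.reverse.eval 1 = P.eval 1 := by
    intro P
    have : Invertible (1 : MvPolynomial σ k) := invertibleOne
    have := Polynomial.eval₂_reverse_mul_pow (RingHom.id (MvPolynomial σ k)) 1 P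
    simpa [Polynomial.eval₂_id] using this
  -- the reverse is totally homogeneous
  have hTH : TH G.reverse G.natDegree := by
    have hdeg : G.reverse.natDegree < G.natDegree + 1 :=
      Nat.lt_succ_of_le (Polynomial.reverse_natDegree_le G)
    have := Polynomial.as_sum_range' G.reverse (G.natDegree + 1) hdeg
    rw [this]
    simp only [← Polynomial.C_mul_X_pow_eq_monomial]
    apply TH.of_sum
    intro i hi
    rw [Finset.mem_range] at hi
    rw [Polynomial.coeff_reverse, Polynomial.revAt_le (by omega), hcoeff]
    exact homogeneousComponent_isHomogeneous _ _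
  have hrevne : G.reverse ≠ 0 := by rwa [Ne, Polynomial.reverse_eq_zero]
  -- key: a factor whose reverse has unit value at `T = 1` is a unit
  have key : ∀ A B : Polynomial (MvPolynomial σ k), G = A * B → IsUnit (A.reverse.eval 1) →
      IsUnit A := by
    intro A B hAB hu
    have hrev : G.reverse = A.reverse * B.reverse := by
      rw [hAB, Polynomial.reverse_mul_of_domain]
    obtain ⟨a, ha⟩ := TH.of_mul (hrev ▸ hTH) (hrev ▸ hrevne)
    obtain ⟨c, hcu, hc⟩ := (MvPolynomial.isUnit_iff_eq_C_of_isReduced).mp hu
    have hArev := ha.eq_of_eval_one hc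
    have h0 : G.reverse.coeff 0 ≠ 0 := by
      rw [Polynomial.coeff_zero_reverse]
      exact Polynomial.leadingCoeff_ne_zero.mpr hGne
    have ha0 : a = 0 := by
      by_contra hne
      apply h0
      rw [hrev, Polynomial.mul_coeff_zero, hArev, Polynomial.coeff_C_mul_X_pow, if_neg (Ne.symm hne),
        zero_mul]
    rw [ha0, pow_zero, mul_one] at hArev
    have hA0 : A.coeff 0 ≠ 0 := by
      intro h
      apply hG0
      rw [hAB, Polynomial.mul_coeff_zero, h, zero_mul]
    have hAne : A ≠ 0 := fun h => hA0 (by rw [h, Polynomial.coeff_zero])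
    have htr : A.natTrailingDegree = 0 :=
      Polynomial.natTrailingDegree_eq_zero.mpr (Or.inr hA0)
    have hdeg : A.natDegree = 0 := by
      have := Polynomial.reverse_natDegree A
      rw [hArev, Polynomial.natDegree_C, htr, Nat.sub_zero] at this
      exact this.symm
    have hAC : A = Polynomial.C (A.coeff 0) := Polynomial.eq_C_of_natDegree_eq_zero hdeg
    rw [hAC, Polynomial.reverse_C] at hArev
    rw [hAC, hArev]
    exact (hcu.map C).map Polynomial.C
  rw [irreducible_iff]
  constructor
  · intro hu
    obtain ⟨u, hu1, hu2⟩ := Polynomial.isUnit_iff.mp hu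
    apply hF.not_isUnit
    rw [← heval, ← hu2, Polynomial.eval_C]
    exact hu1
  · intro A B hAB
    have hFAB : F = A.reverse.eval 1 * B.reverse.eval 1 := by
      rw [hrev_eval, hrev_eval, ← Polynomial.eval_mul, ← hAB, heval]
    rcases hF.isUnit_or_isUnit hFAB with h | h
    · exact Or.inl (key A B hAB h)
    · exact Or.inr (key B A (by rw [hAB, mul_comm]) h)

end Main

end Groth.Agent.Lib.Helper41.HomogFactor
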