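import Groth.Agent.Lib.Helper41.OrbitTop
import Groth.Agent.Lib.Helper14.SmoothFlatDescent
import Groth.Agent.Lib.Helper14.GeomReducedSmooth

/-!
# Homogeneous spaces which are geometrically reduced are smooth (helper41)

For an action `a` of a `k`-group scheme `G` on a `k`-scheme `X` locally of finite presentation:
* `shear a : G ⊗ X ≅ G ⊗ X`, `(g, x) ↦ (g, g • x)`.
* `smoothLocus_fst_eq` : the smooth locus of `G × X ⟶ G` is the preimage of the smooth locus of `X`.
* `smoothLocus_stable` : the smooth locus of `X` over `k` is `G`-stable.
* `eq_univ_of_stable` : a nonempty stable subset is everything when some orbit map is surjective.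
* `smooth_of_orbit_surjective` : if `X` is geometrically reduced and some orbit map `G ⟶ X` is
  surjective, then `X` is smooth over `k`.
* `geometricallyReduced_of_dominant` : the target of a dominant quasi-compact morphism from a
  geometrically reduced `k`-scheme is geometrically reduced, if it is reduced.
-/

set_option autoImplicit false
universe u
open CategoryTheory CategoryTheory.Limits MonoidalCategory CartesianMonoidalCategory MonObj
  AlgebraicGeometry

namespace Groth.Agent.Lib.Helper41.HomogSmooth

open Groth.Agent.Lib.Helper41.OrbitTop Groth.Agent.Lib.Helper93.ActionOpen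

section General

variable {S : Scheme.{u}} {G X : Over S} [GrpObj G]

/-- `(g, x) ↦ (g, g • x)` -/
noncomputable def shear (a : AlgGrp.Action G X) : G ⊗ X ≅ G ⊗ X where
  hom := lift (fst G X) a.act
  inv := lift (fst G X) (lift (fst G X)⁻¹ (snd G X) ≫ a.act)
  hom_inv_id := by
    apply CartesianMonoidalCategory.hom_ext
    · simp
    · rw [Category.assoc, lift_snd, Category.id_comp, ← Category.assoc, comp_lift, GrpObj.comp_inv,
        lift_fst, lift_snd]
      have h := act_inv_act a (fst G X) (snd G X)
      rwa [lift_fst_snd, Category.id_comp] at h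
  inv_hom_id := by
    apply CartesianMonoidalCategory.hom_ext
    · simp
    · rw [Category.assoc, lift_snd, Category.id_comp]
      exact act_act_inv a (fst G X) (snd G X)

theorem shear_hom_fst (a : AlgGrp.Action G X) : (shear a).hom ≫ fst G X = fst G X := lift_fst _ _

theorem shear_hom_snd (a : AlgGrp.Action G X) : (shear a).hom ≫ snd G X = a.act := lift_snd _ _

/-- A nonempty stable subset is everything as soon as some orbit map is surjective. -/
theorem eq_univ_of_stable (a : AlgGrp.Action G X) (o : 𝟙_ (Over S) ⟶ X)
    (hsurj : Function.Surjective (a.orbitMap o).left.base)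
    (hS : ∀ g₁ g₂ : G.left, G.hom.base g₁ = G.hom.base g₂)
    {Z : Set X.left} (hZ : Stable a Z) (hne : Z.Nonempty) : Z = Set.univ := by
  obtain ⟨s, hs⟩ := hne
  obtain ⟨g₂, rfl⟩ := hsurj s
  rw [Set.eq_univ_iff_forall]
  intro x
  obtain ⟨g₁, rfl⟩ := hsurj x
  obtain ⟨z, hz1, hz2⟩ := orbit_transitive a o g₁ g₂ (hS g₁ g₂)
  rw [← hz2, hZ.mem_iff, hz1]
  exact hs

end General

section Field

variable {k : Type u} [Field k] {G X : Over (Spec (CommRingCat.of k))} [GrpObj G]

omit [GrpObj G] in
theorem smoothLocus_fst_eq [LocallyOfFinitePresentation X.hom]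
    [LocallyOfFinitePresentation (fst G X).left] :
    ((fst G X).left.smoothLocus : Set (G ⊗ X).left) =
      (snd G X).left.base ⁻¹' (X.hom.smoothLocus : Set X.left) := by
  have hsub : Subsingleton (Spec (CommRingCat.of k)) :=
    inferInstanceAs (Subsingleton (PrimeSpectrum k))
  have hflat : Flat G.hom := inferInstance
  apply Set.Subset.antisymm
  · intro z hz
    have H : IsPullback (snd G X).left (fst G X).left X.hom G.hom :=
      (IsPullback.of_hasPullback G.hom X.hom).flip
    exact Groth.Agent.Lib.Helper14.mem_smoothLocus_fst_of_isPullback H z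
      (Flat.stalkMap G.hom _) hz
  · intro z hz
    let U : X.left.Opens := X.hom.smoothLocus
    let U' : Over (Spec (CommRingCat.of k)) := Over.mk (U.ι ≫ X.hom)
    let j : U' ⟶ X := Over.homMk U.ι rfl
    have hsm : Smooth U'.hom := by
      change Smooth (U.ι ≫ X.hom)
      rw [← Scheme.Hom.smoothLocus_eq_top_iff, ← Scheme.Hom.preimage_smoothLocus_eq,
        ← top_le_iff]
      rintro x -
      change U.ι x ∈ X.hom.smoothLocus
      exact x.2
    have hoi : IsOpenImmersion (G ◁ j).left := by
      rw [Over.whiskerLeft_left]
      have : IsOpenImmersion j.left := by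
        change IsOpenImmersion U.ι
        infer_instance
      infer_instance
    have hcomp : (G ◁ j).left ≫ (fst G X).left = (fst G U').left := by
      rw [← Over.comp_left, whiskerLeft_fst]
    have hsm2 : Smooth (fst G U').left := by
      rw [Over.fst_left]
      infer_instance
    have hsm3 : Smooth ((G ◁ j).left ≫ (fst G X).left) := by
      rw [hcomp]
      exact hsm2
    have h1 : ∀ w : (G ⊗ U').left, (G ◁ j).left w ∈ (fst G X).left.smoothLocus := by
      intro w
      have hw : w ∈ ((G ◁ j).left ≫ (fst G X).left).smoothLocus := by
        rw [Scheme.Hom.smoothLocus_eq_top]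
        trivial
      rw [← Scheme.Hom.preimage_smoothLocus_eq] at hw
      exact hw
    have hpb := isPullback_whiskerLeft_snd G j
    have h2 := Scheme.image_preimage_eq_of_isPullback hpb.flip Set.univ
    rw [Set.preimage_univ, Set.image_univ, Set.image_univ] at h2
    have hz' : z ∈ Set.range (G ◁ j).left.base := by
      rw [h2]
      change (snd G X).left.base z ∈ Set.range U.ι
      rw [Scheme.Opens.range_ι]
      exact hz
    obtain ⟨w, rfl⟩ := hz'
    exact h1 w

theorem smoothLocus_congr {A B : Scheme.{u}} {f g : A ⟶ B} [LocallyOfFinitePresentation f]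
    [LocallyOfFinitePresentation g] (h : f = g) : f.smoothLocus = g.smoothLocus := by
  subst h
  rfl

omit [GrpObj G] in
theorem lfp_fst_left [LocallyOfFinitePresentation X.hom] :
    LocallyOfFinitePresentation (fst G X).left := by
  rw [Over.fst_left]
  infer_instance

/-- The smooth locus of `X` over `k` is stable under the action of `G`. -/
theorem smoothLocus_stable (a : AlgGrp.Action G X) [LocallyOfFinitePresentation X.hom] :
    Stable a (X.hom.smoothLocus : Set X.left) := by
  have hfp : LocallyOfFinitePresentation (fst G X).left := lfp_fst_left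
  apply stable_of_forall
  intro z hz
  have hz1 : z ∈ ((fst G X).left.smoothLocus : Set (G ⊗ X).left) := by
    rw [smoothLocus_fst_eq]
    exact hz
  have hΘ : (shear a).hom.left ≫ (fst G X).left = (fst G X).left := by
    rw [← Over.comp_left, shear_hom_fst]
  have hiso : IsIso (shear a).hom.left := (Over.forget _).map_isIso (shear a).hom
  have h1 : (shear a).hom.left ⁻¹ᵁ (fst G X).left.smoothLocus = (fst G X).left.smoothLocus := by
    rw [Scheme.Hom.preimage_smoothLocus_eq]
    exact smoothLocus_congr hΘ
  have hz2 : (shear a).hom.left z ∈ ((fst G X).left.smoothLocus : Set (G ⊗ X).left) := by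
    have : z ∈ (shear a).hom.left ⁻¹ᵁ (fst G X).left.smoothLocus := by
      rw [h1]
      exact hz1
    exact this
  rw [smoothLocus_fst_eq] at hz2
  have h3 : (snd G X).left.base ((shear a).hom.left z) = a.act.left.base z := by
    rw [← shear_hom_snd a]
    rfl
  rw [← h3]
  exact hz2

/-- A geometrically reduced `k`-scheme locally of finite type with a group action having a
surjective orbit map is smooth. -/
theorem smooth_of_orbit_surjective [LocallyOfFiniteType X.hom] [GeometricallyReduced X.hom]
    (a : AlgGrp.Action G X) (o : 𝟙_ (Over (Spec (CommRingCat.of k))) ⟶ X)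
    (hsurj : Surjective (a.orbitMap o).left) : Smooth X.hom := by
  have hsub : Subsingleton (Spec (CommRingCat.of k)) :=
    inferInstanceAs (Subsingleton (PrimeSpectrum k))
  have hfp : LocallyOfFinitePresentation X.hom := inferInstance
  have hd := Groth.Agent.Lib.Helper14.dense_smoothLocus_of_geometricallyReduced X.hom
  have hne0 : Nonempty (Spec (CommRingCat.of k)) := inferInstance
  have hneX : Nonempty X.left := ⟨o.left hne0.some⟩
  have hne : (X.hom.smoothLocus : Set X.left).Nonempty := hd.nonempty
  have huniv := eq_univ_of_stable a o hsurj.surj (fun _ _ => Subsingleton.elim _ _)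
    (smoothLocus_stable a) hne
  rw [← Scheme.Hom.smoothLocus_eq_top_iff, ← top_le_iff]
  intro x _
  change x ∈ (X.hom.smoothLocus : Set X.left)
  rw [huniv]
  trivial

omit [GrpObj G] in
/-- The target of a dominant quasi-compact morphism from a geometrically reduced `k`-scheme is
geometrically reduced as soon as it is reduced. -/
theorem geometricallyReduced_of_dominant {W O : Scheme.{u}} (f : W ⟶ O)
    (p : O ⟶ Spec (CommRingCat.of k)) [IsDominant f] [QuasiCompact f] [IsReduced O]
    [GeometricallyReduced (f ≫ p)] : GeometricallyReduced p := by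
  have hsub : Subsingleton (Spec (CommRingCat.of k)) :=
    inferInstanceAs (Subsingleton (PrimeSpectrum k))
  constructor
  intro L _ y Z fst' snd' h
  have hflat_y : Flat y := inferInstance
  have hflat_fst : Flat fst' := MorphismProperty.of_isPullback (P := @Flat) h.flip hflat_y
  have hstd : IsSchemeTheoreticallyDominant f := .of_isDominant f
  have h1 : IsSchemeTheoreticallyDominant (pullback.snd f fst') := inferInstance
  have h2 : QuasiCompact (pullback.snd f fst') := inferInstance
  have hpaste : IsPullback (pullback.fst f fst') (pullback.snd f fst' ≫ snd') (f ≫ p) y :=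
    (IsPullback.of_hasPullback f fst').paste_vert h
  have hred : IsReduced (pullback f fst') :=
    GeometricallyReduced.geometrically_isReduced y _ _ hpaste
  exact IsSchemeTheoreticallyDominant.isReduced (pullback.snd f fst')

end Field

end Groth.Agent.Lib.Helper41.HomogSmooth
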