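import Groth.Agent.Lib.Helper41.GUnivClosed
import Groth.Agent.Lib.Helper38.FieldNagata
import Groth.Agent.Lib.Helper48.NagataNormalization2

/-!
# Invariant functions of a `G`-universally closed morphism to an affine scheme (helper41)

If `p : Y ⟶ Spec A` is `G`-universally closed, then every invariant global function on `Y` is integral
over `A`, and for `Y` integral the invariant functions form a finite `A`-module.
-/

set_option autoImplicit false
universe u
open CategoryTheory CategoryTheory.Limits MonoidalCategory CartesianMonoidalCategory MonObj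
  AlgebraicGeometry

namespace Groth.Agent.Lib.Helper41.InvFunctions

open Polynomial TopologicalSpace

/-- a morphism to an affine scheme is determined by its global sections -/
theorem eq_toSpecΓ_comp {X : Scheme.{u}} {R : CommRingCat.{u}} (g : X ⟶ Spec R) :
    g = X.toSpecΓ ≫ Spec.map ((Scheme.ΓSpecIso R).inv ≫ g.appTop) := by
  rw [Spec.map_comp, ← Scheme.toSpecΓ_naturality_assoc, toSpecΓ_SpecMap_ΓSpecIso_inv,
    Category.comp_id]

/-- global sections of the morphism to an affine scheme attached to a ring map -/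
theorem ΓSpecIso_inv_comp_appTop {X : Scheme.{u}} {R : CommRingCat.{u}} (φ : R ⟶ Γ(X, ⊤)) :
    (Scheme.ΓSpecIso R).inv ≫ (X.toSpecΓ ≫ Spec.map φ).appTop = φ := by
  rw [Scheme.Hom.comp_appTop, ← Category.assoc, ← Scheme.ΓSpecIso_inv_naturality, Category.assoc,
    Scheme.toSpecΓ_appTop, Iso.inv_hom_id, Category.comp_id]

variable {k : Type u} [Field k] {G Y : Over (Spec (CommRingCat.of k))} [GrpObj G]

/-- every invariant function is integral over `A` -/
theorem isIntegralElem_of_invariant
    [LocallyOfFiniteType Y.hom] [CompactSpace Y.left] [IsReduced Y.left]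
    (A : Type u) [CommRing A] [Algebra k A] [Algebra.FiniteType k A]
    (a : AlgGrp.Action G Y)
    (p : Y ⟶ Over.mk (Spec.map (CommRingCat.ofHom (algebraMap k A))))
    (hp : W4c2lssmoduli.IsGUnivClosed a p)
    (s : Γ(Y.left, ⊤)) (hs : a.act.left.appTop s = (snd G Y).left.appTop s) :
    ((Scheme.ΓSpecIso (CommRingCat.of A)).inv ≫ p.left.appTop).hom.IsIntegralElem s := by
  let T : Over (Spec (CommRingCat.of k)) := Over.mk (Spec.map (CommRingCat.ofHom (algebraMap k A)))
  let Sa : Over (Spec (CommRingCat.of k)) :=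
    Over.mk (Spec.map (CommRingCat.ofHom (algebraMap k A[X])))
  let pS : CommRingCat.of A ⟶ Γ(Y.left, ⊤) :=
    (Scheme.ΓSpecIso (CommRingCat.of A)).inv ≫ p.left.appTop
  let φ : A[X] →+* Γ(Y.left, ⊤) := Polynomial.eval₂RingHom pS.hom s
  have hφC : φ.comp (algebraMap A A[X]) = pS.hom := by
    ext x
    simp [φ]
  have hφX : φ X = s := by simp [φ]
  let q : Sa ⟶ T := Over.homMk (Spec.map (CommRingCat.ofHom (algebraMap A A[X]))) (by
    change Spec.map _ ≫ Spec.map _ = Spec.map _
    rw [← Spec.map_comp, ← CommRingCat.ofHom_comp, ← IsScalarTower.algebraMap_eq])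
  let fl : Y.left ⟶ Spec (CommRingCat.of A[X]) := Y.left.toSpecΓ ≫ Spec.map (CommRingCat.ofHom φ)
  have hfq : fl ≫ q.left = p.left := by
    change (Y.left.toSpecΓ ≫ Spec.map (CommRingCat.ofHom φ)) ≫
      Spec.map (CommRingCat.ofHom (algebraMap A A[X])) = p.left
    rw [Category.assoc, ← Spec.map_comp, ← CommRingCat.ofHom_comp, hφC]
    exact (eq_toSpecΓ_comp p.left).symm
  let f : Y ⟶ Sa := Over.homMk fl (by
    change fl ≫ Sa.hom = Y.hom
    rw [← Over.w q, ← Category.assoc, hfq]
    exact Over.w p)
  have hfq' : f ≫ q = p := by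
    ext1
    exact hfq
  have hinv : p.left.appTop ≫ a.act.left.appTop = p.left.appTop ≫ (snd G Y).left.appTop := by
    rw [← Scheme.Hom.comp_appTop, ← Scheme.Hom.comp_appTop]
    congr 1
    exact congrArg CommaMorphism.left hp.1
  have hf : W4c2lssmoduli.IsInvariantMor a f := by
    change a.act ≫ f = snd G Y ≫ f
    ext1
    change a.act.left ≫ Y.left.toSpecΓ ≫ Spec.map (CommRingCat.ofHom φ) =
      (snd G Y).left ≫ Y.left.toSpecΓ ≫ Spec.map (CommRingCat.ofHom φ)
    rw [Scheme.toSpecΓ_naturality_assoc, Scheme.toSpecΓ_naturality_assoc, ← Spec.map_comp,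
      ← Spec.map_comp]
    congr 2
    ext1
    apply Polynomial.ringHom_ext
    · intro x
      have := congrArg (fun m => m.hom ((Scheme.ΓSpecIso (CommRingCat.of A)).inv.hom x)) hinv
      simpa [φ, pS] using this
    · simpa [φ] using hs
  have hp' : W4c2lssmoduli.IsGUnivClosed a (f ≫ q) := by rw [hfq']; exact hp
  have hqaff : IsAffineHom q.left :=
    (inferInstance : IsAffineHom (Spec.map (CommRingCat.ofHom (algebraMap A A[X]))))
  have hqsep : IsSeparated q.left := inferInstance
  have hSlft : LocallyOfFiniteType Sa.hom :=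
    (HasRingHomProperty.Spec_iff (P := @LocallyOfFiniteType)).mpr
      (RingHom.finiteType_algebraMap.mpr inferInstance)
  have hTlft : LocallyOfFiniteType T.hom :=
    (HasRingHomProperty.Spec_iff (P := @LocallyOfFiniteType)).mpr
      (RingHom.finiteType_algebraMap.mpr inferInstance)
  have hSc : CompactSpace Sa.left := (inferInstance : CompactSpace (Spec (CommRingCat.of A[X])))
  have hprop := GUnivClosed.isProper_image a f q hf hp'
  obtain ⟨I, hI⟩ : ∃ I : Scheme.IdealSheafData Sa.left, I = Scheme.IdealSheafData.vanishingIdeal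
    (⟨closure (Set.range f.left.base), isClosed_closure⟩ : Closeds Sa.left) := ⟨_, rfl⟩
  rw [← hI] at hprop
  have hrange : Set.range I.subschemeι.base = closure (Set.range f.left.base) := by
    rw [hI, Scheme.IdealSheafData.range_subschemeι,
      Scheme.IdealSheafData.coe_support_vanishingIdeal]
    rfl
  have hfin : IsFinite (I.subschemeι ≫ q.left) := by
    rw [IsFinite.iff_isProper_and_isAffineHom]
    exact ⟨hprop, inferInstance⟩
  obtain ⟨g, hg⟩ := Helper19.exists_lift_of_isReduced_of_range_subset f.left I.subschemeι (by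
    rw [hrange]; exact subset_closure)
  -- the finite ring map `A ⟶ Γ(Z)`
  let ψ0 : A →+* Γ(I.subscheme, ⊤) :=
    ((Scheme.ΓSpecIso (CommRingCat.of A)).inv ≫ (I.subschemeι ≫ q.left).appTop).hom
  have hTaff : IsAffine T.left := (inferInstance : IsAffine (Spec (CommRingCat.of A)))
  have hψ0 : ψ0.Finite := by
    have h1 : ((I.subschemeι ≫ q.left).appTop).hom.Finite :=
      IsFinite.finite_app (I.subschemeι ≫ q.left) ⊤ (isAffineOpen_top _)
    have h2 : ((Scheme.ΓSpecIso (CommRingCat.of A)).inv).hom.Finite :=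
      RingHom.Finite.of_surjective _
        (ConcreteCategory.bijective_of_isIso (Scheme.ΓSpecIso (CommRingCat.of A)).inv).2
    exact h1.comp h2
  let z : Γ(I.subscheme, ⊤) :=
    I.subschemeι.appTop.hom ((Scheme.ΓSpecIso (CommRingCat.of A[X])).inv.hom X)
  have hz : ψ0.IsIntegralElem z := hψ0.to_isIntegral z
  have hcomp : pS.hom = g.appTop.hom.comp ψ0 := by
    have : p.left.appTop = (I.subschemeι ≫ q.left).appTop ≫ g.appTop := by
      rw [← Scheme.Hom.comp_appTop, ← Category.assoc, hg]
      change _ = (fl ≫ q.left).appTop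
      rw [hfq]
    simp only [pS, ψ0, this]
    rfl
  have hgz : g.appTop.hom z = s := by
    have h1 : I.subschemeι.appTop ≫ g.appTop = fl.appTop := by
      rw [← Scheme.Hom.comp_appTop, hg]
      rfl
    have h2 := ΓSpecIso_inv_comp_appTop (X := Y.left) (CommRingCat.ofHom φ)
    have h3 := congrArg (fun m => m.hom X) h2
    have h4 : g.appTop.hom z = fl.appTop.hom ((Scheme.ΓSpecIso (CommRingCat.of A[X])).inv.hom X) := by
      rw [← h1]
      rfl
    rw [h4, ← hφX]
    exact h3
  obtain ⟨P, hmonic, hP⟩ := hz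
  refine ⟨P, hmonic, ?_⟩
  change Polynomial.eval₂ pS.hom s P = 0
  rw [hcomp, ← hgz, ← Polynomial.hom_eval₂, hP, map_zero]

/-- the invariant functions of a `G`-universally closed morphism `Y ⟶ Spec A` from an integral scheme
form a finite `A`-module -/
theorem exists_finset_invariants
    [LocallyOfFiniteType Y.hom] [CompactSpace Y.left] [IsIntegral Y.left]
    (A : Type u) [CommRing A] [Algebra k A] [Algebra.FiniteType k A]
    (a : AlgGrp.Action G Y)
    (p : Y ⟶ Over.mk (Spec.map (CommRingCat.ofHom (algebraMap k A))))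
    (hp : W4c2lssmoduli.IsGUnivClosed a p) :
    ∃ t : Finset ↑Γ(Y.left, ⊤),
      (∀ s ∈ t, a.act.left.appTop s = (snd G Y).left.appTop s) ∧
      ∀ s : ↑Γ(Y.left, ⊤), a.act.left.appTop s = (snd G Y).left.appTop s →
        ∃ c : ↑Γ(Y.left, ⊤) → A,
          s = ∑ x ∈ t, ((Scheme.ΓSpecIso (CommRingCat.of A)).inv ≫ p.left.appTop) (c x) * x := by
  let pS : A →+* Γ(Y.left, ⊤) := ((Scheme.ΓSpecIso (CommRingCat.of A)).inv ≫ p.left.appTop).hom
  -- a nonempty affine open
  obtain ⟨y⟩ : Nonempty Y.left := inferInstance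
  obtain ⟨_, ⟨U, hU, rfl⟩, hyU, -⟩ :=
    Y.left.isBasis_affineOpens.exists_subset_of_mem_open (Set.mem_univ y) isOpen_univ
  have hne : Nonempty U := ⟨⟨y, hyU⟩⟩
  have hdom : IsDomain Γ(Y.left, U) := @IsIntegral.component_integral Y.left _ U hne
  let L := FractionRing Γ(Y.left, U)
  let res : Γ(Y.left, ⊤) →+* Γ(Y.left, U) := (Y.left.presheaf.map (homOfLE le_top).op).hom
  have hres : Function.Injective res := map_injective_of_isIntegral Y.left (homOfLE le_top)
  let ψ : Γ(Y.left, ⊤) →+* L := (algebraMap Γ(Y.left, U) L).comp res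
  have hψ : Function.Injective ψ := (IsFractionRing.injective Γ(Y.left, U) L).comp hres
  -- `L` is essentially of finite type over `A`
  have hess : (ψ.comp pS).EssFiniteType := by
    apply RingHom.EssFiniteType.of_comp (algebraMap k A)
    let ρ : k →+* Γ(Y.left, U) :=
      (Y.hom.appLE ⊤ U le_top).hom.comp (Scheme.ΓSpecIso (CommRingCat.of k)).inv.hom
    have hρ : ρ.FiniteType := by
      have h := LocallyOfFiniteType.finiteType_appLE (f := Y.hom) (isAffineOpen_top _) hU le_top
      exact h.comp (RingHom.FiniteType.of_surjective _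
        (ConcreteCategory.bijective_of_isIso (Scheme.ΓSpecIso (CommRingCat.of k)).inv).2)
    have heq : (ψ.comp pS).comp (algebraMap k A) = (algebraMap Γ(Y.left, U) L).comp ρ := by
      have h1 : CommRingCat.ofHom (algebraMap k A) ≫ (Scheme.ΓSpecIso (CommRingCat.of A)).inv ≫
          p.left.appTop ≫ Y.left.presheaf.map (homOfLE le_top).op =
          (Scheme.ΓSpecIso (CommRingCat.of k)).inv ≫ Y.hom.appLE ⊤ U le_top := by
        have h2 : Y.hom = p.left ≫ Spec.map (CommRingCat.ofHom (algebraMap k A)) := (Over.w p).symm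
        have h3 : Y.hom.appLE ⊤ U le_top =
            Y.hom.appTop ≫ Y.left.presheaf.map (homOfLE le_top).op := rfl
        rw [h3, h2, Scheme.Hom.comp_appTop, ← Category.assoc, ← Category.assoc,
          Scheme.ΓSpecIso_inv_naturality]
        simp only [Category.assoc]
      have h4 := congrArg CommRingCat.Hom.hom h1
      change (algebraMap Γ(Y.left, U) L).comp (res.comp (pS.comp (algebraMap k A))) = _
      congr 1
    rw [heq]
    exact hρ.essFiniteType.comp (RingHom.essFiniteType_algebraMap.mpr
      (Algebra.EssFiniteType.of_isLocalization L (nonZeroDivisors Γ(Y.left, U))))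
  let algAL : Algebra A L := (ψ.comp pS).toAlgebra
  have hessA : Algebra.EssFiniteType A L := hess
  have hAnoeth : IsNoetherianRing A := Algebra.FiniteType.isNoetherianRing k A
  have hfin : Module.Finite A (integralClosure A L) :=
    Helper48.finite_integralClosure_of_isNagata_of_essFiniteType_field
      (Helper38.FieldNagata.isNagata_of_finiteType_field k A)
  have hicn : IsNoetherian A (integralClosure A L) := isNoetherian_of_isNoetherianRing_of_finite A _
  -- module structures
  let modAΓ : Module A Γ(Y.left, ⊤) := Module.compHom Γ(Y.left, ⊤) pS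
  have hsmul : ∀ (c : A) (x : Γ(Y.left, ⊤)), c • x = pS c * x := fun _ _ => rfl
  let ψl : Γ(Y.left, ⊤) →ₗ[A] L :=
    { toFun := ψ
      map_add' := map_add ψ
      map_smul' := fun c x => by
        rw [hsmul, map_mul, RingHom.id_apply, Algebra.smul_def]
        rfl }
  have hinv : p.left.appTop ≫ a.act.left.appTop = p.left.appTop ≫ (snd G Y).left.appTop := by
    rw [← Scheme.Hom.comp_appTop, ← Scheme.Hom.comp_appTop]
    congr 1
    exact congrArg CommaMorphism.left hp.1
  have hinv' : ∀ c : A, a.act.left.appTop (pS c) = (snd G Y).left.appTop (pS c) := fun c =>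
    congrArg (fun m => m.hom ((Scheme.ΓSpecIso (CommRingCat.of A)).inv.hom c)) hinv
  let NB : Submodule A Γ(Y.left, ⊤) :=
    { carrier := {s | a.act.left.appTop s = (snd G Y).left.appTop s}
      add_mem' := fun {x y} hx hy => by
        change a.act.left.appTop (x + y) = (snd G Y).left.appTop (x + y)
        rw [map_add, map_add, hx, hy]
      zero_mem' := by
        change a.act.left.appTop 0 = (snd G Y).left.appTop 0
        rw [map_zero, map_zero]
      smul_mem' := fun c x hx => by
        change a.act.left.appTop (c • x) = (snd G Y).left.appTop (c • x)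
        rw [hsmul, map_mul, map_mul, hx, hinv'] }
  have hle : NB.map ψl ≤ (integralClosure A L).toSubmodule := by
    rintro _ ⟨s, hs, rfl⟩
    obtain ⟨P, hmonic, hP⟩ := isIntegralElem_of_invariant A a p hp s hs
    refine ⟨P, hmonic, ?_⟩
    change Polynomial.eval₂ (ψ.comp pS) (ψ s) P = 0
    rw [← Polynomial.hom_eval₂]
    rw [hP, map_zero]
  have hicn' : IsNoetherian A (integralClosure A L).toSubmodule :=
    (inferInstance : IsNoetherian A (integralClosure A L))
  have hnoeth : IsNoetherian A (NB.map ψl) := isNoetherian_of_le hle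
  have hfg : (NB.map ψl).FG := Module.Finite.iff_fg.mp inferInstance
  obtain ⟨t, ht⟩ := Submodule.fg_of_fg_map_injective ψl hψ hfg
  refine ⟨t, fun s hs => ?_, fun s hs => ?_⟩
  · have : s ∈ NB := ht ▸ Submodule.subset_span hs
    exact this
  · have hmem : s ∈ Submodule.span A (t : Set Γ(Y.left, ⊤)) := by rw [ht]; exact hs
    obtain ⟨c, -, hc⟩ := Submodule.mem_span_finset.mp hmem
    exact ⟨c, hc.symm⟩

end Groth.Agent.Lib.Helper41.InvFunctions
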