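import Mathlib

/-!
# Division-saturated subalgebras of integrally closed domains are integrally closed (helper41)

Typical use: rings of invariants.
-/

set_option autoImplicit false

namespace Groth.Agent.Lib.Helper41.InvNormal

/-- If `R ⊆ S` is a subalgebra of an integrally closed domain such that `s * b ∈ R`, `b ∈ R`, `b ≠ 0`
imply `s ∈ R`, then `R` is integrally closed. -/
theorem isIntegrallyClosed_of_saturated {k S : Type*} [CommRing k] [CommRing S] [Algebra k S]
    [IsDomain S] [IsIntegrallyClosed S] (R : Subalgebra k S)
    (hR : ∀ s b : S, b ∈ R → b ≠ 0 → s * b ∈ R → s ∈ R) : IsIntegrallyClosed R := by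
  let K := FractionRing R
  let L := FractionRing S
  have hinj : Function.Injective ((algebraMap S L).comp R.val.toRingHom) := by
    intro x y hxy
    apply Subtype.val_injective
    exact IsFractionRing.injective S L hxy
  let φ : K →+* L := IsFractionRing.lift (A := R) (K := K) (g := (algebraMap S L).comp R.val.toRingHom) hinj
  have hφ : ∀ r : R, φ (algebraMap R K r) = algebraMap S L r.1 := by
    intro r
    exact IsFractionRing.lift_algebraMap hinj r
  rw [isIntegrallyClosed_iff K]
  intro x hx
  obtain ⟨a, b, hb, rfl⟩ := IsFractionRing.div_surjective (A := R) x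
  have hb0 : b ≠ 0 := nonZeroDivisors.ne_zero hb
  have hint : IsIntegral S (φ (algebraMap R K a / algebraMap R K b)) := by
    refine IsIntegral.map_of_comp_eq R.val.toRingHom φ ?_ hx
    ext r
    exact (hφ r).symm
  obtain ⟨s, hs⟩ := IsIntegrallyClosed.algebraMap_eq_of_integral hint
  have hbL : algebraMap S L b.1 ≠ 0 := by
    intro h
    apply hb0
    apply Subtype.val_injective
    exact IsFractionRing.injective S L (by rw [h]; simp)
  have hsb : s * b.1 = a.1 := by
    apply IsFractionRing.injective S L
    rw [map_mul, hs, map_div₀, hφ, hφ, div_mul_cancel₀ _ hbL]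
  have hsR : s ∈ R := hR s b.1 b.2 (fun h => hb0 (Subtype.val_injective h)) (hsb ▸ a.2)
  refine ⟨⟨s, hsR⟩, ?_⟩
  have hbK : algebraMap R K b ≠ 0 := by
    intro h
    exact hb0 (IsFractionRing.injective R K (by rw [h, map_zero]))
  rw [eq_div_iff hbK, ← map_mul]
  congr 1
  exact Subtype.val_injective hsb

end Groth.Agent.Lib.Helper41.InvNormal
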