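import Groth.Agent.Lib.Helper14.GroupFibreLoci5
import Groth.Agent.Lib.Helper14.GroupFibreLoci4
import Groth.Agent.Lib.Helper14.GroupFibreLoci3
import Groth.Agent.Lib.Helper71.FppfChart

/-!
# Homogeneity of the locus where a homomorphism of group schemes is locally of finite presentation
(helper41)

* `lfp_of_fppf_image` : if `q : Ω ⟶ X` is flat lfp and `q ≫ f` is lfp then `f` is lfp on the open image
  of `q`.
* `mem_lfpLocus_iff_unit_mem` : for `u : G ⟶ H` a homomorphism of `S`-groups with `G` flat lfp over `S`,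
  `u` is lfp near `x` iff it is lfp near the unit point of the fibre through `x`.
* `lfp_of_subsingleton` : over a one-point base, lfp on a nonempty open implies lfp.
-/

set_option autoImplicit false
universe u
open CategoryTheory CategoryTheory.Limits MonoidalCategory CartesianMonoidalCategory MonObj GrpObj
  AlgebraicGeometry

namespace Groth.Agent.Lib.Helper41.LfpLocus

section Gen

variable (P : MorphismProperty Scheme.{u}) [P.IsStableUnderBaseChange]

lemma of_postcomp_mono {X Y Z : Scheme.{u}} (f : X ⟶ Y) (g : Y ⟶ Z) [Mono g] (h : P (f ≫ g)) :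
    P f :=
  MorphismProperty.of_postcomp (W := P) (W' := MorphismProperty.monomorphisms _) f g
    (MorphismProperty.monomorphisms.infer_property _) h

lemma cancel_left_iso {X Y Z : Scheme.{u}} (f : X ⟶ Y) (g : Y ⟶ Z) [IsIso f] :
    P (f ≫ g) ↔ P g := P.cancel_left_of_respectsIso f g

lemma cancel_right_iso {X Y Z : Scheme.{u}} (f : X ⟶ Y) (g : Y ⟶ Z) [IsIso g] :
    P (f ≫ g) ↔ P f := P.cancel_right_of_respectsIso f g

end Gen

/-- The locus where a morphism is locally of finite presentation. -/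
def lfpLocus {X Y : Scheme.{u}} (f : X ⟶ Y) : Set X :=
  {x | ∃ U : X.Opens, x ∈ U ∧ LocallyOfFinitePresentation (U.ι ≫ f)}

theorem lfp_of_fppf_image {Ω X Y : Scheme.{u}} (q : Ω ⟶ X) [Flat q]
    [LocallyOfFinitePresentation q] (f : X ⟶ Y) [hqf : LocallyOfFinitePresentation (q ≫ f)] :
    ∃ W : X.Opens, (W : Set X) = Set.range q.base ∧ LocallyOfFinitePresentation (W.ι ≫ f) := by
  let W : X.Opens := ⟨Set.range q.base, q.isOpenMap.isOpen_range⟩
  refine ⟨W, rfl, ?_⟩
  let q' : Ω ⟶ W.toScheme := IsOpenImmersion.lift W.ι q (by rw [Scheme.Opens.range_ι]; rfl)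
  have hq' : q' ≫ W.ι = q := IsOpenImmersion.lift_fac _ _ _
  have h1 : Flat q' := by
    refine of_postcomp_mono @Flat q' W.ι ?_
    rw [hq']; infer_instance
  have h2 : LocallyOfFinitePresentation q' := by
    refine of_postcomp_mono @LocallyOfFinitePresentation q' W.ι ?_
    rw [hq']; infer_instance
  have h3 : Surjective q' := by
    constructor
    intro w
    obtain ⟨x, hx⟩ : w.1 ∈ Set.range q.base := w.2
    refine ⟨x, ?_⟩
    apply W.ι.isOpenEmbedding.injective
    have : W.ι.base (q'.base x) = (q' ≫ W.ι).base x := rfl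
    rw [this, hq', hx]
    rfl
  have h4 : LocallyOfFinitePresentation (q' ≫ W.ι ≫ f) := by
    rw [← Category.assoc, hq']; exact hqf
  exact Groth.Agent.Lib.Helper71.FppfChart.locallyOfFinitePresentation_of_fppf_comp q' (W.ι ≫ f)

theorem lfp_restrict {X Y : Scheme.{u}} (f : X ⟶ Y) {U U' : X.Opens} (h : U' ≤ U)
    (hU : LocallyOfFinitePresentation (U.ι ≫ f)) : LocallyOfFinitePresentation (U'.ι ≫ f) := by
  have : U'.ι ≫ f = X.homOfLE h ≫ U.ι ≫ f := by
    rw [← Category.assoc, Scheme.homOfLE_ι]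
  rw [this]
  infer_instance

/-- Pointwise descent of finite presentation along a flat lfp base change. -/
theorem mem_lfpLocus_of_isPullback {P X Y Y' : Scheme.{u}} {g' : P ⟶ X} {f' : P ⟶ Y'}
    {f : X ⟶ Y} {g : Y' ⟶ Y} (H : IsPullback g' f' f g) [Flat g] [LocallyOfFinitePresentation g]
    (p : P) (hp : p ∈ lfpLocus f') : g' p ∈ lfpLocus f := by
  obtain ⟨Ω, hpΩ, hΩ⟩ := hp
  have hg'₁ : Flat g' := MorphismProperty.of_isPullback (P := @Flat) H.flip inferInstance
  have hg'₂ : LocallyOfFinitePresentation g' :=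
    MorphismProperty.of_isPullback (P := @LocallyOfFinitePresentation) H.flip inferInstance
  have hq : LocallyOfFinitePresentation ((Ω.ι ≫ g') ≫ f) := by
    rw [Category.assoc, H.w, ← Category.assoc]
    infer_instance
  obtain ⟨W, hW, hWf⟩ := lfp_of_fppf_image (Ω.ι ≫ g') f
  refine ⟨W, ?_, hWf⟩
  change g' p ∈ (W : Set X)
  rw [hW]
  exact ⟨⟨p, hpΩ⟩, rfl⟩

theorem mem_lfpLocus_base_change {P X Y Y' : Scheme.{u}} {g' : P ⟶ X} {f' : P ⟶ Y'}
    {f : X ⟶ Y} {g : Y' ⟶ Y} (H : IsPullback g' f' f g)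
    (p : P) (hp : g' p ∈ lfpLocus f) : p ∈ lfpLocus f' := by
  obtain ⟨U, hpU, hU⟩ := hp
  refine ⟨g' ⁻¹ᵁ U, hpU, ?_⟩
  have h1 := (isPullback_morphismRestrict g' U).paste_vert H
  exact MorphismProperty.of_isPullback (P := @LocallyOfFinitePresentation) h1 hU

theorem mem_lfpLocus_iso_comp_iff {X' X Y : Scheme.{u}} (e : X' ⟶ X) [IsIso e] (f : X ⟶ Y)
    (x' : X') : x' ∈ lfpLocus (e ≫ f) ↔ e x' ∈ lfpLocus f := by
  constructor
  · rintro ⟨U', hxU', hU'⟩
    let U : X.Opens := (inv e) ⁻¹ᵁ U'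
    have hle : e ⁻¹ᵁ U ≤ U' := by
      intro y hy
      have h1 : (inv e) (e y) ∈ U' := hy
      have h2 : (inv e) (e y) = y := by
        rw [← Scheme.Hom.comp_apply, IsIso.hom_inv_id]; rfl
      rwa [h2] at h1
    refine ⟨U, ?_, ?_⟩
    · change (inv e) (e x') ∈ U'
      have h2 : (inv e) (e x') = x' := by
        rw [← Scheme.Hom.comp_apply, IsIso.hom_inv_id]; rfl
      rwa [h2]
    · have h3 := lfp_restrict (e ≫ f) hle hU'
      rw [← Category.assoc, ← morphismRestrict_ι, Category.assoc] at h3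
      exact (cancel_left_iso @LocallyOfFinitePresentation _ _).mp h3
  · rintro ⟨U, hxU, hU⟩
    refine ⟨e ⁻¹ᵁ U, hxU, ?_⟩
    rw [← Category.assoc, ← morphismRestrict_ι, Category.assoc]
    exact (cancel_left_iso @LocallyOfFinitePresentation _ _).mpr hU

theorem mem_lfpLocus_comp_iso_iff {X Y Y' : Scheme.{u}} (f : X ⟶ Y) (e : Y ⟶ Y') [IsIso e]
    (x : X) : x ∈ lfpLocus (f ≫ e) ↔ x ∈ lfpLocus f := by
  constructor
  · rintro ⟨U, hxU, hU⟩
    refine ⟨U, hxU, ?_⟩
    rw [← Category.assoc] at hU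
    exact (cancel_right_iso @LocallyOfFinitePresentation _ _).mp hU
  · rintro ⟨U, hxU, hU⟩
    refine ⟨U, hxU, ?_⟩
    rw [← Category.assoc]
    exact (cancel_right_iso @LocallyOfFinitePresentation _ _).mpr hU

section Group

variable {S : Scheme.{u}} {G H : Over S} [GrpObj G] [GrpObj H]

/-- Homogeneity of the lfp locus of a homomorphism of group schemes with flat lfp source. -/
theorem mem_lfpLocus_iff_unit_mem (u : G ⟶ H) [IsMonHom u] [Flat G.hom]
    [LocallyOfFinitePresentation G.hom] (x : G.left) :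
    x ∈ lfpLocus u.left ↔ η[G].left (G.hom x) ∈ lfpLocus u.left := by
  refine Groth.Agent.Lib.Helper14.mem_locus_iff_unit_mem u (fun f => lfpLocus f)
    (fun e _ f x' => mem_lfpLocus_iso_comp_iff e f x')
    (fun f e _ x => mem_lfpLocus_comp_iso_iff f e x)
    (fun p => ?_) x
  have Hsq := Groth.Agent.Lib.Helper14.isPullback_whiskerLeft_left u
  have hfl : Flat (snd G H).left := inferInstanceAs (Flat (pullback.snd G.hom H.hom))
  have hlfp : LocallyOfFinitePresentation (snd G H).left :=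
    inferInstanceAs (LocallyOfFinitePresentation (pullback.snd G.hom H.hom))
  constructor
  · intro hp
    exact mem_lfpLocus_of_isPullback Hsq p hp
  · intro hp
    exact mem_lfpLocus_base_change Hsq p hp

theorem lfp_of_lfpLocus_eq_univ {X Y : Scheme.{u}} (f : X ⟶ Y) (h : ∀ x, x ∈ lfpLocus f) :
    LocallyOfFinitePresentation f := by
  choose V hxV hV using h
  have : IsZariskiLocalAtSource @LocallyOfFinitePresentation.{u} :=
    HasRingHomProperty.instIsZariskiLocalAtSource (P := @LocallyOfFinitePresentation)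
      (Q := RingHom.FinitePresentation)
  exact IsZariskiLocalAtSource.of_iSup_eq_top V
    (eq_top_iff.mpr fun x _ => TopologicalSpace.Opens.mem_iSup.mpr ⟨x, hxV x⟩) hV

/-- Over a one-point base: a homomorphism with flat lfp source which is lfp on a nonempty open is
lfp. -/
theorem lfp_of_subsingleton [Subsingleton S] (u : G ⟶ H) [IsMonHom u] [Flat G.hom]
    [LocallyOfFinitePresentation G.hom] (W : G.left.Opens) (hW : (W : Set G.left).Nonempty)
    (h : LocallyOfFinitePresentation (W.ι ≫ u.left)) : LocallyOfFinitePresentation u.left := by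
  obtain ⟨x₀, hx₀⟩ := hW
  have h0 : x₀ ∈ lfpLocus u.left := ⟨W, hx₀, h⟩
  refine lfp_of_lfpLocus_eq_univ _ fun x => ?_
  rw [mem_lfpLocus_iff_unit_mem] at h0 ⊢
  rw [Subsingleton.elim (G.hom x) (G.hom x₀)]
  exact h0

end Group

end Groth.Agent.Lib.Helper41.LfpLocus
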