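import Mathlib

/-!
# Pointwise descent of finite type along a base change over a field (helper41), ring form

Let `k` be a field, `C` and `K` two `k`-algebras, `h ∈ K ⊗[k] C` such that `(K ⊗[k] C)[1/h]` is a
`K`-algebra of finite type, and `q` a prime of `K ⊗[k] C` not containing `h`.  Then there is `c ∈ C` with
`1 ⊗ c ∉ q` such that `C[1/c]` is a `k`-algebra of finite type (`exists_away_finiteType`).
-/

set_option autoImplicit false
universe u
open TensorProduct

namespace Groth.Agent.Lib.Helper41.LftDescentAlg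

variable {k K C : Type u} [Field k] [CommRing K] [Algebra k K] [CommRing C] [Algebra k C]

theorem baseChange_mono {D D' : Subalgebra k C} (hle : D ≤ D') :
    D.baseChange K ≤ D'.baseChange K := by
  rintro _ ⟨x, rfl⟩
  refine ⟨Algebra.TensorProduct.map (AlgHom.id K K) (Subalgebra.inclusion hle) x, ?_⟩
  change (Algebra.TensorProduct.map (AlgHom.id K K) D'.val)
    (Algebra.TensorProduct.map (AlgHom.id K K) (Subalgebra.inclusion hle) x) = _
  induction x using TensorProduct.induction_on with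
  | zero => simp
  | tmul a b => simp
  | add x y hx hy => rw [map_add, map_add, hx, hy, map_add]

section Step1

variable {L : Type u} [CommRing L] [Algebra (K ⊗[k] C) L] [Algebra K L]
  [IsScalarTower K (K ⊗[k] C) L] (h : K ⊗[k] C) [IsLocalization.Away h L]

include h in
theorem exists_fg_subalgebra (hft : Algebra.FiniteType K L) :
    ∃ C₀ : Subalgebra k C, C₀.FG ∧ h ∈ C₀.baseChange K ∧
      ∀ t : K ⊗[k] C, ∃ m : ℕ, h ^ m * t ∈ C₀.baseChange K := by
  classical
  obtain ⟨s, hs⟩ := hft.out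
  have hsurj : ∀ x : L, ∃ (n : ℕ) (a : K ⊗[k] C),
      x * algebraMap (K ⊗[k] C) L h ^ n = algebraMap (K ⊗[k] C) L a :=
    fun x => IsLocalization.Away.surj h x
  choose n a hna using hsurj
  have hD : ∀ t : K ⊗[k] C, ∃ D : Subalgebra k C, D.FG ∧ t ∈ D.baseChange K :=
    fun t => exists_fg_and_mem_baseChange t
  choose D hDfg hDmem using hD
  let C₀ : Subalgebra k C := D h ⊔ s.sup (fun x => D (a x))
  have hC₀fg : C₀.FG := by
    refine Subalgebra.FG.sup (hDfg h) ?_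
    refine Finset.sup_induction ?_ (fun _ h1 _ h2 => Subalgebra.FG.sup h1 h2)
      (fun x _ => hDfg (a x))
    exact Subalgebra.fg_bot
  have hh : h ∈ C₀.baseChange K := baseChange_mono le_sup_left (hDmem h)
  have ha : ∀ x ∈ s, a x ∈ C₀.baseChange K := fun x hx =>
    baseChange_mono (le_sup_of_le_right (Finset.le_sup (f := fun x => D (a x)) hx)) (hDmem (a x))
  refine ⟨C₀, hC₀fg, hh, ?_⟩
  set ι := algebraMap (K ⊗[k] C) L with hι
  let 𝒜 : Subalgebra K L :=
    { carrier := {x | ∃ m : ℕ, ∃ y ∈ C₀.baseChange K, x * ι h ^ m = ι y}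
      mul_mem' := by
        rintro x₁ x₂ ⟨m₁, y₁, hy₁, e₁⟩ ⟨m₂, y₂, hy₂, e₂⟩
        refine ⟨m₁ + m₂, y₁ * y₂, mul_mem hy₁ hy₂, ?_⟩
        rw [map_mul, ← e₁, ← e₂, pow_add]; ring
      add_mem' := by
        rintro x₁ x₂ ⟨m₁, y₁, hy₁, e₁⟩ ⟨m₂, y₂, hy₂, e₂⟩
        refine ⟨m₁ + m₂, y₁ * h ^ m₂ + y₂ * h ^ m₁,
          add_mem (mul_mem hy₁ (pow_mem hh _)) (mul_mem hy₂ (pow_mem hh _)), ?_⟩
        rw [map_add, map_mul, map_mul, map_pow, map_pow, ← e₁, ← e₂, pow_add]; ring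
      algebraMap_mem' := by
        intro r
        refine ⟨0, algebraMap K (K ⊗[k] C) r, Subalgebra.algebraMap_mem _ r, ?_⟩
        rw [pow_zero, mul_one, ← IsScalarTower.algebraMap_apply] }
  have h𝒜 : 𝒜 = ⊤ := by
    rw [eq_top_iff, ← hs, Algebra.adjoin_le_iff]
    intro x hx
    exact ⟨n x, a x, ha x hx, hna x⟩
  intro t
  have ht : ι t ∈ 𝒜 := by rw [h𝒜]; trivial
  obtain ⟨m, y, hy, e⟩ := ht
  rw [← map_pow, ← map_mul] at e
  obtain ⟨⟨_, N, rfl⟩, hN⟩ := (IsLocalization.eq_iff_exists (Submonoid.powers h) L).mp e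
  refine ⟨N + m, ?_⟩
  have : h ^ (N + m) * t = h ^ N * y := by
    rw [pow_add, mul_assoc, mul_comm (h ^ m) t]
    exact hN
  rw [this]
  exact mul_mem (pow_mem hh _) hy

end Step1

section Step2

variable (C₀ : Subalgebra k C)

/-- The inclusion `K ⊗ C₀ ⟶ K ⊗ C`. -/
noncomputable abbrev jmap : K ⊗[k] C₀ →ₐ[K] K ⊗[k] C :=
  Algebra.TensorProduct.map (AlgHom.id K K) C₀.val

/-- The conductor-like ideal `{a ∈ C₀ | a c ∈ C₀}`. -/
def condIdeal (c : C) : Ideal C₀ where
  carrier := {a | (a : C) * c ∈ C₀}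
  add_mem' := by
    intro a b ha hb
    change ((a + b : C₀) : C) * c ∈ C₀
    rw [Subalgebra.coe_add, add_mul]
    exact add_mem ha hb
  zero_mem' := by
    change ((0 : C₀) : C) * c ∈ C₀
    rw [Subalgebra.coe_zero, zero_mul]
    exact zero_mem _
  smul_mem' := by
    intro r a ha
    change ((r • a : C₀) : C) * c ∈ C₀
    rw [smul_eq_mul, Subalgebra.coe_mul, mul_assoc]
    exact mul_mem r.2 ha

theorem mem_map_condIdeal (c : C) (t₀ y₀ : K ⊗[k] C₀)
    (e : jmap C₀ t₀ * ((1 : K) ⊗ₜ[k] c) = jmap C₀ y₀) :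
    t₀ ∈ Ideal.map (Algebra.TensorProduct.includeRight : C₀ →ₐ[k] K ⊗[k] C₀).toRingHom
      (condIdeal C₀ c) := by
  let π : C →ₗ[k] C ⧸ (Subalgebra.toSubmodule C₀) := (Subalgebra.toSubmodule C₀).mkQ
  let φ : C₀ →ₗ[k] C ⧸ (Subalgebra.toSubmodule C₀) :=
    π ∘ₗ (LinearMap.mulRight k c) ∘ₗ C₀.val.toLinearMap
  have hex : Function.Exact (LinearMap.ker φ).subtype φ := LinearMap.exact_subtype_ker_map φ
  have hexK : Function.Exact (LinearMap.lTensor K (LinearMap.ker φ).subtype)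
      (LinearMap.lTensor K φ) := Module.Flat.lTensor_exact K hex
  have hA : ∀ t : K ⊗[k] C₀, LinearMap.lTensor K φ t =
      LinearMap.lTensor K π (jmap C₀ t * ((1 : K) ⊗ₜ[k] c)) := by
    intro t
    induction t using TensorProduct.induction_on with
    | zero => simp
    | tmul κ a =>
      simp only [LinearMap.lTensor_tmul, jmap, Algebra.TensorProduct.map_tmul,
        Algebra.TensorProduct.tmul_mul_tmul, mul_one]
      rfl
    | add x y hx hy => rw [map_add, map_add, add_mul, map_add, hx, hy]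
  have hB : ∀ y : K ⊗[k] C₀, LinearMap.lTensor K π (jmap C₀ y) = 0 := by
    intro y
    induction y using TensorProduct.induction_on with
    | zero => simp
    | tmul κ a =>
      simp only [jmap, Algebra.TensorProduct.map_tmul, LinearMap.lTensor_tmul]
      have : π (C₀.val a) = 0 := by
        rw [Submodule.mkQ_apply, Submodule.Quotient.mk_eq_zero]
        exact a.2
      rw [this, TensorProduct.tmul_zero]
    | add x y hx hy => rw [map_add, map_add, hx, hy, add_zero]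
  have h0 : LinearMap.lTensor K φ t₀ = 0 := by rw [hA, e, hB]
  obtain ⟨w, hw⟩ := (hexK t₀).mp h0
  rw [← hw]
  clear hw h0 e
  induction w using TensorProduct.induction_on with
  | zero => simp
  | tmul κ a' =>
    rw [LinearMap.lTensor_tmul]
    have ha' : (a' : C₀) ∈ condIdeal C₀ c := by
      have h1 : φ a' = 0 := a'.2
      change ((a' : C₀) : C) * c ∈ C₀
      have h2 : π (((a' : C₀) : C) * c) = 0 := h1
      rw [Submodule.mkQ_apply, Submodule.Quotient.mk_eq_zero] at h2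
      exact h2
    have : κ ⊗ₜ[k] ((LinearMap.ker φ).subtype a') =
        (κ ⊗ₜ[k] (1 : C₀)) *
          (Algebra.TensorProduct.includeRight : C₀ →ₐ[k] K ⊗[k] C₀).toRingHom (a' : C₀) := by
      change κ ⊗ₜ[k] (a' : C₀) = (κ ⊗ₜ[k] (1 : C₀)) * ((1 : K) ⊗ₜ[k] (a' : C₀))
      rw [Algebra.TensorProduct.tmul_mul_tmul, mul_one, one_mul]
    rw [this]
    exact Ideal.mul_mem_left _ _ (Ideal.mem_map_of_mem _ ha')
  | add x y hx hy =>
    rw [map_add]
    exact add_mem hx hy

end Step2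

section Step3

theorem isOpenMap_comap_includeRight (C₀ : Type u) [CommRing C₀] [Algebra k C₀] :
    IsOpenMap (PrimeSpectrum.comap
      (Algebra.TensorProduct.includeRight : C₀ →ₐ[k] K ⊗[k] C₀).toRingHom) := by
  have e : (Algebra.TensorProduct.includeRight : C₀ →ₐ[k] K ⊗[k] C₀).toRingHom =
      ((Algebra.TensorProduct.comm k C₀ K).toRingEquiv : C₀ ⊗[k] K →+* K ⊗[k] C₀).comp
        (algebraMap C₀ (C₀ ⊗[k] K)) := by
    ext x
    simp
  rw [e, PrimeSpectrum.comap_comp]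
  exact (PrimeSpectrum.isOpenMap_comap_algebraMap_tensorProduct_of_field).comp
    (PrimeSpectrum.homeomorphOfRingEquiv
      (Algebra.TensorProduct.comm k C₀ K).toRingEquiv).symm.isOpenMap

/-- Finite type of a localization away from `c` when `C` is, up to powers of `c`, a finitely generated
subalgebra. -/
theorem finiteType_away_of_pow_mem (C₀ : Subalgebra k C) (hfg : C₀.FG) (c : C)
    (hc : ∀ a : C, ∃ N : ℕ, c ^ N * a ∈ C₀) : Algebra.FiniteType k (Localization.Away c) := by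
  classical
  obtain ⟨s₀, hs₀⟩ := hfg
  let ι : C →ₐ[k] Localization.Away c := IsScalarTower.toAlgHom k C (Localization.Away c)
  let v : Localization.Away c := IsLocalization.Away.invSelf c
  have hv : ι c * v = 1 := IsLocalization.Away.mul_invSelf c
  let S : Subalgebra k (Localization.Away c) :=
    Algebra.adjoin k (ι '' (s₀ : Set C) ∪ {v})
  have hS₀ : ∀ a ∈ C₀, ι a ∈ S := by
    intro a ha
    have h1 : C₀.map ι ≤ S := by
      rw [← hs₀, AlgHom.map_adjoin]
      exact Algebra.adjoin_mono Set.subset_union_left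
    exact h1 ⟨a, ha, rfl⟩
  have hvS : v ∈ S := Algebra.subset_adjoin (Set.mem_union_right _ rfl)
  refine ⟨⟨(s₀.image ι) ∪ {v}, ?_⟩⟩
  rw [eq_top_iff]
  rintro z -
  have hcoe : ((s₀.image ι ∪ {v} : Finset (Localization.Away c)) : Set (Localization.Away c)) =
      ι '' (s₀ : Set C) ∪ {v} := by
    push_cast
    rfl
  rw [hcoe]
  change z ∈ S
  obtain ⟨n, a, hza⟩ := IsLocalization.Away.surj c z
  obtain ⟨N, hN⟩ := hc a
  have h1 : z = ι (c ^ N * a) * v ^ (N + n) := by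
    have h2 : ι (c ^ N * a) = z * ι c ^ (N + n) := by
      rw [map_mul, map_pow, pow_add]
      have : ι a = z * ι c ^ n := hza.symm
      rw [this]; ring
    rw [h2, mul_assoc, ← mul_pow, hv, one_pow, mul_one]
  rw [h1]
  exact mul_mem (hS₀ _ hN) (pow_mem hvS _)

variable {L : Type u} [CommRing L] [Algebra (K ⊗[k] C) L] [Algebra K L]
  [IsScalarTower K (K ⊗[k] C) L]

/-- **Pointwise descent of finite type**, ring form. -/
theorem exists_away_finiteType (h : K ⊗[k] C) [IsLocalization.Away h L]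
    (hft : Algebra.FiniteType K L) (q : Ideal (K ⊗[k] C)) [hqp : q.IsPrime] (hq : h ∉ q) :
    ∃ c : C, (1 : K) ⊗ₜ[k] c ∉ q ∧ Algebra.FiniteType k (Localization.Away c) := by
  obtain ⟨C₀, hfg, ⟨h₀, hh₀⟩, hstar⟩ := exists_fg_subalgebra (L := L) h hft
  have hh₀' : jmap C₀ h₀ = h := hh₀
  let r₀ : C₀ →+* K ⊗[k] C₀ :=
    (Algebra.TensorProduct.includeRight : C₀ →ₐ[k] K ⊗[k] C₀).toRingHom
  let q' : PrimeSpectrum (K ⊗[k] C₀) := ⟨q.comap (jmap C₀), inferInstance⟩
  have hq' : q' ∈ (PrimeSpectrum.basicOpen h₀ : Set (PrimeSpectrum (K ⊗[k] C₀))) := by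
    change h₀ ∉ q.comap (jmap C₀)
    rw [Ideal.mem_comap, hh₀']
    exact hq
  let O : Set (PrimeSpectrum C₀) := PrimeSpectrum.comap r₀ '' (PrimeSpectrum.basicOpen h₀ : Set _)
  have hO : IsOpen O := isOpenMap_comap_includeRight C₀ _ (PrimeSpectrum.basicOpen h₀).isOpen
  have hq₀ : PrimeSpectrum.comap r₀ q' ∈ O := ⟨q', hq', rfl⟩
  obtain ⟨_, ⟨c₀, rfl⟩, hq₀c, hc₀O⟩ :=
    PrimeSpectrum.isTopologicalBasis_basic_opens.exists_subset_of_mem_open hq₀ hO
  have hkey : ∀ a : C, ∃ N : ℕ, (c₀ : C) ^ N * a ∈ C₀ := by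
    intro a
    have hrad : c₀ ∈ (condIdeal C₀ a).radical := by
      rw [Ideal.radical_eq_sInf, Ideal.mem_sInf]
      rintro p ⟨hIp, hp⟩
      by_contra hc₀p
      have hP : (⟨p, hp⟩ : PrimeSpectrum C₀) ∈ O := hc₀O hc₀p
      obtain ⟨Q, hQh, hQ⟩ := hP
      obtain ⟨m, y₀, hy₀⟩ := hstar ((1 : K) ⊗ₜ[k] a)
      have e : jmap C₀ (h₀ ^ m) * ((1 : K) ⊗ₜ[k] a) = jmap C₀ y₀ := by
        rw [map_pow, hh₀']
        exact hy₀.symm
      have h1 := mem_map_condIdeal C₀ a (h₀ ^ m) y₀ e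
      have h2 : Ideal.map r₀ (condIdeal C₀ a) ≤ Q.asIdeal := by
        rw [Ideal.map_le_iff_le_comap]
        have : Q.asIdeal.comap r₀ = p := congrArg PrimeSpectrum.asIdeal hQ
        rw [this]
        exact hIp
      exact hQh (Q.isPrime.mem_of_pow_mem m (h2 h1))
    obtain ⟨N, hN⟩ := hrad
    refine ⟨N, ?_⟩
    have : ((c₀ ^ N : C₀) : C) * a ∈ C₀ := hN
    rwa [Subalgebra.coe_pow] at this
  refine ⟨(c₀ : C), ?_, finiteType_away_of_pow_mem C₀ hfg (c₀ : C) hkey⟩
  intro hmem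
  apply hq₀c
  change r₀ c₀ ∈ q.comap (jmap C₀)
  rw [Ideal.mem_comap]
  have : jmap C₀ (r₀ c₀) = (1 : K) ⊗ₜ[k] (c₀ : C) := by
    change jmap C₀ ((1 : K) ⊗ₜ[k] c₀) = _
    simp [jmap]
  rw [this]
  exact hmem

end Step3

end Groth.Agent.Lib.Helper41.LftDescentAlg
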