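import Mathlib
import Groth.Agent.Lib.Helper41.LftDescentAlg

/-!
# Pointwise descent of "locally of finite type" along a base change over a field (helper41), scheme form

Let `k` be a field, `f : X ⟶ Spec k`, `g : Spec K ⟶ Spec k` (`K` any `k`-algebra) and `Z = X ×_k K`.
If `Ω ⊆ Z` is an open which is locally of finite type over `K` and `p ∈ Ω`, then the image of `p` in
`X` has an open neighbourhood which is locally of finite type over `k`.
-/

set_option autoImplicit false
universe u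
open CategoryTheory CategoryTheory.Limits AlgebraicGeometry TensorProduct

namespace Groth.Agent.Lib.Helper41.LftDescentSch

open Groth.Agent.Lib.Helper41.LftDescentAlg

theorem exists_lft_nhd_of_isPullback {k : Type u} [Field k] {X Z : Scheme.{u}} {K : CommRingCat.{u}}
    {f : X ⟶ Spec (CommRingCat.of k)} {g : Spec K ⟶ Spec (CommRingCat.of k)}
    {p₁ : Z ⟶ X} {p₂ : Z ⟶ Spec K} (hpb : IsPullback p₁ p₂ f g) (Ω : Z.Opens)
    [hΩ : LocallyOfFiniteType (Ω.ι ≫ p₂)] (p : Z) (hp : p ∈ Ω) :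
    ∃ U : X.Opens, p₁ p ∈ U ∧ LocallyOfFiniteType (U.ι ≫ f) := by
  obtain ⟨_, ⟨X₀, hX₀', rfl⟩, hx, -⟩ :=
    X.isBasis_affineOpens.exists_subset_of_mem_open (Set.mem_univ (p₁ p)) isOpen_univ
  have hX₀ : IsAffineOpen X₀ := hX₀'
  -- the rings
  let C : CommRingCat.{u} := Γ(X, X₀)
  let φC : CommRingCat.of k ⟶ C := Spec.preimage (hX₀.fromSpec ≫ f)
  let φK : CommRingCat.of k ⟶ K := Spec.preimage g
  have hφC : Spec.map φC = hX₀.fromSpec ≫ f := Spec.map_preimage _
  have hφK : Spec.map φK = g := Spec.map_preimage _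
  let _ : Algebra k C := φC.hom.toAlgebra
  let _ : Algebra k K := φK.hom.toAlgebra
  let T : Type u := K ⊗[k] C
  let iL : K ⟶ CommRingCat.of T := CommRingCat.ofHom Algebra.TensorProduct.includeLeftRingHom
  let iR : C ⟶ CommRingCat.of T :=
    CommRingCat.ofHom (Algebra.TensorProduct.includeRight : C →ₐ[k] T).toRingHom
  have hpo : IsPushout φK φC iL iR := CommRingCat.isPushout_tensorProduct k K C
  have hpbT : IsPullback (Spec.map iL) (Spec.map iR) (Spec.map φK) (Spec.map φC) :=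
    isPullback_SpecMap_of_isPushout _ _ _ _ hpo
  -- the open immersion `ψ : Spec T ⟶ Z`
  have hcomm : (Spec.map iR ≫ hX₀.fromSpec) ≫ f = Spec.map iL ≫ g := by
    rw [Category.assoc, ← hφC, ← hφK]
    exact hpbT.w.symm
  let ψ : Spec (CommRingCat.of T) ⟶ Z := hpb.lift (Spec.map iR ≫ hX₀.fromSpec) (Spec.map iL) hcomm
  have hψ₁ : ψ ≫ p₁ = Spec.map iR ≫ hX₀.fromSpec := hpb.lift_fst _ _ _
  have hψ₂ : ψ ≫ p₂ = Spec.map iL := hpb.lift_snd _ _ _
  have hsqL : IsPullback ψ (Spec.map iR) p₁ hX₀.fromSpec := by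
    refine IsPullback.of_right ?_ hψ₁ hpb.flip
    rw [hψ₂, ← hφC, ← hφK]
    exact hpbT
  have : IsOpenImmersion ψ :=
    MorphismProperty.of_isPullback (P := @IsOpenImmersion) hsqL.flip inferInstance
  -- the point of `Spec T` above `p`
  have hxr : p₁ p ∈ Set.range hX₀.fromSpec := by
    rw [hX₀.range_fromSpec]; exact hx
  obtain ⟨cpt, hcpt⟩ := hxr
  obtain ⟨qpt, hq₁, hq₂⟩ := Scheme.exists_preimage_of_isPullback hsqL p cpt hcpt.symm
  -- basic open around `qpt` inside `ψ⁻¹ Ω`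
  have hqΩ : qpt ∈ ψ ⁻¹ᵁ Ω := by
    change ψ qpt ∈ Ω
    rw [hq₁]; exact hp
  obtain ⟨_, ⟨h, rfl⟩, hqh, hhΩ⟩ :=
    PrimeSpectrum.isTopologicalBasis_basic_opens.exists_subset_of_mem_open hqΩ (ψ ⁻¹ᵁ Ω).2
  -- the localisation `L = T[1/h]` is of finite type over `K`
  let L : Type u := Localization.Away h
  let j : Spec (CommRingCat.of L) ⟶ Spec (CommRingCat.of T) :=
    Spec.map (CommRingCat.ofHom (algebraMap T L))
  have hjo : IsOpenImmersion j := inferInstance
  have hjr : Set.range (j ≫ ψ) ⊆ Set.range Ω.ι := by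
    rintro _ ⟨y, rfl⟩
    rw [Scheme.Opens.range_ι]
    have hy : j y ∈ (PrimeSpectrum.basicOpen h : Set (PrimeSpectrum T)) := by
      have := (Scheme.Hom.opensRange_localizationAway (R := CommRingCat.of T) h)
      rw [← this]
      exact ⟨y, rfl⟩
    exact hhΩ hy
  let l : Spec (CommRingCat.of L) ⟶ Ω := IsOpenImmersion.lift Ω.ι (j ≫ ψ) hjr
  have hl : l ≫ Ω.ι = j ≫ ψ := IsOpenImmersion.lift_fac _ _ _
  have hlo : IsOpenImmersion l := by
    have : IsOpenImmersion (l ≫ Ω.ι) := by rw [hl]; infer_instance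
    exact IsOpenImmersion.of_comp l Ω.ι
  have hKL : LocallyOfFiniteType (Spec.map (CommRingCat.ofHom (algebraMap K L))) := by
    have h1 : LocallyOfFiniteType (l ≫ Ω.ι ≫ p₂) := inferInstance
    have h2 : l ≫ Ω.ι ≫ p₂ = Spec.map (CommRingCat.ofHom (algebraMap K L)) := by
      rw [← Category.assoc, hl, Category.assoc, hψ₂, ← Spec.map_comp]
      congr 1
    rwa [h2] at h1
  have hft : Algebra.FiniteType K L := by
    rw [HasRingHomProperty.Spec_iff (P := @LocallyOfFiniteType)] at hKL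
    exact RingHom.finiteType_algebraMap.mp hKL
  -- apply the ring-level statement
  have hqp : qpt.asIdeal.IsPrime := qpt.isPrime
  obtain ⟨c, hc, hcft⟩ := exists_away_finiteType (L := L) h hft qpt.asIdeal hqh
  let ρ₀ : Spec (CommRingCat.of (Localization.Away c)) ⟶ Spec C :=
    Spec.map (CommRingCat.ofHom (algebraMap C (Localization.Away c)))
  let ρ : Spec (CommRingCat.of (Localization.Away c)) ⟶ X := ρ₀ ≫ hX₀.fromSpec
  have hρo : IsOpenImmersion ρ := inferInstance
  refine ⟨ρ.opensRange, ?_, ?_⟩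
  · -- `p₁ p` lies in the range of `ρ`
    have hcc : cpt ∈ (PrimeSpectrum.basicOpen c : Set (PrimeSpectrum C)) := by
      rw [← hq₂]
      change c ∉ (Spec.map iR qpt).asIdeal
      exact hc
    have hr : cpt ∈ Set.range ρ₀ := by
      have := (Scheme.Hom.opensRange_localizationAway (R := C) c)
      have h3 : cpt ∈ ρ₀.opensRange := by rw [this]; exact hcc
      exact h3
    obtain ⟨y, hy⟩ := hr
    refine ⟨y, ?_⟩
    change hX₀.fromSpec (ρ₀ y) = p₁ p
    rw [hy, hcpt]
  · have h1 : ρ.opensRange.ι ≫ f = ρ.isoOpensRange.inv ≫ ρ ≫ f := by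
      rw [← Category.assoc, Scheme.Hom.isoOpensRange_inv_comp]
    rw [h1]
    have h2 : ρ ≫ f = Spec.map (CommRingCat.ofHom (algebraMap k (Localization.Away c))) := by
      change (ρ₀ ≫ hX₀.fromSpec) ≫ f = _
      rw [Category.assoc, ← hφC, ← Spec.map_comp]
      congr 1
    have h3 : LocallyOfFiniteType (ρ ≫ f) := by
      rw [h2, HasRingHomProperty.Spec_iff (P := @LocallyOfFiniteType)]
      exact RingHom.finiteType_algebraMap.mpr hcft
    infer_instance

end Groth.Agent.Lib.Helper41.LftDescentSch
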