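import Mathlib
import Groth.Agent.Lib.Helper41.LftDescentSch
import Groth.Agent.Lib.Helper26.MaxOpenSubgroup

/-!
# A group scheme over a field which is locally of finite type on a nonempty open is locally of finite type
(helper41)

Translation argument (SGA3 VI_A 2.5.1 / VI_B): for `z ∈ G` write `z = w · b` with `w ∈ W`; over `K = κ(b)` the
translate `W_K · b_K` is an open of `G_K`, locally of finite type over `K`, containing a point above `z`; then
pointwise descent of finite type (`LftDescentSch.exists_lft_nhd_of_isPullback`).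
-/

set_option autoImplicit false
universe u
open CategoryTheory CategoryTheory.Limits MonoidalCategory CartesianMonoidalCategory MonObj GrpObj
  AlgebraicGeometry

namespace Groth.Agent.Lib.Helper41.LftGroupField

open Groth.Agent.Lib.Helper26.MaxOpenSubgroup Groth.Agent.Lib.Helper26.GrpQuotGen

section Gen

variable {S : Scheme.{u}} {G : Over S} [GrpObj G]

lemma whiskerRight_mul_eq {T : Over S} (j : T ⟶ G) :
    (j ▷ G) ≫ μ[G] = (fst T G ≫ j) * snd T G := by
  rw [Hom.mul_def]
  congr 1

/-- `W × G ⟶ G`, `(w, g) ↦ w · g` is surjective on points when `W ⟶ S` is surjective. -/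
lemma exists_mul_eq (W : G.left.Opens) [hWs : Surjective (W.ι ≫ G.hom)] (z : G.left) :
    ∃ ζ : ↥(VO W ⊗ G).left, ((jV W ▷ G) ≫ μ[G]).left ζ = z := by
  let T := VO W
  let θ : T ⊗ G ⟶ T ⊗ G := lift (fst T G) ((fst T G ≫ jV W)⁻¹ * snd T G)
  have hθ : θ ≫ (jV W ▷ G) ≫ μ[G] = snd T G := by
    rw [whiskerRight_mul_eq, MonObj.comp_mul, lift_fst_assoc, lift_snd, mul_inv_cancel_left]
  have hs : Surjective (snd T G).left := by
    have : Surjective T.hom := hWs
    exact inferInstanceAs (Surjective (pullback.snd T.hom G.hom))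
  obtain ⟨ζ₀, hζ₀⟩ := hs.surj z
  refine ⟨θ.left ζ₀, ?_⟩
  rw [← Scheme.Hom.comp_apply, ← Over.comp_left, hθ]
  exact hζ₀

end Gen

/-- Over a field: a group scheme locally of finite type on a nonempty open is locally of finite type. -/
theorem lft_of_nonempty_open_field (k : Type u) [Field k] (G : Over (Spec (CommRingCat.of k)))
    [GrpObj G] (W : G.left.Opens) (hW : (W : Set G.left).Nonempty)
    [hWlft : LocallyOfFiniteType (W.ι ≫ G.hom)] : LocallyOfFiniteType G.hom := by
  obtain ⟨w₀, hw₀⟩ := hW
  have hWs : Surjective (W.ι ≫ G.hom) := by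
    constructor
    intro s
    exact ⟨⟨w₀, hw₀⟩, Subsingleton.elim (α := PrimeSpectrum k) _ _⟩
  let T := VO W
  -- it suffices to find, around each point, an open locally of finite type
  suffices h : ∀ z : G.left, ∃ U : G.left.Opens, z ∈ U ∧ LocallyOfFiniteType (U.ι ≫ G.hom) by
    choose V hzV hV using h
    have : IsZariskiLocalAtSource @LocallyOfFiniteType.{u} :=
      HasRingHomProperty.instIsZariskiLocalAtSource (P := @LocallyOfFiniteType)
        (Q := RingHom.FiniteType)
    exact IsZariskiLocalAtSource.of_iSup_eq_top V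
      (eq_top_iff.mpr fun x _ => TopologicalSpace.Opens.mem_iSup.mpr ⟨x, hzV x⟩) hV
  intro z
  obtain ⟨ζ, hζ⟩ := exists_mul_eq W z
  let b : G.left := (snd T G).left ζ
  let P : Over (Spec (CommRingCat.of k)) := Over.mk (G.left.fromSpecResidueField b ≫ G.hom)
  let bK : P ⟶ G := Over.homMk (G.left.fromSpecResidueField b) rfl
  let Φ : T ⊗ P ⟶ G ⊗ P := (jV W ▷ P) ≫ (shear bK).hom
  -- `Φ` is an open immersion
  have hjo : IsOpenImmersion (jV W ▷ P).left := by
    have hj : IsOpenImmersion (jV W).left := by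
      change IsOpenImmersion W.ι
      infer_instance
    exact MorphismProperty.of_isPullback (P := @IsOpenImmersion)
      ((isPullback_whiskerRight P (jV W)).map (Over.forget _)).flip hj
  have hsi : IsIso (shear bK).hom.left :=
    inferInstanceAs (IsIso ((Over.forget _).map (shear bK).hom))
  have hΦo : IsOpenImmersion Φ.left := by
    change IsOpenImmersion ((jV W ▷ P) ≫ (shear bK).hom).left
    rw [Over.comp_left]
    infer_instance
  let Ω : (G ⊗ P).left.Opens := Φ.left.opensRange
  -- `Ω` is locally of finite type over `P`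
  have hΦsnd : Φ ≫ snd G P = snd T P := by
    change ((jV W ▷ P) ≫ (shear bK).hom) ≫ snd G P = _
    rw [Category.assoc, shear_hom, lift_snd, whiskerRight_snd]
  have hsndT : LocallyOfFiniteType (snd T P).left := by
    have : LocallyOfFiniteType T.hom := hWlft
    exact inferInstanceAs (LocallyOfFiniteType (pullback.snd T.hom P.hom))
  have hΩ : LocallyOfFiniteType (Ω.ι ≫ (snd G P).left) := by
    have h0 : Φ.left ≫ (snd G P).left = (snd T P).left := by
      rw [← Over.comp_left, hΦsnd]
    have h1 : Ω.ι ≫ (snd G P).left = Φ.left.isoOpensRange.inv ≫ (snd T P).left := by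
      rw [← h0, ← Category.assoc, Scheme.Hom.isoOpensRange_inv_comp]
    rw [h1]
    infer_instance
  -- the point of `T ⊗ P` above `ζ`
  have sqL := (isPullback_whiskerLeft T bK).map (Over.forget _)
  obtain ⟨pt⟩ : Nonempty (Spec (G.left.residueField b)) := inferInstance
  have hpt : bK.left pt = b := Scheme.fromSpecResidueField_apply _ _
  obtain ⟨zK, hzK₁, hzK₂⟩ : ∃ zK : ↥(T ⊗ P).left, (T ◁ bK).left zK = ζ ∧ (snd T P).left zK = pt :=
    Scheme.exists_preimage_of_isPullback sqL ζ pt hpt.symm
  -- apply pointwise descent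
  have hpb : IsPullback (fst G P).left (snd G P).left G.hom P.hom :=
    IsPullback.of_hasPullback G.hom P.hom
  obtain ⟨U, hU, hUlft⟩ := Groth.Agent.Lib.Helper41.LftDescentSch.exists_lft_nhd_of_isPullback
    hpb Ω (Φ.left zK) ⟨zK, rfl⟩
  refine ⟨U, ?_, hUlft⟩
  have hΦfst : Φ ≫ fst G P = (T ◁ bK) ≫ (jV W ▷ G) ≫ μ[G] := by
    change ((jV W ▷ P) ≫ (shear bK).hom) ≫ fst G P = _
    rw [Category.assoc, shear_hom, lift_fst, MonObj.comp_mul, whiskerRight_fst,
      whiskerRight_snd_assoc, whiskerRight_mul_eq, MonObj.comp_mul, whiskerLeft_fst_assoc,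
      whiskerLeft_snd]
  have hz : (fst G P).left (Φ.left zK) = z := by
    have h0 : Φ.left ≫ (fst G P).left = (T ◁ bK).left ≫ ((jV W ▷ G) ≫ μ[G]).left := by
      rw [← Over.comp_left, hΦfst, Over.comp_left]
    have h1 : (Φ.left ≫ (fst G P).left) zK = ((T ◁ bK).left ≫ ((jV W ▷ G) ≫ μ[G]).left) zK := by
      rw [h0]
    rw [Scheme.Hom.comp_apply, Scheme.Hom.comp_apply] at h1
    rw [h1]
    have : (T ◁ bK).left zK = ζ := hzK₁
    rw [this]
    exact hζ
  rw [← hz]
  exact hU

end Groth.Agent.Lib.Helper41.LftGroupField
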