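import Mathlib

/-!
# The truncated logarithm polynomial and `log((1+X)^j) ≡ j log(1+X)  mod X^{d+1}`
-/

set_option autoImplicit false
open Finset Polynomial

namespace Groth.Agent.Lib.Helper41.LogTrunc

/-- `Σ_{n ≤ d} (-1)^n/(n+1) X^{n+1}` -/
noncomputable def logT (d : ℕ) : ℚ[X] :=
  ∑ n ∈ range (d + 1), C ((-1 : ℚ) ^ n / ((n : ℚ) + 1)) * X ^ (n + 1)

theorem derivative_logT (d : ℕ) : derivative (logT d) = ∑ n ∈ range (d + 1), (-X : ℚ[X]) ^ n := by
  unfold logT
  rw [derivative_sum]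
  refine Finset.sum_congr rfl fun n _ => ?_
  rw [derivative_C_mul_X_pow, Nat.add_sub_cancel]
  have hc : (-1 : ℚ) ^ n / ((n : ℚ) + 1) * ((n + 1 : ℕ) : ℚ) = (-1) ^ n := by
    have : ((n : ℚ) + 1) ≠ 0 := by positivity
    push_cast
    field_simp
  rw [hc]
  conv_rhs => rw [neg_pow]
  rw [map_pow, map_neg, map_one]

theorem one_add_X_mul_derivative_logT (d : ℕ) :
    (1 + X) * derivative (logT d) = 1 - (-X : ℚ[X]) ^ (d + 1) := by
  rw [derivative_logT]
  have := mul_neg_geom_sum (-X : ℚ[X]) (d + 1)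
  rw [sub_neg_eq_add] at this
  exact this

theorem coeff_zero_logT (d : ℕ) : (logT d).coeff 0 = 0 := by
  unfold logT
  rw [finsetSum_coeff]
  apply Finset.sum_eq_zero
  intro n _
  rw [coeff_C_mul, coeff_X_pow, if_neg (by omega), mul_zero]

/-- `B_j = (1 + X)^j - 1` -/
noncomputable def B (j : ℕ) : ℚ[X] := (1 + X) ^ j - 1

theorem X_dvd_B (j : ℕ) : X ∣ B j := by
  rw [X_dvd_iff, B, coeff_sub, coeff_one_zero, coeff_zero_eq_eval_zero]
  simp

/-- the defect polynomial -/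
noncomputable def defect (d j : ℕ) : ℚ[X] := (logT d).comp (B j) - C (j : ℚ) * logT d

theorem coeff_zero_defect (d j : ℕ) : (defect d j).coeff 0 = 0 := by
  unfold defect
  rw [coeff_sub, coeff_C_mul, coeff_zero_logT, mul_zero, sub_zero, coeff_zero_eq_eval_zero, eval_comp]
  have : eval 0 (B j) = 0 := by simp [B]
  rw [this, ← coeff_zero_eq_eval_zero, coeff_zero_logT]

theorem pow_mul_derivative_defect (d j : ℕ) (hj : 1 ≤ j) :
    (1 + X) ^ j * derivative (defect d j) =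
      C (j : ℚ) * (1 + X) ^ (j - 1) * ((-X : ℚ[X]) ^ (d + 1) - (-(B j)) ^ (d + 1)) := by
  have hB : derivative (B j) = C (j : ℚ) * (1 + X) ^ (j - 1) := by
    unfold B
    rw [derivative_sub, derivative_one, sub_zero, derivative_pow, derivative_add, derivative_one,
      derivative_X, zero_add, mul_one]
  have h1 : (1 + X : ℚ[X]) ^ j = (1 + X : ℚ[X]).comp (B j) := by
    simp [B]
  have h2 : (1 + X : ℚ[X]) ^ j * (derivative (logT d)).comp (B j) = 1 - (-(B j)) ^ (d + 1) := by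
    rw [h1, ← mul_comp, one_add_X_mul_derivative_logT]
    simp
  have h3 : (1 + X : ℚ[X]) ^ j = (1 + X) ^ (j - 1) * (1 + X) := by
    rw [← pow_succ]; congr 1; omega
  unfold defect
  rw [derivative_sub, derivative_comp, derivative_C_mul, hB, mul_sub]
  have e1 : (1 + X : ℚ[X]) ^ j * (C (j : ℚ) * (1 + X) ^ (j - 1) * (derivative (logT d)).comp (B j)) =
      C (j : ℚ) * (1 + X) ^ (j - 1) * ((1 + X) ^ j * (derivative (logT d)).comp (B j)) := by ring
  have e2 : (1 + X : ℚ[X]) ^ j * (C (j : ℚ) * derivative (logT d)) =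
      C (j : ℚ) * (1 + X) ^ (j - 1) * ((1 + X) * derivative (logT d)) := by
    rw [h3]; ring
  rw [e1, e2, h2, one_add_X_mul_derivative_logT]
  ring

theorem X_pow_dvd_defect (d j : ℕ) (hj : 1 ≤ j) : X ^ (d + 1) ∣ defect d j := by
  have h1 : X ^ (d + 1) ∣ (1 + X : ℚ[X]) ^ j * derivative (defect d j) := by
    rw [pow_mul_derivative_defect d j hj]
    apply Dvd.dvd.mul_left
    apply dvd_sub
    · rw [neg_pow]; exact Dvd.intro_left _ rfl
    · rw [neg_pow]
      exact Dvd.dvd.mul_left (pow_dvd_pow_of_dvd (X_dvd_B j) (d + 1)) _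
  have hcop : IsCoprime (X ^ (d + 1) : ℚ[X]) ((1 + X) ^ j) := by
    apply IsCoprime.pow
    exact ⟨-1, 1, by ring⟩
  have h2 : X ^ (d + 1) ∣ derivative (defect d j) := hcop.dvd_of_dvd_mul_left h1
  rw [X_pow_dvd_iff] at h2 ⊢
  intro k hk
  rcases k with _ | k
  · exact coeff_zero_defect d j
  · have := h2 k (by omega)
    rw [coeff_derivative] at this
    have hne : ((k : ℚ) + 1) ≠ 0 := by positivity
    exact (mul_eq_zero.mp this).resolve_right hne

/-- Consequence in a `ℚ`-algebra: if `t^{d+1} = 0` then `logT((1+t)^j - 1) = j logT(t)`. -/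
theorem aeval_logT_pow {A : Type*} [CommRing A] [Algebra ℚ A] (d j : ℕ) (hj : 1 ≤ j) (t : A)
    (ht : t ^ (d + 1) = 0) :
    aeval ((1 + t) ^ j - 1) (logT d) = (j : ℚ) • aeval t (logT d) := by
  obtain ⟨q, hq⟩ := X_pow_dvd_defect d j hj
  have h1 := congrArg (aeval t) hq
  rw [map_mul, map_pow, aeval_X, ht, zero_mul] at h1
  unfold defect at h1
  rw [map_sub, aeval_comp, map_mul, aeval_C, sub_eq_zero] at h1
  have hB : aeval t (B j) = (1 + t) ^ j - 1 := by simp [B]
  rw [hB] at h1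
  rw [h1, Algebra.smul_def]

theorem aeval_logT {A : Type*} [CommRing A] [Algebra ℚ A] (d : ℕ) (t : A) :
    aeval t (logT d) = ∑ n ∈ range (d + 1), ((-1 : ℚ) ^ n / ((n : ℚ) + 1)) • t ^ (n + 1) := by
  unfold logT
  rw [map_sum]
  refine Finset.sum_congr rfl fun n _ => ?_
  rw [map_mul, aeval_C, map_pow, aeval_X, Algebra.smul_def]

end Groth.Agent.Lib.Helper41.LogTrunc
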