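import Groth.Agent.Lib.Helper26.MaxOpenSubgroup
import Groth.Agent.Lib.Helper71.FppfChart
import Groth.Agent.Lib.Helper71.SmoothDescent
import Groth.Agent.Lib.Helper14.SmoothFlatDescent
import Groth.Agent.Lib.Helper14.GroupFibreLoci
import Groth.Agent.Lib.Helper41.FlatSourceDescent

/-!
# The largest open on which a homomorphism is fppf / smooth / etale is an open subgroup (helper41)

SGA3 VI_B 2.2, following the translation argument of `Helper26.MaxOpenSubgroup`:
for `u : G ⟶ H` a homomorphism of `S`-groups and `V ⊆ G` open with `V ⟶ S` flat lfp: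
* `flat_lfp_mul` : if `u|_V` is flat lfp then `u` is flat lfp on `V · V`;
* `smooth_mul` : if moreover `u|_V` is smooth then `u` is smooth on `V · V`;
* `etale_mul` : likewise for etale.
-/

set_option autoImplicit false

universe u

open CategoryTheory AlgebraicGeometry MonoidalCategory CartesianMonoidalCategory MonObj GrpObj Limits

namespace Groth.Agent.Lib.Helper41.MaxOpenP

open Groth.Agent.Lib.Helper26.MaxOpenSubgroup
open Groth.Agent.Lib.Helper26.GrpQuotGen

section Gen

variable {S : Scheme.{u}} (P : MorphismProperty Scheme.{u}) [P.IsStableUnderBaseChange]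

lemma fst_left_P (G T : Over S) (hT : P T.hom) : P (fst G T).left :=
  MorphismProperty.of_isPullback (P := P) (IsPullback.of_hasPullback G.hom T.hom).flip hT

lemma whiskerRight_left_P {X Y : Over S} (f : X ⟶ Y) (T : Over S) (hf : P f.left) :
    P (f ▷ T).left :=
  MorphismProperty.of_isPullback (P := P)
    ((isPullback_whiskerRight T f).map (Over.forget S)).flip hf

variable [P.IsStableUnderComposition]
variable {G H : Over S} [GrpObj G] [GrpObj H] (u : G ⟶ H) [IsMonHom u] (V : G.left.Opens)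

lemma mV_left_P (hopen : P V.ι) (hTS : P (V.ι ≫ G.hom)) : P (mV V).left := by
  rw [mV, tensorHom_mul_eq, Over.comp_left, Over.comp_left]
  have h1 : P (jV V ▷ VO V).left := whiskerRight_left_P P (jV V) (VO V) hopen
  have h2 : P (fst G (VO V)).left := fst_left_P P G (VO V) hTS
  have : IsIso (shear (jV V)).hom.left :=
    inferInstanceAs (IsIso ((Over.forget S).map (shear (jV V)).hom))
  exact P.comp_mem _ _ h1 ((P.cancel_left_of_respectsIso _ _).mpr h2)

lemma mV_comp_left_P (hTS : P (V.ι ≫ G.hom)) (hV : P (V.ι ≫ u.left)) :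
    P ((mV V).left ≫ u.left) := by
  rw [← Over.comp_left, mV, tensorHom_mul_comp_eq, Over.comp_left, Over.comp_left]
  have h1 : P ((jV V ≫ u) ▷ VO V).left := whiskerRight_left_P P (jV V ≫ u) (VO V) hV
  have h2 : P (fst H (VO V)).left := fst_left_P P H (VO V) hTS
  have : IsIso (shear (jV V ≫ u)).hom.left :=
    inferInstanceAs (IsIso ((Over.forget S).map (shear (jV V ≫ u)).hom))
  exact P.comp_mem _ _ h1 ((P.cancel_left_of_respectsIso _ _).mpr h2)

end Gen

section Mul

variable {S : Scheme.{u}} {G H : Over S} [GrpObj G] [GrpObj H] (u : G ⟶ H) [IsMonHom u]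
  (V : G.left.Opens) (W : G.left.Opens) (hW : (W : Set G.left) = Set.range (mV V).left.base)

/-- The multiplication `V ×_S V ⟶ W = V · V`. -/
noncomputable def toMul : (VO V ⊗ VO V).left ⟶ W.toScheme :=
  IsOpenImmersion.lift W.ι (mV V).left (by rw [Scheme.Opens.range_ι, hW])

lemma toMul_ι : toMul V W hW ≫ W.ι = (mV V).left := IsOpenImmersion.lift_fac _ _ _

include hW in
lemma toMul_surjective : Surjective (toMul V W hW) := by
  constructor
  intro w
  obtain ⟨x, hx⟩ : w.1 ∈ Set.range (mV V).left.base := by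
    rw [← hW]; exact w.2
  refine ⟨x, ?_⟩
  apply W.ι.isOpenEmbedding.injective
  have : W.ι.base ((toMul V W hW).base x) = (toMul V W hW ≫ W.ι).base x := rfl
  rw [this, toMul_ι, hx]
  rfl

lemma toMul_P (P : MorphismProperty Scheme.{u}) [P.IsStableUnderBaseChange]
    (h : P (mV V).left) : P (toMul V W hW) := by
  refine MorphismProperty.of_postcomp (W := P) (W' := MorphismProperty.monomorphisms _)
    (toMul V W hW) W.ι ?_ ?_
  · exact MorphismProperty.monomorphisms.infer_property _
  · rw [toMul_ι]; exact h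

include hW in
theorem flat_lfp_mul (hTS₁ : Flat (V.ι ≫ G.hom)) (hTS₂ : LocallyOfFinitePresentation (V.ι ≫ G.hom))
    (hV₁ : Flat (V.ι ≫ u.left)) (hV₂ : LocallyOfFinitePresentation (V.ι ≫ u.left)) :
    Flat (W.ι ≫ u.left) ∧ LocallyOfFinitePresentation (W.ι ≫ u.left) := by
  have hm₁ : Flat (mV V).left := mV_left_P @Flat V inferInstance hTS₁
  have hm₂ : LocallyOfFinitePresentation (mV V).left :=
    mV_left_P @LocallyOfFinitePresentation V inferInstance hTS₂
  have hmu₁ : Flat ((mV V).left ≫ u.left) := mV_comp_left_P @Flat u V hTS₁ hV₁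
  have hmu₂ : LocallyOfFinitePresentation ((mV V).left ≫ u.left) :=
    mV_comp_left_P @LocallyOfFinitePresentation u V hTS₂ hV₂
  have hp₁ : Flat (toMul V W hW) := toMul_P V W hW @Flat hm₁
  have hp₂ : LocallyOfFinitePresentation (toMul V W hW) :=
    toMul_P V W hW @LocallyOfFinitePresentation hm₂
  have hp₃ : Surjective (toMul V W hW) := toMul_surjective V W hW
  have e : toMul V W hW ≫ W.ι ≫ u.left = (mV V).left ≫ u.left := by
    rw [← Category.assoc, toMul_ι]
  constructor
  · apply Groth.Agent.Lib.Helper41.FlatSourceDescent.flat_of_comp_of_flat_surjective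
      (toMul V W hW)
    rw [e]; exact hmu₁
  · have : LocallyOfFinitePresentation (toMul V W hW ≫ W.ι ≫ u.left) := by
      rw [e]; exact hmu₂
    exact Groth.Agent.Lib.Helper71.FppfChart.locallyOfFinitePresentation_of_fppf_comp
      (toMul V W hW) (W.ι ≫ u.left)

end Mul

section Pointwise

variable {S : Scheme.{u}} {G H : Over S} [GrpObj G] [GrpObj H] (u : G ⟶ H) [IsMonHom u]
  (V : G.left.Opens) (W : G.left.Opens) (hW : (W : Set G.left) = Set.range (mV V).left.base)

/-- The multiplication `V ×_S V ⟶ W` over `S`. -/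
noncomputable def mW : VO V ⊗ VO V ⟶ VO W :=
  Over.homMk (toMul V W hW) (by
    change toMul V W hW ≫ W.ι ≫ G.hom = _
    rw [← Category.assoc, toMul_ι]
    exact Over.w (mV V))

lemma mW_jV : mW V W hW ≫ jV W = mV V := by
  ext
  exact toMul_ι V W hW

/-- `(v₁, v₂) ↦ (v₁ v₂, v₂)`. -/
noncomputable def Psi : VO V ⊗ VO V ⟶ VO W ⊗ VO V := lift (mW V W hW) (snd _ _)

lemma Psi_fst : Psi V W hW ≫ fst _ _ = mW V W hW := lift_fst _ _

lemma Psi_whiskerRight_jV :
    Psi V W hW ≫ (jV W ▷ VO V) = (jV V ▷ VO V) ≫ (shear (jV V)).hom := by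
  apply CartesianMonoidalCategory.hom_ext
  · rw [Category.assoc, whiskerRight_fst, ← Category.assoc, Psi_fst, mW_jV, Category.assoc]
    exact tensorHom_mul_eq (jV V)
  · simp [Psi, shear]

lemma Psi_whiskerRight_u :
    Psi V W hW ≫ ((jV W ≫ u) ▷ VO V) =
      ((jV V ≫ u) ▷ VO V) ≫ (shear (jV V ≫ u)).hom := by
  apply CartesianMonoidalCategory.hom_ext
  · rw [Category.assoc, whiskerRight_fst, ← Category.assoc, Psi_fst, ← Category.assoc, mW_jV,
      Category.assoc]
    exact tensorHom_mul_comp_eq (jV V) u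
  · simp [Psi, shear]

lemma isOpenImmersion_Psi : IsOpenImmersion (Psi V W hW).left := by
  have h1 : IsOpenImmersion (jV W ▷ VO V).left :=
    whiskerRight_left_P @IsOpenImmersion (jV W) (VO V) (inferInstanceAs (IsOpenImmersion W.ι))
  have h2 : IsOpenImmersion (jV V ▷ VO V).left :=
    whiskerRight_left_P @IsOpenImmersion (jV V) (VO V) (inferInstanceAs (IsOpenImmersion V.ι))
  have h3 : IsIso (shear (jV V)).hom.left :=
    inferInstanceAs (IsIso ((Over.forget S).map (shear (jV V)).hom))
  have h4 : IsOpenImmersion ((Psi V W hW).left ≫ (jV W ▷ VO V).left) := by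
    rw [← Over.comp_left, Psi_whiskerRight_jV, Over.comp_left]
    infer_instance
  exact IsOpenImmersion.of_comp (Psi V W hW).left (jV W ▷ VO V).left

/-- The base change square of `u|_W` along `H ×_S V ⟶ H`. -/
lemma sq_uW : IsPullback (fst (VO W) (VO V)).left ((jV W ≫ u) ▷ VO V).left (jV W ≫ u).left
    (fst H (VO V)).left :=
  ((isPullback_whiskerRight (VO V) (jV W ≫ u)).map (Over.forget S)).flip

lemma fst_Psi_apply (z' : ↥(VO V ⊗ VO V).left) :
    (fst (VO W) (VO V)).left ((Psi V W hW).left z') = toMul V W hW z' := by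
  rw [← Scheme.Hom.comp_apply, ← Over.comp_left, Psi_fst]
  rfl

include hW in
theorem smooth_mul (hTS₁ : Flat (V.ι ≫ G.hom)) (hTS₂ : LocallyOfFinitePresentation (V.ι ≫ G.hom))
    (hV : Smooth (V.ι ≫ u.left)) : Smooth (W.ι ≫ u.left) := by
  obtain ⟨hfl, hlfp⟩ := flat_lfp_mul u V W hW hTS₁ hTS₂ inferInstance inferInstance
  have hlfp' : LocallyOfFinitePresentation (jV W ≫ u).left := hlfp
  have hlfp'' : LocallyOfFinitePresentation ((jV W ≫ u) ▷ VO V).left :=
    whiskerRight_left_P @LocallyOfFinitePresentation (jV W ≫ u) (VO V) hlfp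
  have hΨ := isOpenImmersion_Psi V W hW
  have hsm : Smooth ((Psi V W hW).left ≫ ((jV W ≫ u) ▷ VO V).left) := by
    rw [← Over.comp_left, Psi_whiskerRight_u, Over.comp_left]
    have h1 : Smooth ((jV V ≫ u) ▷ VO V).left :=
      whiskerRight_left_P @Smooth (jV V ≫ u) (VO V) hV
    have h3 : IsIso (shear (jV V ≫ u)).hom.left :=
      inferInstanceAs (IsIso ((Over.forget S).map (shear (jV V ≫ u)).hom))
    infer_instance
  have hflat : Flat (fst H (VO V)).left := fst_left_P @Flat H (VO V) hTS₁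
  change Smooth (jV W ≫ u).left
  rw [← Scheme.Hom.smoothLocus_eq_top_iff, eq_top_iff]
  rintro w -
  obtain ⟨z', rfl⟩ := (toMul_surjective V W hW).surj w
  have hx' : (Psi V W hW).left z' ∈ ((jV W ≫ u) ▷ VO V).left.smoothLocus := by
    have : z' ∈ ((Psi V W hW).left ≫ ((jV W ≫ u) ▷ VO V).left).smoothLocus := by
      rw [Scheme.Hom.smoothLocus_eq_top]; trivial
    rwa [← Scheme.Hom.preimage_smoothLocus_eq] at this
  have := Groth.Agent.Lib.Helper14.mem_smoothLocus_fst_of_isPullback (sq_uW u V W)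
    ((Psi V W hW).left z') (Flat.stalkMap _ _) hx'
  rwa [fst_Psi_apply] at this

include hW in
theorem etale_mul (hTS₁ : Flat (V.ι ≫ G.hom)) (hTS₂ : LocallyOfFinitePresentation (V.ι ≫ G.hom))
    (hV : Etale (V.ι ≫ u.left)) : Etale (W.ι ≫ u.left) := by
  have hsmV : Smooth (V.ι ≫ u.left) := inferInstance
  have hsm := smooth_mul u V W hW hTS₁ hTS₂ hsmV
  rw [Groth.Agent.Lib.Helper14.etale_iff_smooth_and_formallyUnramified]
  refine ⟨hsm, ?_⟩
  have hlft : LocallyOfFiniteType (jV W ≫ u).left := by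
    change LocallyOfFiniteType (W.ι ≫ u.left)
    infer_instance
  have hΨ := isOpenImmersion_Psi V W hW
  have het : Etale ((Psi V W hW).left ≫ ((jV W ≫ u) ▷ VO V).left) := by
    rw [← Over.comp_left, Psi_whiskerRight_u, Over.comp_left]
    have h1 : Etale ((jV V ≫ u) ▷ VO V).left :=
      whiskerRight_left_P @Etale (jV V ≫ u) (VO V) hV
    have h3 : IsIso (shear (jV V ≫ u)).hom.left :=
      inferInstanceAs (IsIso ((Over.forget S).map (shear (jV V ≫ u)).hom))
    infer_instance
  change FormallyUnramified (jV W ≫ u).left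
  refine Groth.Agent.Lib.Helper14.formallyUnramified_of_stalkMap _ fun w => ?_
  obtain ⟨z', rfl⟩ := (toMul_surjective V W hW).surj w
  rw [← fst_Psi_apply,
    ← Groth.Agent.Lib.Helper14.formallyUnramified_stalkMap_iff_of_isPullback (sq_uW u V W)]
  have h1 : (((Psi V W hW).left ≫ ((jV W ≫ u) ▷ VO V).left).stalkMap z').hom.FormallyUnramified :=
    FormallyUnramified.stalkMap _ z'
  rw [Scheme.Hom.stalkMap_comp] at h1
  exact (RingHom.FormallyUnramified.respectsIso.cancel_right_isIso _
    ((Psi V W hW).left.stalkMap z')).1 h1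

end Pointwise

section Main

variable {S : Scheme.{u}} {G H : Over S} [GrpObj G] [GrpObj H] (u : G ⟶ H) [IsMonHom u]
  (V : G.left.Opens)

/-- The inverse of a point of the largest open where `u` has `P` lies in it. -/
theorem inv_mem_P (P : MorphismProperty Scheme.{u}) [P.RespectsIso] (hV : P (V.ι ≫ u.left))
    (hmax : ∀ W : G.left.Opens, P (W.ι ≫ u.left) → W ≤ V)
    (g : G.left) (hg : g ∈ V) : ι[G].left.base g ∈ V := by
  let W : G.left.Opens := ι[G].left ⁻¹ᵁ V
  have h1 : W.ι ≫ u.left = (ι[G].left ∣_ V) ≫ (V.ι ≫ u.left) ≫ ι[H].left := by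
    have e1 : ι[G] ≫ u = u ≫ ι[H] := GrpObj.inv_hom u
    have e2 : ι[H] ≫ ι[H] = 𝟙 H := GrpObj.inv_comp_inv H
    have e1' : ι[G].left ≫ u.left = u.left ≫ ι[H].left := by
      rw [← Over.comp_left, e1, Over.comp_left]
    have e2' : ι[H].left ≫ ι[H].left = 𝟙 _ := by
      rw [← Over.comp_left, e2, Over.id_left]
    rw [← Category.assoc, ← Category.assoc, morphismRestrict_ι, Category.assoc, Category.assoc,
      ← Category.assoc ι[G].left, e1', Category.assoc, e2', Category.comp_id]
  haveI : IsIso ι[G].left := by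
    haveI : IsIso ι[G] := inferInstance
    exact inferInstanceAs (IsIso ((Over.forget S).map ι[G]))
  haveI : IsIso ι[H].left := by
    haveI : IsIso ι[H] := inferInstance
    exact inferInstanceAs (IsIso ((Over.forget S).map ι[H]))
  haveI : IsIso (ι[G].left ∣_ V) := inferInstance
  have hWu : P (W.ι ≫ u.left) := by
    rw [h1]
    exact (P.cancel_left_of_respectsIso _ _).mpr ((P.cancel_right_of_respectsIso _ _).mpr hV)
  have hle := hmax W hWu
  apply hle
  change ι[G].left.base (ι[G].left.base g) ∈ V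
  have e3 : ι[G] ≫ ι[G] = 𝟙 G := GrpObj.inv_comp_inv G
  have : ι[G].left.base (ι[G].left.base g) = (ι[G] ≫ ι[G]).left.base g := rfl
  rw [this, e3]
  exact hg

omit [GrpObj H] in
/-- An open stable under products and inverses contains the unit of every fibre it meets. -/
theorem one_mem_of (hinv : ∀ g ∈ V, ι[G].left.base g ∈ V)
    (hmul : ∀ z : ↥(G ⊗ G).left, (fst G G).left.base z ∈ V → (snd G G).left.base z ∈ V →
      μ[G].left.base z ∈ V)
    (g : G.left) (hg : g ∈ V) (p : ↥(𝟙_ (Over S)).left)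
    (hp : (𝟙_ (Over S)).hom.base p = G.hom.base g) : η[G].left.base p ∈ V := by
  have hp' : p = (toUnit G).left.base g := by
    have h1 : (toUnit G).left ≫ (𝟙_ (Over S)).hom = G.hom := Over.w (toUnit G)
    have h2 : (𝟙_ (Over S)).hom.base ((toUnit G).left.base g) = G.hom.base g := by
      rw [← h1]; rfl
    have h3 : (𝟙_ (Over S)).hom = 𝟙 S := rfl
    rw [h3] at hp h2
    exact hp.trans h2.symm
  let z : ↥(G ⊗ G).left := (lift (𝟙 G) ι[G]).left.base g
  have hz1 : (fst G G).left.base z = g := by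
    change ((lift (𝟙 G) ι[G]) ≫ fst G G).left.base g = g
    rw [lift_fst]; rfl
  have hz2 : (snd G G).left.base z = ι[G].left.base g := by
    change ((lift (𝟙 G) ι[G]) ≫ snd G G).left.base g = _
    rw [lift_snd]
  have hz := hmul z (hz1 ▸ hg) (hz2 ▸ hinv g hg)
  have : μ[G].left.base z = η[G].left.base p := by
    change ((lift (𝟙 G) ι[G]) ≫ μ[G]).left.base g = _
    rw [GrpObj.right_inv, hp']
    rfl
  rw [← this]
  exact hz

/-- Common conclusion: from `P(u|_{V·V})` and maximality of `V`, `V` is an open subgroup. -/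
theorem finish (P : MorphismProperty Scheme.{u}) [P.IsStableUnderBaseChange] (hV : P (V.ι ≫ u.left))
    (hmax : ∀ W : G.left.Opens, P (W.ι ≫ u.left) → W ≤ V)
    (hTS₁ : Flat (V.ι ≫ G.hom)) (hTS₂ : LocallyOfFinitePresentation (V.ι ≫ G.hom))
    (hmulP : ∀ W : G.left.Opens, (W : Set G.left) = Set.range (mV V).left.base →
      P (W.ι ≫ u.left)) :
    IsOpen (G.hom.base '' (V : Set G.left)) ∧
    (∀ g ∈ V, ∀ p : ↥(𝟙_ (Over S)).left, (𝟙_ (Over S)).hom.base p = G.hom.base g →
      η[G].left.base p ∈ V) ∧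
    (∀ g ∈ V, ι[G].left.base g ∈ V) ∧
    (∀ z : ↥(G ⊗ G).left, (fst G G).left.base z ∈ V → (snd G G).left.base z ∈ V →
      μ[G].left.base z ∈ V) := by
  have hm₁ : Flat (mV V).left := mV_left_P @Flat V inferInstance hTS₁
  have hm₂ : LocallyOfFinitePresentation (mV V).left :=
    mV_left_P @LocallyOfFinitePresentation V inferInstance hTS₂
  let W : G.left.Opens := ⟨Set.range (mV V).left.base, (mV V).left.isOpenMap.isOpen_range⟩
  have hWV : W ≤ V := hmax W (hmulP W rfl)
  have hinv : ∀ g ∈ V, ι[G].left.base g ∈ V := fun g hg => inv_mem_P u V P hV hmax g hg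
  have hmul : ∀ z : ↥(G ⊗ G).left, (fst G G).left.base z ∈ V → (snd G G).left.base z ∈ V →
      μ[G].left.base z ∈ V := by
    intro z h1 h2
    obtain ⟨z', hz'⟩ := exists_preimage_tensorHom V z h1 h2
    apply hWV
    refine ⟨z', ?_⟩
    change ((jV V ⊗ₘ jV V) ≫ μ[G]).left.base z' = _
    rw [Over.comp_left, Scheme.Hom.comp_base, TopCat.comp_app]
    have : (jV V ⊗ₘ jV V).left.base z' = z := hz'
    rw [this]
  refine ⟨?_, fun g hg p hp => one_mem_of V hinv hmul g hg p hp, hinv, hmul⟩
  have : G.hom.base '' (V : Set G.left) = Set.range (V.ι ≫ G.hom).base := by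
    rw [Scheme.Hom.comp_base, TopCat.coe_comp, Set.range_comp, Scheme.Opens.range_ι]
  rw [this]
  exact (V.ι ≫ G.hom).isOpenMap.isOpen_range

theorem toBase_flat (hfl : Flat G.hom ∨ Flat H.hom) (hV : Flat (V.ι ≫ u.left)) :
    Flat (V.ι ≫ G.hom) := by
  rcases hfl with hG | hH
  · infer_instance
  · have : V.ι ≫ G.hom = (V.ι ≫ u.left) ≫ H.hom := by
      rw [Category.assoc, Over.w u]
    rw [this]
    infer_instance

theorem toBase_lfp (hfp : LocallyOfFinitePresentation G.hom ∨ LocallyOfFinitePresentation H.hom)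
    (hV : LocallyOfFinitePresentation (V.ι ≫ u.left)) :
    LocallyOfFinitePresentation (V.ι ≫ G.hom) := by
  rcases hfp with hG | hH
  · infer_instance
  · have : V.ι ≫ G.hom = (V.ι ≫ u.left) ≫ H.hom := by
      rw [Category.assoc, Over.w u]
    rw [this]
    infer_instance

theorem main (hfl : Flat G.hom ∨ Flat H.hom)
    (hfp : LocallyOfFinitePresentation G.hom ∨ LocallyOfFinitePresentation H.hom)
    (P : MorphismProperty Scheme.{u})
    (hP : (∀ (X Y : Scheme.{u}) (f : X ⟶ Y), P f ↔ (Flat f ∧ LocallyOfFinitePresentation f)) ∨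
      (∀ (X Y : Scheme.{u}) (f : X ⟶ Y), P f ↔ Smooth f) ∨
      (∀ (X Y : Scheme.{u}) (f : X ⟶ Y), P f ↔ Etale f))
    (hV : P (V.ι ≫ u.left)) (hmax : ∀ W : G.left.Opens, P (W.ι ≫ u.left) → W ≤ V) :
    IsOpen (G.hom.base '' (V : Set G.left)) ∧
    (∀ g ∈ V, ∀ p : ↥(𝟙_ (Over S)).left, (𝟙_ (Over S)).hom.base p = G.hom.base g →
      η[G].left.base p ∈ V) ∧
    (∀ g ∈ V, ι[G].left.base g ∈ V) ∧
    (∀ z : ↥(G ⊗ G).left, (fst G G).left.base z ∈ V → (snd G G).left.base z ∈ V →
      μ[G].left.base z ∈ V) := by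
  rcases hP with hP | hP | hP
  · have hPeq : P = Min.min (α := MorphismProperty Scheme.{u}) @Flat
        @LocallyOfFinitePresentation := by
      ext X Y f
      exact hP X Y f
    subst hPeq
    haveI : MorphismProperty.IsStableUnderBaseChange (Min.min (α := MorphismProperty Scheme.{u})
        @Flat @LocallyOfFinitePresentation) := MorphismProperty.IsStableUnderBaseChange.inf
    obtain ⟨hV₁, hV₂⟩ := hV
    have hTS₁ := toBase_flat u V hfl hV₁
    have hTS₂ := toBase_lfp u V hfp hV₂
    exact finish u V _ ⟨hV₁, hV₂⟩ hmax hTS₁ hTS₂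
      (fun W hW => flat_lfp_mul u V W hW hTS₁ hTS₂ hV₁ hV₂)
  · have hPeq : P = @Smooth := by
      ext X Y f
      exact hP X Y f
    subst hPeq
    have hV' : Smooth (V.ι ≫ u.left) := hV
    have hTS₁ := toBase_flat u V hfl inferInstance
    have hTS₂ := toBase_lfp u V hfp inferInstance
    exact finish u V _ hV hmax hTS₁ hTS₂ (fun W hW => smooth_mul u V W hW hTS₁ hTS₂ hV')
  · have hPeq : P = @Etale := by
      ext X Y f
      exact hP X Y f
    subst hPeq
    have hV' : Etale (V.ι ≫ u.left) := hV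
    have hTS₁ := toBase_flat u V hfl inferInstance
    have hTS₂ := toBase_lfp u V hfp inferInstance
    exact finish u V _ hV hmax hTS₁ hTS₂ (fun W hW => etale_mul u V W hW hTS₁ hTS₂ hV')

end Main

end Groth.Agent.Lib.Helper41.MaxOpenP
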