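import Mathlib
import Groth.Agent.Lib.Helper41.GeomConnGroup
import Groth.Agent.Lib.Helper41.CommNeutral

/-!
# The neutral component over a one-point base (helper41)

`S` a scheme with one point, `G` an `S`-group scheme, `U` an open subscheme of `G` containing the unit section,
connected, hence geometrically connected over `S`.
* `geometricallyConnected_of_section_subsingleton` : a connected `S`-scheme with a section is geometrically
  connected over the one-point scheme `S`.
* `range_subset_of_section` : if `m : Y ⊗ Uo ⟶ G` maps the image of a section of `fst` into the connected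
  component `C` of a point, it maps everything into `C`.
* `range_mul_inv_subset`, `range_conj_subset` : stability of the connected component of the unit under
  `(g, h) ↦ g h⁻¹` and under conjugation.
-/

set_option autoImplicit false
universe u
open CategoryTheory CategoryTheory.Limits MonoidalCategory CartesianMonoidalCategory MonObj GrpObj
  AlgebraicGeometry

namespace Groth.Agent.Lib.Helper41.NeutralCompArt

open Groth.Agent.Lib.Helper41.CosetConn Groth.Agent.Lib.Helper41.CommNeutral

section GC

theorem geometricallyConnected_of_section_subsingleton {S X : Scheme.{u}} [Subsingleton S]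
    [ConnectedSpace X] (f : X ⟶ S) (e : S ⟶ X) (he : e ≫ f = 𝟙 S) : GeometricallyConnected f := by
  rw [GeometricallyConnected.iff_geometricallyConnected_fiber]
  intro s
  -- the fibre is connected
  have hconn : ConnectedSpace (f.fiber s) := by
    have h1 : (f.base ⁻¹' {s}) = Set.univ := by
      ext x; simp only [Set.mem_preimage, Set.mem_singleton_iff, Set.mem_univ, iff_true]
      exact Subsingleton.elim _ _
    have h2 : ConnectedSpace ↥(f.base ⁻¹' {s}) := by
      rw [h1]
      exact (Homeomorph.Set.univ X).symm.surjective.connectedSpace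
        (Homeomorph.Set.univ X).symm.continuous
    exact (f.fiberHomeo s).symm.surjective.connectedSpace (f.fiberHomeo s).symm.continuous
  let φ : Spec (S.residueField s) ⟶ S := S.fromSpecResidueField s
  let es : Spec (S.residueField s) ⟶ f.fiber s :=
    pullback.lift (φ ≫ e) (𝟙 _) (by rw [Category.assoc, he, Category.comp_id, Category.id_comp])
  have hes : es ≫ f.fiberToSpecResidueField s = 𝟙 _ := pullback.lift_snd _ _ _
  exact Groth.Agent.Lib.Helper41.GeomConnGroup.geometricallyConnected_of_section
    (k := S.residueField s) (f.fiberToSpecResidueField s) es hes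

end GC

section K2

variable {S : Scheme.{u}}

theorem range_subset_of_section {G Y Uo : Over S} [hgc : GeometricallyConnected Uo.hom]
    (m : Y ⊗ Uo ⟶ G) (σ : Y ⟶ Y ⊗ Uo) (hσ : σ ≫ fst Y Uo = 𝟙 Y) (e : G.left)
    (hσm : Set.range (σ ≫ m).left ⊆ connectedComponent e) :
    Set.range m.left ⊆ connectedComponent e := by
  rintro _ ⟨z, rfl⟩
  have hgc' : GeometricallyConnected (fst Y Uo).left :=
    inferInstanceAs (GeometricallyConnected (pullback.fst Y.hom Uo.hom))
  let y : Y.left := (fst Y Uo).left z
  have hF : _root_.IsConnected ((fst Y Uo).left ⁻¹' {y}) :=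
    Scheme.Hom.isConnected_preimage_singleton (f := (fst Y Uo).left) y
  have hzF : z ∈ (fst Y Uo).left ⁻¹' {y} := rfl
  have hσF : σ.left y ∈ (fst Y Uo).left ⁻¹' {y} := by
    change (fst Y Uo).left (σ.left y) = y
    have h1 : σ.left ≫ (fst Y Uo).left = 𝟙 _ := by
      rw [← Over.comp_left, hσ]; rfl
    have h2 : (σ.left ≫ (fst Y Uo).left) y = y := by rw [h1]; rfl
    exact h2
  have himg : _root_.IsPreconnected (m.left '' ((fst Y Uo).left ⁻¹' {y})) :=
    hF.isPreconnected.image _ m.left.continuous.continuousOn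
  have h0 : m.left (σ.left y) ∈ connectedComponent e := hσm ⟨y, rfl⟩
  have h1 : m.left '' ((fst Y Uo).left ⁻¹' {y}) ⊆ connectedComponent (m.left (σ.left y)) :=
    himg.subset_connectedComponent ⟨_, hσF, rfl⟩
  rw [connectedComponent_eq h0]
  exact h1 ⟨z, hzF, rfl⟩

end K2

section Main

variable {S : Scheme.{u}} [Subsingleton S] {G : Over S} [GrpObj G]
  (pt : ↥(𝟙_ (Over S)).left) (hopen : IsOpen (connectedComponent (η[G].left.base pt)))

include hopen in
theorem exists_neutral_open :
    ∃ (U : G.left.Opens) (_ : GeometricallyConnected (opn G U).hom) (ηU : 𝟙_ (Over S) ⟶ opn G U),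
      (U : Set G.left) = connectedComponent (η[G].left.base pt) ∧ ηU ≫ opnι G U = η[G] := by
  let U : G.left.Opens := ⟨connectedComponent (η[G].left.base pt), hopen⟩
  have hsub : Subsingleton ↥(𝟙_ (Over S)).left := inferInstanceAs (Subsingleton S)
  have hη : Set.range η[G].left.base ⊆ (U : Set G.left) := by
    rintro _ ⟨p, rfl⟩
    rw [Subsingleton.elim p pt]
    exact mem_connectedComponent
  obtain ⟨ηU, hηU⟩ := exists_lift_opn U η[G] hη
  have hconn : ConnectedSpace (opn G U).left :=
    isConnected_iff_connectedSpace.mp (isConnected_connectedComponent (x := η[G].left.base pt))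
  have hw : ηU.left ≫ (opn G U).hom = 𝟙 S := Over.w ηU
  exact ⟨U, geometricallyConnected_of_section_subsingleton (opn G U).hom ηU.left hw, ηU, rfl, hηU⟩

include hopen in
theorem range_mul_inv_subset (T : Over S) (g h : T ⟶ G)
    (hg : Set.range g.left.base ⊆ connectedComponent (η[G].left.base pt))
    (hh : Set.range h.left.base ⊆ connectedComponent (η[G].left.base pt)) :
    Set.range (g * h⁻¹).left.base ⊆ connectedComponent (η[G].left.base pt) := by
  obtain ⟨U, hgc, ηU, hU, hηU⟩ := exists_neutral_open pt hopen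
  let Uo := opn G U
  let jU : Uo ⟶ G := opnι G U
  obtain ⟨g', hg'⟩ := exists_lift_opn U g (by rw [hU]; exact hg)
  obtain ⟨h', hh'⟩ := exists_lift_opn U h (by rw [hU]; exact hh)
  let m : Uo ⊗ Uo ⟶ G := (fst Uo Uo ≫ jU) * (snd Uo Uo ≫ jU)⁻¹
  let σ : Uo ⟶ Uo ⊗ Uo := lift (𝟙 Uo) (toUnit Uo ≫ ηU)
  have hσ : σ ≫ fst Uo Uo = 𝟙 Uo := lift_fst _ _
  have hσm : σ ≫ m = jU := by
    change σ ≫ ((fst Uo Uo ≫ jU) * (snd Uo Uo ≫ jU)⁻¹) = jU
    rw [MonObj.comp_mul, GrpObj.comp_inv, ← Category.assoc, hσ, Category.id_comp,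
      ← Category.assoc, lift_snd, Category.assoc, hηU, ← Hom.one_def, inv_one, _root_.mul_one]
  have hrange : Set.range m.left ⊆ connectedComponent (η[G].left.base pt) := by
    refine range_subset_of_section m σ hσ _ ?_
    rw [hσm, ← hU]
    rintro _ ⟨x, rfl⟩
    exact x.2
  have hfac : g * h⁻¹ = lift g' h' ≫ m := by
    change _ = lift g' h' ≫ ((fst Uo Uo ≫ jU) * (snd Uo Uo ≫ jU)⁻¹)
    rw [MonObj.comp_mul, GrpObj.comp_inv, lift_fst_assoc, lift_snd_assoc, hg', hh']
  rw [hfac, Over.comp_left]
  rintro _ ⟨t, rfl⟩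
  exact hrange ⟨(lift g' h').left t, rfl⟩

include hopen in
theorem range_conj_subset (T : Over S) (g n : T ⟶ G)
    (hn : Set.range n.left.base ⊆ connectedComponent (η[G].left.base pt)) :
    Set.range (g * n * g⁻¹).left.base ⊆ connectedComponent (η[G].left.base pt) := by
  obtain ⟨U, hgc, ηU, hU, hηU⟩ := exists_neutral_open pt hopen
  let Uo := opn G U
  let jU : Uo ⟶ G := opnι G U
  obtain ⟨n', hn'⟩ := exists_lift_opn U n (by rw [hU]; exact hn)
  let m : G ⊗ Uo ⟶ G := fst G Uo * (snd G Uo ≫ jU) * (fst G Uo)⁻¹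
  let σ : G ⟶ G ⊗ Uo := lift (𝟙 G) (toUnit G ≫ ηU)
  have hσ : σ ≫ fst G Uo = 𝟙 G := lift_fst _ _
  have hσm : σ ≫ m = toUnit G ≫ η[G] := by
    change σ ≫ (fst G Uo * (snd G Uo ≫ jU) * (fst G Uo)⁻¹) = _
    rw [MonObj.comp_mul, MonObj.comp_mul, GrpObj.comp_inv, hσ,
      ← Category.assoc, lift_snd, Category.assoc, hηU, ← Hom.one_def, _root_.mul_one,
      mul_inv_cancel]
  have hsub : Subsingleton ↥(𝟙_ (Over S)).left := inferInstanceAs (Subsingleton S)
  have hrange : Set.range m.left ⊆ connectedComponent (η[G].left.base pt) := by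
    refine range_subset_of_section m σ hσ _ ?_
    rw [hσm, Over.comp_left]
    rintro _ ⟨x, rfl⟩
    change η[G].left ((toUnit G).left x) ∈ _
    rw [Subsingleton.elim ((toUnit G).left x) pt]
    exact mem_connectedComponent
  have hfac : g * n * g⁻¹ = lift g n' ≫ m := by
    change _ = lift g n' ≫ (fst G Uo * (snd G Uo ≫ jU) * (fst G Uo)⁻¹)
    rw [MonObj.comp_mul, MonObj.comp_mul, GrpObj.comp_inv, lift_fst, lift_snd_assoc, hn']
  rw [hfac, Over.comp_left]
  rintro _ ⟨t, rfl⟩
  exact hrange ⟨(lift g n').left t, rfl⟩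

end Main

end Groth.Agent.Lib.Helper41.NeutralCompArt
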