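import Mathlib

/-!
# A Noetherian algebra with a single prime and a rational point is finite over the base field;
Noetherianity descends along faithfully flat ring maps.
-/

set_option autoImplicit false
universe u

namespace Groth.Agent.Lib.Helper41.OnePointFinite

theorem isNoetherianRing_of_faithfullyFlat (R C : Type*) [CommRing R] [CommRing C] [Algebra R C]
    [Module.FaithfullyFlat R C] [IsNoetherianRing C] : IsNoetherianRing R := by
  rw [isNoetherianRing_iff, ← monotone_stabilizes_iff_noetherian]
  intro f
  have hC : IsNoetherian C C := ‹IsNoetherianRing C›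
  rw [← monotone_stabilizes_iff_noetherian] at hC
  let g : ℕ →o Submodule C C := ⟨fun i => Ideal.map (algebraMap R C) (f i : Ideal R),
    fun i j hij => Ideal.map_mono (f.monotone hij)⟩
  obtain ⟨n, hn⟩ := hC g
  refine ⟨n, fun m hm => ?_⟩
  have := hn m hm
  change Ideal.map (algebraMap R C) (f n : Ideal R) = Ideal.map (algebraMap R C) (f m : Ideal R)
    at this
  have e1 := Ideal.comap_map_eq_self_of_faithfullyFlat (B := C) (f n : Ideal R)
  have e2 := Ideal.comap_map_eq_self_of_faithfullyFlat (B := C) (f m : Ideal R)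
  rw [this] at e1
  exact e1.symm.trans e2

theorem finite_of_noetherian_subsingleton (k R : Type*) [Field k] [CommRing R] [Algebra k R]
    [IsNoetherianRing R] [Subsingleton (PrimeSpectrum R)] (s : R →ₐ[k] k) : Module.Finite k R := by
  have hnt : Nontrivial R := by
    refine ⟨⟨0, 1, fun h => ?_⟩⟩
    have := congrArg s h
    simp at this
  have hdim : Ring.KrullDimLE 0 R := by
    rw [Ring.krullDimLE_zero_iff]
    intro I hI
    obtain ⟨M, hM, hIM⟩ := Ideal.exists_le_maximal I hI.ne_top
    have : (⟨I, hI⟩ : PrimeSpectrum R) = ⟨M, hM.isPrime⟩ := Subsingleton.elim _ _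
    have hIM' : I = M := congrArg PrimeSpectrum.asIdeal this
    rw [hIM']
    exact hM
  have hart : IsArtinianRing R := isArtinianRing_iff_krullDimLE_zero.mpr hdim
  have hloc : IsLocalRing R := by
    apply IsLocalRing.of_unique_max_ideal
    obtain ⟨M, hM⟩ := Ideal.exists_maximal R
    refine ⟨M, hM, fun M' hM' => ?_⟩
    have : (⟨M', hM'.isPrime⟩ : PrimeSpectrum R) = ⟨M, hM.isPrime⟩ := Subsingleton.elim _ _
    exact congrArg PrimeSpectrum.asIdeal this
  have hker : RingHom.ker (s : R →+* k) = Ring.jacobson R := by
    rw [IsLocalRing.ringJacobson_eq_maximalIdeal]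
    have hmax : (RingHom.ker (s : R →+* k)).IsMaximal :=
      RingHom.ker_isMaximal_of_surjective _ (fun a => ⟨algebraMap k R a, by simp⟩)
    exact IsLocalRing.eq_maximalIdeal hmax
  have hfin : Module.Finite k (R ⧸ Ring.jacobson R) := by
    refine Module.Finite.of_surjective (Algebra.linearMap k (R ⧸ Ring.jacobson R)) ?_
    intro q
    obtain ⟨r, rfl⟩ := Ideal.Quotient.mk_surjective q
    refine ⟨s r, ?_⟩
    change algebraMap k (R ⧸ Ring.jacobson R) (s r) = _
    rw [IsScalarTower.algebraMap_apply k R (R ⧸ Ring.jacobson R), Ideal.Quotient.algebraMap_eq,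
      Ideal.Quotient.eq, ← hker, RingHom.mem_ker]
    simp
  exact IsSemiprimaryRing.finite_of_isArtinian k R R

end Groth.Agent.Lib.Helper41.OnePointFinite
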