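import Groth.Agent.Lib.Helper41.QuotientPoints
import Groth.Agent.Lib.Helper41.ConstrDense
import Mathlib.AlgebraicGeometry.Morphisms.FinitePresentation

/-!
# Topology of orbits of group scheme actions over a field (helper41)

For an action `a` of a `k`-group scheme `G` (locally of finite type) on a `k`-scheme `X`:
* `flipAct a : G ⊗ X ⟶ G ⊗ X`, `(g, x) ↦ (g⁻¹, g • x)`, exchanging `a.act` and `snd`.
* `Stable a Z` : the subset `Z` of `X` is `G`-stable (`a.act ⁻¹' Z = snd ⁻¹' Z`); stable sets are closed
  under complement, intersection and closure; orbits of rational points are stable.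
* `orbit_transitive` : any two points of the orbit of a rational point are related by a point of `G ⊗ X`.
* `isLocallyClosed_orbit` : the orbit of a rational point is locally closed (of finite type case).
* `isOpen_orbit_in_closure` : more precisely `O = closure O ∩ V` for an open `V`.
-/

set_option autoImplicit false
universe u
open CategoryTheory CategoryTheory.Limits MonoidalCategory CartesianMonoidalCategory MonObj
  AlgebraicGeometry

namespace Groth.Agent.Lib.Helper41.OrbitTop

open Groth.Agent.Lib.Helper41.ActionPoints Groth.Agent.Lib.Helper93.ActionOpen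
  Groth.Agent.Lib.Helper41.QuotientPoints

section General

variable {S : Scheme.{u}} {G X : Over S} [GrpObj G]

/-- `(g, x) ↦ (g⁻¹, g • x)` -/
noncomputable def flipAct (a : AlgGrp.Action G X) : G ⊗ X ⟶ G ⊗ X := lift (fst G X)⁻¹ a.act

theorem flipAct_snd (a : AlgGrp.Action G X) : flipAct a ≫ snd G X = a.act := lift_snd _ _

theorem flipAct_act (a : AlgGrp.Action G X) : flipAct a ≫ a.act = snd G X := by
  have h := act_inv_act a (fst G X) (snd G X)
  have h2 : lift (fst G X) (snd G X) ≫ a.act = a.act := by
    rw [lift_fst_snd, Category.id_comp]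
  rw [h2] at h
  exact h

/-- `Z` is stable under the action. -/
def Stable (a : AlgGrp.Action G X) (Z : Set X.left) : Prop :=
  a.act.left.base ⁻¹' Z = (snd G X).left.base ⁻¹' Z

theorem stable_of_forall (a : AlgGrp.Action G X) (Z : Set X.left)
    (h : ∀ z : (G ⊗ X).left, (snd G X).left.base z ∈ Z → a.act.left.base z ∈ Z) : Stable a Z := by
  apply Set.Subset.antisymm
  · intro z hz
    have h1 : (snd G X).left.base ((flipAct a).left.base z) = a.act.left.base z := by
      rw [← flipAct_snd a]
      rfl
    have h2 : a.act.left.base ((flipAct a).left.base z) = (snd G X).left.base z := by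
      conv_rhs => rw [← flipAct_act a]
      rfl
    have h3 := h ((flipAct a).left.base z) (by rw [h1]; exact hz)
    rw [h2] at h3
    exact h3
  · intro z hz
    exact h z hz

theorem Stable.mem_iff {a : AlgGrp.Action G X} {Z : Set X.left} (hZ : Stable a Z)
    (z : (G ⊗ X).left) : a.act.left.base z ∈ Z ↔ (snd G X).left.base z ∈ Z := by
  have := congrArg (fun s => z ∈ s) hZ
  simpa using this

theorem stable_univ (a : AlgGrp.Action G X) : Stable a Set.univ := rfl

theorem Stable.compl {a : AlgGrp.Action G X} {Z : Set X.left} (hZ : Stable a Z) : Stable a Zᶜ := by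
  unfold Stable at hZ ⊢
  rw [Set.preimage_compl, Set.preimage_compl, hZ]

theorem Stable.inter {a : AlgGrp.Action G X} {Z Z' : Set X.left} (hZ : Stable a Z)
    (hZ' : Stable a Z') : Stable a (Z ∩ Z') := by
  unfold Stable at hZ hZ' ⊢
  rw [Set.preimage_inter, Set.preimage_inter, hZ, hZ']

theorem Stable.diff {a : AlgGrp.Action G X} {Z Z' : Set X.left} (hZ : Stable a Z)
    (hZ' : Stable a Z') : Stable a (Z \ Z') := hZ.inter hZ'.compl

theorem Stable.closure {a : AlgGrp.Action G X} [UniversallyOpen G.hom] {Z : Set X.left}
    (hZ : Stable a Z) : Stable a (closure Z) := by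
  have h2 : UniversallyOpen (snd G X).left := by
    rw [Over.snd_left]
    infer_instance
  unfold Stable at hZ ⊢
  rw [(isOpenMap_act a).preimage_closure_eq_closure_preimage a.act.left.continuous,
    (snd G X).left.isOpenMap.preimage_closure_eq_closure_preimage (snd G X).left.continuous, hZ]

/-- The orbit of a rational point is stable. -/
theorem stable_orbit (a : AlgGrp.Action G X) (x : 𝟙_ (Over S) ⟶ X) :
    Stable a (Set.range (a.orbitMap x).left.base) := by
  apply stable_of_forall
  intro z hz
  have hpb := isPullback_whiskerLeft_snd G (a.orbitMap x)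
  have h1 := Scheme.image_preimage_eq_of_isPullback hpb.flip Set.univ
  rw [Set.preimage_univ, Set.image_univ, Set.image_univ] at h1
  have hz' : z ∈ Set.range (G ◁ a.orbitMap x).left.base := by
    rw [h1]
    exact hz
  obtain ⟨w, rfl⟩ := hz'
  refine ⟨(μ[G]).left.base w, ?_⟩
  have h2 : (G ◁ a.orbitMap x) ≫ a.act = μ[G] ≫ a.orbitMap x := whiskerLeft_orbitMap_act a x
  have h3 : a.act.left.base ((G ◁ a.orbitMap x).left.base w) =
      ((G ◁ a.orbitMap x) ≫ a.act).left.base w := rfl
  rw [h3, h2]
  rfl

/-- Any two points of an orbit are related through a point of `G ⊗ X`. -/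
theorem orbit_transitive (a : AlgGrp.Action G X) (x : 𝟙_ (Over S) ⟶ X) (g₁ g₂ : G.left)
    (h12 : G.hom.base g₁ = G.hom.base g₂) :
    ∃ z : (G ⊗ X).left, (snd G X).left.base z = (a.orbitMap x).left.base g₂ ∧
      a.act.left.base z = (a.orbitMap x).left.base g₁ := by
  obtain ⟨c, hc1, hc2⟩ := Scheme.Pullback.exists_preimage_pullback (f := G.hom) (g := G.hom) g₁ g₂ h12
  let ψ : G ⊗ G ⟶ G ⊗ X := lift (fst G G * (snd G G)⁻¹) (snd G G ≫ a.orbitMap x)
  have hψ1 : ψ ≫ snd G X = snd G G ≫ a.orbitMap x := lift_snd _ _
  have hψ2 : ψ ≫ a.act = fst G G ≫ a.orbitMap x := by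
    change lift (fst G G * (snd G G)⁻¹) (snd G G ≫ a.orbitMap x) ≫ a.act = _
    rw [← orbit_mul, inv_mul_cancel_right]
  refine ⟨ψ.left.base c, ?_, ?_⟩
  · have h1 : (snd G X).left.base (ψ.left.base c) = (ψ ≫ snd G X).left.base c := rfl
    rw [h1, hψ1]
    change (a.orbitMap x).left.base ((snd G G).left.base c) = _
    rw [Over.snd_left]
    rw [hc2]
  · have h1 : a.act.left.base (ψ.left.base c) = (ψ ≫ a.act).left.base c := rfl
    rw [h1, hψ2]
    change (a.orbitMap x).left.base ((fst G G).left.base c) = _
    rw [Over.fst_left]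
    rw [hc1]

end General

section Field

variable {k : Type u} [Field k] {G X : Over (Spec (CommRingCat.of k))} [GrpObj G]

/-- The orbit is the intersection of its closure with an open set. -/
theorem exists_isOpen_orbit_eq [LocallyOfFiniteType G.hom] [QuasiCompact G.hom]
    [LocallyOfFiniteType X.hom] [QuasiCompact X.hom] (a : AlgGrp.Action G X)
    (x : 𝟙_ (Over (Spec (CommRingCat.of k))) ⟶ X) :
    ∃ V : Set X.left, IsOpen V ∧ Set.range (a.orbitMap x).left.base =
      closure (Set.range (a.orbitMap x).left.base) ∩ V := by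
  classical
  have hGuo : UniversallyOpen G.hom := universallyOpen_of_field G.hom
  have hGnoeth : IsLocallyNoetherian G.left := LocallyOfFiniteType.isLocallyNoetherian G.hom
  have hGc : CompactSpace G.left := QuasiCompact.compactSpace_of_compactSpace G.hom
  have hGn : IsNoetherian G.left := {}
  have hXnoeth : IsLocallyNoetherian X.left := LocallyOfFiniteType.isLocallyNoetherian X.hom
  have hXc : CompactSpace X.left := QuasiCompact.compactSpace_of_compactSpace X.hom
  have hXn : IsNoetherian X.left := {}
  have hNS : TopologicalSpace.NoetherianSpace X.left := inferInstance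
  set ω := a.orbitMap x with hω
  have hωlft : LocallyOfFiniteType ω.left := by
    have : LocallyOfFiniteType (ω.left ≫ X.hom) := by
      rw [Over.w ω]
      infer_instance
    exact locallyOfFiniteType_of_comp ω.left X.hom
  have hωlfp : LocallyOfFinitePresentation ω.left := inferInstance
  have hωqc : QuasiCompact ω.left := inferInstance
  -- Chevalley
  have hcons : Topology.IsConstructible (Set.range ω.left.base) := by
    rw [← Set.image_univ]
    exact ω.left.isConstructible_image Topology.IsConstructible.univ
  have hne : (Set.range ω.left.base).Nonempty := by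
    have hne0 : Nonempty ↥(𝟙_ (Over (Spec (CommRingCat.of k)))).left :=
      inferInstanceAs (Nonempty (Spec (CommRingCat.of k)))
    have : Nonempty G.left := ⟨η[G].left.base (Classical.arbitrary _)⟩
    exact Set.range_nonempty _
  obtain ⟨W, hW, hWne, hWsub⟩ :=
    Groth.Agent.Lib.Helper41.ConstrDense.exists_open_inter_closure_subset hcons hne
  have hO := stable_orbit a x
  have hOc : Stable a (closure (Set.range ω.left.base)) := hO.closure
  have h2 : UniversallyOpen (snd G X).left := by
    rw [Over.snd_left]
    infer_instance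
  -- the saturation of W
  let V : Set X.left := a.act.left.base '' ((snd G X).left.base ⁻¹' W)
  have hVopen : IsOpen V := isOpenMap_act a _ (hW.preimage (snd G X).left.continuous)
  refine ⟨V, hVopen, ?_⟩
  apply Set.Subset.antisymm
  · rintro y ⟨g₁, rfl⟩
    refine ⟨subset_closure ⟨g₁, rfl⟩, ?_⟩
    obtain ⟨u, huW, huc⟩ := hWne
    obtain ⟨g₂, rfl⟩ := hWsub ⟨huW, huc⟩
    have hsub : Subsingleton ↥(Spec (CommRingCat.of k)) :=
      (inferInstance : Subsingleton (PrimeSpectrum k))
    obtain ⟨z, hz1, hz2⟩ := orbit_transitive a x g₁ g₂ (Subsingleton.elim _ _)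
    exact ⟨z, by rw [Set.mem_preimage, hz1]; exact huW, hz2⟩
  · rintro y ⟨hyc, z, hzW, rfl⟩
    have h3 : (snd G X).left.base z ∈ closure (Set.range ω.left.base) := (hOc.mem_iff z).mp hyc
    have h4 : (snd G X).left.base z ∈ Set.range ω.left.base := hWsub ⟨hzW, h3⟩
    exact (hO.mem_iff z).mpr h4

theorem isLocallyClosed_orbit [LocallyOfFiniteType G.hom] [QuasiCompact G.hom]
    [LocallyOfFiniteType X.hom] [QuasiCompact X.hom] (a : AlgGrp.Action G X)
    (x : 𝟙_ (Over (Spec (CommRingCat.of k))) ⟶ X) :
    IsLocallyClosed (Set.range (a.orbitMap x).left.base) := by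
  obtain ⟨V, hV, hO⟩ := exists_isOpen_orbit_eq a x
  rw [hO]
  exact isClosed_closure.isLocallyClosed.inter hV.isLocallyClosed

end Field

end Groth.Agent.Lib.Helper41.OrbitTop
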