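import Groth.Agent.Lib.Helper41.OpenOrbit
import Groth.Agent.Lib.Helper41.ActionPoints2

/-!
# The open orbit of an almost homogeneous variety (helper41)

For a smooth `k`-group scheme of finite type `G` acting on a geometrically integral `k`-scheme of
finite type `X`:
* `le_of_homogeneous_of_stable` : a homogeneous stable open is contained in every stable open it meets.
* `isDominant_graph_of_open` : if a nonempty stable open is homogeneous, the graph morphism is dominant.
* `exists_homogeneous_open` : if the graph morphism is dominant, there is a nonempty stable homogeneous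
  open.
-/

set_option autoImplicit false
universe u
open CategoryTheory CategoryTheory.Limits MonoidalCategory CartesianMonoidalCategory MonObj
  AlgebraicGeometry

namespace Groth.Agent.Lib.Helper41.OpenOrbit

open Groth.Agent.Lib.Helper41.TransitiveFlat Groth.Agent.Lib.Helper93.ActionOpen
  Groth.Agent.Lib.Helper41.OrbitTop Groth.Agent.Lib.Helper41.OrbitSubscheme
  Groth.Agent.Lib.Helper41.ActionPoints2

section Field

variable {k : Type u} [Field k] {G X : Over (Spec (CommRingCat.of k))} [GrpObj G]

theorem exists_tensor_point (Y Z : Over (Spec (CommRingCat.of k))) (y : Y.left) (z : Z.left) :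
    ∃ c : (Y ⊗ Z).left, (fst Y Z).left.base c = y ∧ (snd Y Z).left.base c = z := by
  have hsub : Subsingleton (Spec (CommRingCat.of k)) :=
    inferInstanceAs (Subsingleton (PrimeSpectrum k))
  obtain ⟨c, hc1, hc2⟩ := Scheme.Pullback.exists_preimage_pullback (f := Y.hom) (g := Z.hom) y z
    (Subsingleton.elim _ _)
  refine ⟨c, ?_, ?_⟩
  · rw [Over.fst_left]
    exact hc1
  · rw [Over.snd_left]
    exact hc2

/-- A homogeneous open to which the action restricts is contained in every stable open it meets. -/
theorem le_of_homogeneous_of_stable (a : AlgGrp.Action G X) (U U' : X.left.Opens)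
    (b : AlgGrp.Action G (Over.mk (U.ι ≫ X.hom)))
    (hb : (G ◁ (Over.homMk U.ι rfl : Over.mk (U.ι ≫ X.hom) ⟶ X)) ≫ a.act =
      b.act ≫ Over.homMk U.ι rfl)
    (hsurj : Surjective (lift (snd G (Over.mk (U.ι ≫ X.hom))) b.act).left)
    (hU' : Stable a (U' : Set X.left)) (hne : ((U : Set X.left) ∩ U').Nonempty) : U ≤ U' := by
  obtain ⟨x, hxU, hxU'⟩ := hne
  intro y hyU
  let O : Over (Spec (CommRingCat.of k)) := Over.mk (U.ι ≫ X.hom)
  let j : O ⟶ X := Over.homMk U.ι rfl
  obtain ⟨c, hc1, hc2⟩ := exists_tensor_point O O (⟨x, hxU⟩ : U) (⟨y, hyU⟩ : U)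
  obtain ⟨p, hp⟩ := hsurj.surj c
  have h1 : (snd G O).left.base p = (⟨x, hxU⟩ : U) := by
    rw [← hc1, ← hp]
    change _ = ((lift (snd G O) b.act) ≫ fst O O).left.base p
    rw [lift_fst]
  have h2 : b.act.left.base p = (⟨y, hyU⟩ : U) := by
    rw [← hc2, ← hp]
    change _ = ((lift (snd G O) b.act) ≫ snd O O).left.base p
    rw [lift_snd]
  have h3 : (snd G X).left.base ((G ◁ j).left.base p) = x := by
    change ((G ◁ j) ≫ snd G X).left.base p = x
    rw [whiskerLeft_snd]
    change U.ι.base ((snd G O).left.base p) = x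
    rw [h1]
    rfl
  have h4 : a.act.left.base ((G ◁ j).left.base p) = y := by
    change ((G ◁ j) ≫ a.act).left.base p = y
    rw [hb]
    change U.ι.base (b.act.left.base p) = y
    rw [h2]
    rfl
  have h5 := (hU'.mem_iff ((G ◁ j).left.base p)).mpr (by rw [h3]; exact hxU')
  rw [h4] at h5
  exact h5

theorem irreducibleSpace_tensor_self [GeometricallyIntegral X.hom] [LocallyOfFiniteType X.hom] :
    IrreducibleSpace (X ⊗ X).left := by
  have hsub : Subsingleton (Spec (CommRingCat.of k)) :=
    inferInstanceAs (Subsingleton (PrimeSpectrum k))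
  have hXi : IsIntegral X.left := GeometricallyIntegral.isIntegral_of_subsingleton X.hom
  have hXn : IsLocallyNoetherian X.left := LocallyOfFiniteType.isLocallyNoetherian X.hom
  have hXo : UniversallyOpen X.hom := universallyOpen_of_field X.hom
  have hXf : Flat X.hom := inferInstance
  have : AlgebraicGeometry.IsIntegral (Limits.pullback X.hom X.hom : Scheme.{u}) := inferInstance
  exact inferInstanceAs (IrreducibleSpace ↥(Limits.pullback X.hom X.hom : Scheme.{u}))

/-- If a nonempty open to which the action restricts is homogeneous, the graph morphism is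
dominant. -/
theorem isDominant_graph_of_open [GeometricallyIntegral X.hom] [LocallyOfFiniteType X.hom]
    (a : AlgGrp.Action G X) (U : X.left.Opens) (hne : (U : Set X.left).Nonempty)
    (b : AlgGrp.Action G (Over.mk (U.ι ≫ X.hom)))
    (hb : (G ◁ (Over.homMk U.ι rfl : Over.mk (U.ι ≫ X.hom) ⟶ X)) ≫ a.act =
      b.act ≫ Over.homMk U.ι rfl)
    (hsurj : Surjective (lift (snd G (Over.mk (U.ι ≫ X.hom))) b.act).left) :
    IsDominant (lift (snd G X) a.act).left := by
  let O : Over (Spec (CommRingCat.of k)) := Over.mk (U.ι ≫ X.hom)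
  let j : O ⟶ X := Over.homMk U.ι rfl
  have hirr : IrreducibleSpace (X ⊗ X).left := irreducibleSpace_tensor_self
  let W : Set (X ⊗ X).left := (fst X X).left.base ⁻¹' U ∩ (snd X X).left.base ⁻¹' U
  have hWo : IsOpen W :=
    (U.2.preimage (fst X X).left.continuous).inter (U.2.preimage (snd X X).left.continuous)
  have hWne : W.Nonempty := by
    obtain ⟨x, hx⟩ := hne
    obtain ⟨c, hc1, hc2⟩ := exists_tensor_point X X x x
    refine ⟨c, ?_, ?_⟩
    · change (fst X X).left.base c ∈ (U : Set X.left)
      rw [hc1]
      exact hx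
    · change (snd X X).left.base c ∈ (U : Set X.left)
      rw [hc2]
      exact hx
  have hcomp : (G ◁ j) ≫ lift (snd G X) a.act =
      lift (snd G O) b.act ≫ (j ▷ O) ≫ (X ◁ j) := by
    apply CartesianMonoidalCategory.hom_ext
    · simp only [Category.assoc, lift_fst, whiskerLeft_fst, whiskerRight_fst, whiskerLeft_snd]
      rw [← Category.assoc (lift (snd G O) b.act), lift_fst]
    · simp only [Category.assoc, lift_snd, whiskerLeft_snd, whiskerRight_snd_assoc]
      rw [← Category.assoc (lift (snd G O) b.act), lift_snd]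
      exact hb
  have hsub : W ⊆ Set.range (lift (snd G X) a.act).left.base := by
    rintro q ⟨hq1, hq2⟩
    have hpb1 := isPullback_whiskerLeft_snd X j
    have hq2' : (snd X X).left.base q ∈ Set.range j.left.base := by
      change _ ∈ Set.range U.ι.base
      rw [Scheme.Opens.range_ι]
      exact hq2
    obtain ⟨yO, hyO⟩ := hq2'
    obtain ⟨q₁, hq₁, -⟩ := Scheme.exists_preimage_of_isPullback hpb1 q yO hyO.symm
    have hpb2 := isPullback_whiskerRight_fst O j
    have hq1' : (fst X O).left.base q₁ ∈ Set.range j.left.base := by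
      change _ ∈ Set.range U.ι.base
      rw [Scheme.Opens.range_ι]
      have h1 : (fst X O).left.base q₁ = ((X ◁ j) ≫ fst X X).left.base q₁ := by
        rw [whiskerLeft_fst]
      rw [h1]
      change (fst X X).left.base ((X ◁ j).left.base q₁) ∈ (U : Set X.left)
      rw [hq₁]
      exact hq1
    obtain ⟨xO, hxO⟩ := hq1'
    obtain ⟨q₂, hq₂, -⟩ := Scheme.exists_preimage_of_isPullback hpb2 q₁ xO hxO.symm
    obtain ⟨p, hp⟩ := hsurj.surj q₂
    refine ⟨(G ◁ j).left.base p, ?_⟩
    change ((G ◁ j) ≫ lift (snd G X) a.act).left.base p = q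
    rw [hcomp]
    change (X ◁ j).left.base ((j ▷ O).left.base ((lift (snd G O) b.act).left.base p)) = q
    rw [hp, hq₂, hq₁]
  exact ⟨(hWo.dense hWne).mono hsub⟩

end Field

end Groth.Agent.Lib.Helper41.OpenOrbit
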