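import Groth.Agent.Lib.Helper41.OpenOrbit2

/-!
# Existence of the open orbit (helper41)

* `exists_act_eq_of_mem_image` : if `W` is an open subset of `X × X` contained in the image of the graph
  morphism, any two `K`-points of `X` lying in `pr₂(W)` are conjugate under `G(K)`.
* `exists_homogeneous_open` : if the graph morphism is dominant, there is a nonempty stable
  homogeneous open subscheme.
-/

set_option autoImplicit false
universe u
open CategoryTheory CategoryTheory.Limits MonoidalCategory CartesianMonoidalCategory MonObj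
  AlgebraicGeometry

namespace Groth.Agent.Lib.Helper41.OpenOrbit

open Groth.Agent.Lib.Helper41.TransitiveFlat Groth.Agent.Lib.Helper93.ActionOpen
  Groth.Agent.Lib.Helper41.OrbitTop Groth.Agent.Lib.Helper41.OrbitSubscheme
  Groth.Agent.Lib.Helper41.ActionPoints2

section Main

variable (k K : Type u) [Field k] [Field K] [Algebra k K] [IsAlgClosed K]
variable {G X : Over (Spec (CommRingCat.of k))} [GrpObj G]

omit [IsAlgClosed K] in
theorem irreducibleSpace_tensor_SpK [GeometricallyIntegral X.hom] :
    IrreducibleSpace (X ⊗ SpK k K).left := by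
  have h := GeometricallyIntegral.geometrically_isIntegral (f := X.hom)
  have h2 : AlgebraicGeometry.IsIntegral (Limits.pullback X.hom (SpK k K).hom : Scheme.{u}) :=
    h (SpK k K).hom (pullback.fst _ _) (pullback.snd _ _) (IsPullback.of_hasPullback _ _)
  exact inferInstanceAs (IrreducibleSpace ↥(Limits.pullback X.hom (SpK k K).hom : Scheme.{u}))

theorem exists_act_eq_of_mem_image [GeometricallyIntegral X.hom] [LocallyOfFiniteType X.hom]
    [LocallyOfFiniteType G.hom]
    (a : AlgGrp.Action G X) (W : Set (X ⊗ X).left) (hW : IsOpen W)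
    (hWsub : W ⊆ Set.range (lift (snd G X) a.act).left.base)
    (u₁ u₂ : SpK k K ⟶ X)
    (h₁ : u₁.left.base (IsLocalRing.closedPoint K) ∈ (snd X X).left.base '' W)
    (h₂ : u₂.left.base (IsLocalRing.closedPoint K) ∈ (snd X X).left.base '' W) :
    ∃ g : SpK k K ⟶ G, lift g u₁ ≫ a.act = u₂ := by
  have hirr := irreducibleSpace_tensor_SpK k K (X := X)
  let V : (SpK k K ⟶ X) → Set (X ⊗ SpK k K).left := fun u => (X ◁ u).left.base ⁻¹' W
  have hVo : ∀ u, IsOpen (V u) := fun u => hW.preimage (X ◁ u).left.continuous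
  have hVne : ∀ u : SpK k K ⟶ X,
      u.left.base (IsLocalRing.closedPoint K) ∈ (snd X X).left.base '' W → (V u).Nonempty := by
    rintro u ⟨w, hw, hwu⟩
    have hpb := isPullback_whiskerLeft_snd X u
    obtain ⟨c, hc, -⟩ := Scheme.exists_preimage_of_isPullback hpb w (IsLocalRing.closedPoint K) hwu
    refine ⟨c, ?_⟩
    change (X ◁ u).left.base c ∈ W
    rw [hc]
    exact hw
  obtain ⟨p0, hp0⟩ := nonempty_preirreducible_inter (hVo u₁) (hVo u₂) (hVne u₁ h₁) (hVne u₂ h₂)
  have hlft : LocallyOfFiniteType (snd X (SpK k K)).left := by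
    rw [Over.snd_left]
    infer_instance
  have hJ : JacobsonSpace (X ⊗ SpK k K).left :=
    LocallyOfFiniteType.jacobsonSpace (Y := Spec _) (snd X (SpK k K)).left
  obtain ⟨p, hp1, hp2⟩ := nonempty_inter_closedPoints ⟨p0, hp0⟩
    ((hVo u₁).inter (hVo u₂)).isLocallyClosed
  obtain ⟨y, hy⟩ := exists_section_of_isClosed k K X p (mem_closedPoints_iff.mp hp2)
  have hmem : ∀ u : SpK k K ⟶ X, p ∈ V u →
      (lift y u).left.base (IsLocalRing.closedPoint K) ∈ W := by
    intro u hu
    have h1 : lift y u = lift y (𝟙 (SpK k K)) ≫ (X ◁ u) := by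
      rw [lift_whiskerLeft, Category.id_comp]
    have h2 : (lift y (𝟙 (SpK k K)) ≫ (X ◁ u)).left.base (IsLocalRing.closedPoint K) =
        (X ◁ u).left.base p := congrArg (X ◁ u).left.base (hy _)
    rw [h1, h2]
    exact hu
  set Γ : G ⊗ X ⟶ X ⊗ X := lift (snd G X) a.act with hΓ
  have hPlft : LocallyOfFiniteType (G ⊗ X).hom := by
    rw [Over.tensorObj_hom]
    infer_instance
  have hΓlft : LocallyOfFiniteType Γ.left := by
    have : LocallyOfFiniteType (Γ.left ≫ (X ⊗ X).hom) := by
      rw [Over.w Γ]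
      infer_instance
    exact locallyOfFiniteType_of_comp Γ.left (X ⊗ X).hom
  have key : ∀ u : SpK k K ⟶ X, p ∈ V u → ∃ g : SpK k K ⟶ G, lift g y ≫ a.act = u := by
    intro u hu
    obtain ⟨q, hq⟩ := exists_kpoint_lift_of_mem_range k K Γ (lift y u) (hWsub (hmem u hu))
    have hq1 : q ≫ snd G X = y := by
      have := congrArg (fun t => t ≫ fst X X) hq
      simpa [hΓ] using this
    have hq2 : q ≫ a.act = u := by
      have := congrArg (fun t => t ≫ snd X X) hq
      simpa [hΓ] using this
    refine ⟨q ≫ fst G X, ?_⟩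
    rw [← hq1, ← comp_lift, lift_fst_snd, Category.comp_id, hq2]
  obtain ⟨g₁, hg₁⟩ := key u₁ hp1.1
  obtain ⟨g₂, hg₂⟩ := key u₂ hp1.2
  refine ⟨g₂ * g₁⁻¹, ?_⟩
  rw [act_mul, ← hg₁, act_inv_act, hg₂]

/-- If the graph morphism is dominant, there is a nonempty open to which the action restricts and
which is homogeneous. -/
theorem exists_homogeneous_open [Smooth G.hom] [QuasiCompact G.hom] [LocallyOfFiniteType X.hom]
    [QuasiCompact X.hom] [GeometricallyIntegral X.hom]
    (a : AlgGrp.Action G X) (hdom : IsDominant (lift (snd G X) a.act).left) :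
    ∃ U : X.left.Opens, (U : Set X.left).Nonempty ∧
      ∃ b : AlgGrp.Action G (Over.mk (U.ι ≫ X.hom)),
        (G ◁ (Over.homMk U.ι rfl : Over.mk (U.ι ≫ X.hom) ⟶ X)) ≫ a.act =
          b.act ≫ Over.homMk U.ι rfl ∧
        Surjective (lift (snd G (Over.mk (U.ι ≫ X.hom))) b.act).left := by
  classical
  have hGlft : LocallyOfFiniteType G.hom := inferInstance
  have hGuo : UniversallyOpen G.hom := universallyOpen_of_field G.hom
  have hXuo : UniversallyOpen X.hom := universallyOpen_of_field X.hom
  set Γ : G ⊗ X ⟶ X ⊗ X := lift (snd G X) a.act with hΓ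
  have hPlft : LocallyOfFiniteType (G ⊗ X).hom := by
    rw [Over.tensorObj_hom]
    infer_instance
  have hPqc : QuasiCompact (G ⊗ X).hom := by
    rw [Over.tensorObj_hom]
    infer_instance
  have hQlft : LocallyOfFiniteType (X ⊗ X).hom := by
    rw [Over.tensorObj_hom]
    infer_instance
  have hQqc : QuasiCompact (X ⊗ X).hom := by
    rw [Over.tensorObj_hom]
    infer_instance
  have hΓlft : LocallyOfFiniteType Γ.left := by
    have : LocallyOfFiniteType (Γ.left ≫ (X ⊗ X).hom) := by
      rw [Over.w Γ]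
      infer_instance
    exact locallyOfFiniteType_of_comp Γ.left (X ⊗ X).hom
  have hQnoeth : IsLocallyNoetherian (X ⊗ X).left :=
    LocallyOfFiniteType.isLocallyNoetherian (X ⊗ X).hom
  have hQc : CompactSpace (X ⊗ X).left := QuasiCompact.compactSpace_of_compactSpace (X ⊗ X).hom
  have hQn : IsNoetherian (X ⊗ X).left := {}
  have hNS : TopologicalSpace.NoetherianSpace (X ⊗ X).left := inferInstance
  have hPc : CompactSpace (G ⊗ X).left := QuasiCompact.compactSpace_of_compactSpace (G ⊗ X).hom
  have hΓlfp : LocallyOfFinitePresentation Γ.left := inferInstance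
  have hΓqc : QuasiCompact Γ.left := inferInstance
  have hcons : Topology.IsConstructible (Set.range Γ.left.base) := by
    rw [← Set.image_univ]
    exact Γ.left.isConstructible_image Topology.IsConstructible.univ
  have hirr : IrreducibleSpace (X ⊗ X).left := irreducibleSpace_tensor_self
  have hdense : Dense (Set.range Γ.left.base) := hdom.denseRange
  have hrne : (Set.range Γ.left.base).Nonempty := hdense.nonempty
  obtain ⟨W, hWo, hWne, hWsub⟩ :=
    Groth.Agent.Lib.Helper41.ConstrDense.exists_open_inter_closure_subset hcons hrne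
  rw [hdense.closure_eq, Set.inter_univ] at hWne hWsub
  -- the open `U₀ = pr₂(W)`
  have hsndo : UniversallyOpen (snd X X).left := by
    rw [Over.snd_left]
    infer_instance
  let U₀ : Set X.left := (snd X X).left.base '' W
  have hU₀o : IsOpen U₀ := (snd X X).left.isOpenMap _ hWo
  have hU₀ne : U₀.Nonempty := hWne.image _
  let U : X.left.Opens := ⟨sat a U₀, isOpen_sat a hU₀o⟩
  have hUne : (U : Set X.left).Nonempty := by
    obtain ⟨x₀, hx₀⟩ := hU₀ne
    obtain ⟨c, -, hc2⟩ := exists_tensor_point G X (η[G].left.base (IsLocalRing.closedPoint k)) x₀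
    exact ⟨a.act.left.base c, c, by change (snd G X).left.base c ∈ U₀; rw [hc2]; exact hx₀, rfl⟩
  have hUst : Stable a (U : Set X.left) := stable_sat a U₀
  obtain ⟨b, hb⟩ := exists_action_of_stable a U hUst
  refine ⟨U, hUne, b, hb, ?_⟩
  let O : Over (Spec (CommRingCat.of k)) := Over.mk (U.ι ≫ X.hom)
  let j : O ⟶ X := Over.homMk U.ι rfl
  have hmono : Mono j := by
    have : Mono ((Over.forget _).map j) := by
      change Mono U.ι
      infer_instance
    exact (Over.forget _).mono_of_mono_map this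
  have hXnoeth : IsLocallyNoetherian X.left := LocallyOfFiniteType.isLocallyNoetherian X.hom
  have hOlft : LocallyOfFiniteType O.hom := by
    change LocallyOfFiniteType (U.ι ≫ X.hom)
    infer_instance
  have hOqc : QuasiCompact O.hom := by
    change QuasiCompact (U.ι ≫ X.hom)
    infer_instance
  let K := AlgebraicClosure k
  have hactlft : LocallyOfFiniteType a.act.left := by
    have : LocallyOfFiniteType (a.act.left ≫ X.hom) := by
      rw [Over.w a.act]
      infer_instance
    exact locallyOfFiniteType_of_comp a.act.left X.hom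
  apply surjective_graph_of_transitive k K b
  intro x₁ x₂
  -- decompose `x_i = h_i • u_i` with `u_i ∈ U₀`
  have hdec : ∀ x : SpK k K ⟶ O, ∃ (h : SpK k K ⟶ G) (u : SpK k K ⟶ X),
      u.left.base (IsLocalRing.closedPoint K) ∈ U₀ ∧ lift h u ≫ a.act = x ≫ j := by
    intro x
    have hxU : (x ≫ j).left.base (IsLocalRing.closedPoint K) ∈ sat a U₀ := by
      change U.ι.base (x.left.base (IsLocalRing.closedPoint K)) ∈ (U : Set X.left)
      exact (x.left.base (IsLocalRing.closedPoint K)).2
    obtain ⟨v, hv, hvx⟩ := hxU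
    obtain ⟨q, hq1, hq2⟩ := exists_kpoint_lift_mem k K a.act (x ≫ j)
      ((snd G X).left.base ⁻¹' U₀) (hU₀o.preimage (snd G X).left.continuous) ⟨v, hv, hvx⟩
    refine ⟨q ≫ fst G X, q ≫ snd G X, hq2, ?_⟩
    rw [← comp_lift, lift_fst_snd, Category.comp_id, hq1]
  obtain ⟨h₁, u₁, hu₁, hx₁⟩ := hdec x₁
  obtain ⟨h₂, u₂, hu₂, hx₂⟩ := hdec x₂
  obtain ⟨g, hg⟩ := exists_act_eq_of_mem_image k K a W hWo hWsub u₁ u₂ hu₁ hu₂
  refine ⟨h₂ * g * h₁⁻¹, ?_⟩
  rw [← cancel_mono j, Category.assoc, ← hb, lift_whiskerLeft_assoc, ← hx₁, act_mul, act_inv_act,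
    act_mul, hg, hx₂]

end Main

end Groth.Agent.Lib.Helper41.OpenOrbit
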