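import Groth.Agent.Lib.Helper41.HomFlat
import Groth.Agent.Lib.Helper41.QuotientPoints
import Groth.Agent.Lib.Helper41.PointsPullback2

/-!
# A surjective orbit map onto a reduced scheme is flat (helper41)

* `flat_orbitMap_of_surjective` : `G` a `k`-group scheme of finite type acting on a reduced
  `k`-scheme `X` locally of finite type; if the orbit map of a rational point is surjective, it is
  flat (generic flatness plus homogeneity).
* `isPullback_of_stabilizer` : if `i : H ⟶ G` represents the stabiliser of `o`, then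
  `G ⊗ H ≅ G ×_X G` (the square of `AGF.IsQuotient`).
-/

set_option autoImplicit false
universe u
open CategoryTheory CategoryTheory.Limits MonoidalCategory CartesianMonoidalCategory MonObj
  AlgebraicGeometry

namespace Groth.Agent.Lib.Helper41.OrbitFlat

open Groth.Agent.Lib.Helper41.TransitiveFlat Groth.Agent.Lib.Helper41.HomFlat
  Groth.Agent.Lib.Helper41.ActionPoints Groth.Agent.Lib.Helper41.QuotientPoints
  Groth.Agent.Lib.Helper93.ActionOpen

section Field

variable {k : Type u} [Field k] {G X : Over (Spec (CommRingCat.of k))} [GrpObj G]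

theorem actionLeftMul_act : (actionLeftMul G).act = μ[G] := by
  unfold actionLeftMul actionOfHom
  simp

/-- A surjective orbit map onto a reduced scheme is flat. -/
theorem flat_orbitMap_of_surjective [LocallyOfFiniteType G.hom] [QuasiCompact G.hom]
    [LocallyOfFiniteType X.hom] [IsReduced X.left] (a : AlgGrp.Action G X)
    (o : 𝟙_ (Over (Spec (CommRingCat.of k))) ⟶ X) (hsurj : Surjective (a.orbitMap o).left) :
    Flat (a.orbitMap o).left := by
  let K := AlgebraicClosure k
  have hne : Nonempty G.left := ⟨η[G].left.base (IsLocalRing.closedPoint k)⟩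
  have hlft : LocallyOfFiniteType (a.orbitMap o).left := by
    have : LocallyOfFiniteType ((a.orbitMap o).left ≫ X.hom) := by
      rw [Over.w (a.orbitMap o)]
      infer_instance
    exact locallyOfFiniteType_of_comp (a.orbitMap o).left X.hom
  refine (flat_surjective_of_transitive k K G G X (actionLeftMul G) a (a.orbitMap o) ?_ ?_).1
  · rw [actionLeftMul_act]
    exact whiskerLeft_orbitMap_act a o
  · intro y y'
    obtain ⟨g, hg⟩ := exists_kpoint_lift_of_surjective k K (a.orbitMap o) y
    obtain ⟨g', hg'⟩ := exists_kpoint_lift_of_surjective k K (a.orbitMap o) y'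
    refine ⟨g' * g⁻¹, ?_⟩
    rw [← hg, ← orbit_mul, inv_mul_cancel_right, hg']

end Field

section General

variable {S : Scheme.{u}} {G H X : Over S} [GrpObj G] [GrpObj H]

/-- If `i : H ⟶ G` represents the stabiliser of `o`, the square of `AGF.IsQuotient` is cartesian. -/
theorem isPullback_of_stabilizer (i : H ⟶ G) [Mono i] (a : AlgGrp.Action G X)
    (o : 𝟙_ (Over S) ⟶ X)
    (hH : ∀ (T : Over S) (g : T ⟶ G),
      (∃ h : T ⟶ H, h ≫ i = g) ↔ g ≫ a.orbitMap o = toUnit T ≫ o) :
    IsPullback (fst G H) ((G ◁ i) ≫ μ[G]) (a.orbitMap o) (a.orbitMap o) := by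
  have hstab : ∀ {T : Over S} (g : T ⟶ G) (h : T ⟶ H),
      (g * (h ≫ i)) ≫ a.orbitMap o = g ≫ a.orbitMap o := by
    intro T g h
    rw [orbit_mul, (hH T (h ≫ i)).mp ⟨h, rfl⟩, ← orbit_pt]
  apply Groth.Agent.Lib.Helper41.PointsPullback2.isPullback_of_existsUnique
  · rw [whiskerLeft_mul_eq, hstab]
  · intro T g₁ g₂ h12
    have h1 : (g₁⁻¹ * g₂) ≫ a.orbitMap o = toUnit T ≫ o := by
      rw [orbit_mul, ← h12, ← orbit_mul, inv_mul_cancel, one_orbit]
    obtain ⟨h, hh⟩ := (hH T _).mpr h1
    refine ⟨lift g₁ h, ⟨lift_fst _ _, ?_⟩, ?_⟩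
    · rw [lift_whiskerLeft_mul, hh, mul_inv_cancel_left]
    · rintro t ⟨ht1, ht2⟩
      apply CartesianMonoidalCategory.hom_ext
      · rw [ht1, lift_fst]
      · rw [lift_snd, ← cancel_mono i, hh, ← ht2, whiskerLeft_mul_eq, MonObj.comp_mul, ← ht1,
          inv_mul_cancel_left, Category.assoc]

end General

end Groth.Agent.Lib.Helper41.OrbitFlat
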