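import Mathlib

/-!
# A domain in which every nonzero ideal is a product of primes is Dedekind (helper41)
-/

set_option autoImplicit false
set_option linter.unusedSectionVars false

open FractionalIdeal nonZeroDivisors

namespace Groth.Agent.Lib.Helper41.PrimeFactDedekind

section Inv

variable {D : Type*} [CommRing D] [IsDomain D]

/-- An ideal is invertible when it is a unit among fractional ideals. -/
def Inv (I : Ideal D) : Prop := IsUnit (I : FractionalIdeal D⁰ (FractionRing D))

theorem inv_mul {I J : Ideal D} : Inv (I * J) ↔ Inv I ∧ Inv J := by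
  unfold Inv
  rw [coeIdeal_mul, IsUnit.mul_iff]

theorem inv_one : Inv (1 : Ideal D) := by
  unfold Inv
  rw [Ideal.one_eq_top, coeIdeal_top]
  exact isUnit_one

theorem inv_span_singleton {a : D} (ha : a ≠ 0) : Inv (Ideal.span {a}) := by
  unfold Inv
  rw [coeIdeal_span_singleton]
  have h0 : algebraMap D (FractionRing D) a ≠ 0 := by
    intro h
    exact ha (IsFractionRing.injective D (FractionRing D) (by rw [h, map_zero]))
  refine IsUnit.of_mul_eq_one (spanSingleton D⁰ (algebraMap D (FractionRing D) a)⁻¹) ?_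
  rw [spanSingleton_mul_spanSingleton, mul_inv_cancel₀ h0, spanSingleton_one]

theorem Inv.ne_bot {I : Ideal D} (h : Inv I) : I ≠ ⊥ := by
  rintro rfl
  unfold Inv at h
  rw [coeIdeal_bot] at h
  exact not_isUnit_zero h

theorem inv_of_mem_of_prod (s : Multiset (Ideal D)) (h : Inv s.prod) : ∀ P ∈ s, Inv P := by
  classical
  intro P hP
  rw [← Multiset.cons_erase hP, Multiset.prod_cons] at h
  exact (inv_mul.mp h).1

theorem inv_prod (s : Multiset (Ideal D)) (h : ∀ P ∈ s, Inv P) : Inv s.prod := by
  induction s using Multiset.induction_on with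
  | empty => simpa using inv_one
  | cons a s ih =>
    rw [Multiset.prod_cons]
    exact inv_mul.mpr ⟨h a (Multiset.mem_cons_self a s),
      ih fun P hP => h P (Multiset.mem_cons_of_mem hP)⟩

theorem Inv.cancel {P A B : Ideal D} (hP : Inv P) (h : P * A = P * B) : A = B := by
  apply coeIdeal_injective (K := FractionRing D)
  have h' : ((P * A : Ideal D) : FractionalIdeal D⁰ (FractionRing D)) = ((P * B : Ideal D) :
      FractionalIdeal D⁰ (FractionRing D)) := by rw [h]
  rw [coeIdeal_mul, coeIdeal_mul] at h'
  exact hP.mul_left_cancel h'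

/-- Uniqueness of factorisations into invertible primes. -/
theorem multiset_eq_of_prod_eq : ∀ (n : ℕ) (s t : Multiset (Ideal D)), Multiset.card s = n →
    (∀ P ∈ s, P.IsPrime ∧ Inv P) → (∀ Q ∈ t, Q.IsPrime) → s.prod = t.prod → s = t := by
  classical
  intro n
  induction n with
  | zero =>
    intro s t hs _ ht h
    rw [Multiset.card_eq_zero] at hs
    subst hs
    by_contra hne
    obtain ⟨Q, hQ⟩ := Multiset.exists_mem_of_ne_zero (Ne.symm hne)
    have h1 : t.prod ≤ Q := Ideal.multiset_prod_le_inf.trans (Multiset.inf_le hQ)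
    rw [← h, Multiset.prod_zero, Ideal.one_eq_top] at h1
    exact (ht Q hQ).ne_top (top_le_iff.mp h1)
  | succ n ih =>
    intro s t hs hsP htP h
    have hne : s.toFinset.Nonempty := by
      rw [Multiset.toFinset_nonempty]
      intro h0
      rw [h0] at hs
      simp at hs
    obtain ⟨P, hPmin⟩ := Finset.exists_minimal hne
    have hPs : P ∈ s := Multiset.mem_toFinset.mp hPmin.prop
    have hPprime := (hsP P hPs).1
    -- some `Q ∈ t` below `P`
    have h1 : t.prod ≤ P := by
      rw [← h]
      exact Ideal.multiset_prod_le_inf.trans (Multiset.inf_le hPs)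
    obtain ⟨Q, hQt, hQP⟩ := (Ideal.IsPrime.multiset_prod_le hPprime).mp h1
    have h2 : s.prod ≤ Q := by
      rw [h]
      exact Ideal.multiset_prod_le_inf.trans (Multiset.inf_le hQt)
    obtain ⟨P', hP's, hP'Q⟩ := (Ideal.IsPrime.multiset_prod_le (htP Q hQt)).mp h2
    have hP'P : P' = P := by
      have hle : P' ≤ P := hP'Q.trans hQP
      exact le_antisymm hle (hPmin.le_of_le (Multiset.mem_toFinset.mpr hP's) hle)
    have hQeq : Q = P := le_antisymm hQP (hP'P ▸ hP'Q)
    subst hQeq
    have hs' : s = Q ::ₘ s.erase Q := (Multiset.cons_erase hPs).symm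
    have ht' : t = Q ::ₘ t.erase Q := (Multiset.cons_erase hQt).symm
    have hprod : (s.erase Q).prod = (t.erase Q).prod := by
      apply (hsP Q hPs).2.cancel
      rw [← Multiset.prod_cons, ← Multiset.prod_cons, ← hs', ← ht', h]
    have hcard : Multiset.card (s.erase Q) = n := by
      rw [Multiset.card_erase_of_mem hPs, hs]; rfl
    have := ih (s.erase Q) (t.erase Q) hcard
      (fun P hP => hsP P (Multiset.mem_of_mem_erase hP))
      (fun P hP => htP P (Multiset.mem_of_mem_erase hP)) hprod
    rw [hs', ht', this]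

end Inv

section Main

variable {R : Type*} [CommRing R] [IsDomain R]
  (hfac : ∀ I : Ideal R, I ≠ ⊥ → ∃ s : Multiset (Ideal R), (∀ p ∈ s, p.IsPrime ∧ p ≠ ⊥) ∧ s.prod = I)
include hfac

/-- Step 1: an invertible prime is maximal. -/
theorem isMaximal_of_inv (P : Ideal R) [hPp : P.IsPrime] (hP : Inv P) : P.IsMaximal := by
  classical
  -- key claim
  have key : ∀ a : R, a ∉ P → P ⊔ Ideal.span {a} = ⊤ := by
    intro a ha
    suffices hsuff : ∀ I : Ideal R, I = P ⊔ Ideal.span {a} → I = ⊤ from hsuff _ rfl
    intro I hI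
    obtain ⟨J, hJ⟩ : ∃ J : Ideal R, J = P ⊔ Ideal.span {a ^ 2} := ⟨_, rfl⟩
    have hPI : P ≤ I := by rw [hI]; exact le_sup_left
    have hPJ : P ≤ J := by rw [hJ]; exact le_sup_left
    have hI0 : I ≠ ⊥ := fun h => hP.ne_bot (le_bot_iff.mp (by rw [← h]; exact hPI))
    have hJ0 : J ≠ ⊥ := fun h => hP.ne_bot (le_bot_iff.mp (by rw [← h]; exact hPJ))
    obtain ⟨s, hs, hsI⟩ := hfac I hI0
    obtain ⟨t, ht, htJ⟩ := hfac J hJ0
    let π := Ideal.Quotient.mk P
    have hπ : Function.Surjective π := Ideal.Quotient.mk_surjective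
    have hker : RingHom.ker π = P := Ideal.mk_ker
    have hπa : π a ≠ 0 := by
      intro h
      exact ha (Ideal.Quotient.eq_zero_iff_mem.mp h)
    have hmapI : Ideal.map π I = Ideal.span {π a} := by
      rw [hI, Ideal.map_sup, Ideal.map_span, Set.image_singleton, Ideal.map_quotient_self, bot_sup_eq]
    have hmapJ : Ideal.map π J = Ideal.span {π a ^ 2} := by
      rw [hJ, Ideal.map_sup, Ideal.map_span, Set.image_singleton, Ideal.map_quotient_self, bot_sup_eq,
        map_pow]
    -- primes of `s`, `t` contain `P`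
    have hsP : ∀ p ∈ s, P ≤ p := by
      intro p hp
      refine hPI.trans ?_
      rw [← hsI]
      exact Ideal.multiset_prod_le_inf.trans (Multiset.inf_le hp)
    have htP : ∀ p ∈ t, P ≤ p := by
      intro p hp
      refine hPJ.trans ?_
      rw [← htJ]
      exact Ideal.multiset_prod_le_inf.trans (Multiset.inf_le hp)
    let sbar := s.map (Ideal.map π)
    let tbar := t.map (Ideal.map π)
    have hsbar : sbar.prod = Ideal.span {π a} := by
      rw [← hmapI, ← hsI]
      exact (map_multiset_prod (Ideal.mapHom π) s).symm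
    have htbar : tbar.prod = Ideal.span {π a ^ 2} := by
      rw [← hmapJ, ← htJ]
      exact (map_multiset_prod (Ideal.mapHom π) t).symm
    have hprime_s : ∀ q ∈ sbar, q.IsPrime := by
      intro q hq
      obtain ⟨p, hp, rfl⟩ := Multiset.mem_map.mp hq
      haveI := (hs p hp).1
      exact Ideal.map_isPrime_of_surjective hπ (hker.le.trans (hsP p hp))
    have hprime_t : ∀ q ∈ tbar, q.IsPrime := by
      intro q hq
      obtain ⟨p, hp, rfl⟩ := Multiset.mem_map.mp hq
      haveI := (ht p hp).1
      exact Ideal.map_isPrime_of_surjective hπ (hker.le.trans (htP p hp))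
    have hprod2 : (sbar + sbar).prod = tbar.prod := by
      rw [Multiset.prod_add, hsbar, htbar, Ideal.span_singleton_mul_span_singleton, pow_two]
    have hinv2 : ∀ q ∈ sbar + sbar, q.IsPrime ∧ Inv q := by
      intro q hq
      have hq' : q ∈ sbar := by
        rcases Multiset.mem_add.mp hq with h | h <;> exact h
      refine ⟨hprime_s q hq', ?_⟩
      apply inv_of_mem_of_prod sbar _ q hq'
      rw [hsbar]
      exact inv_span_singleton hπa
    have heq := multiset_eq_of_prod_eq _ (sbar + sbar) tbar rfl hinv2 hprime_t hprod2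
    -- pull back
    have hcomap : ∀ (u : Multiset (Ideal R)), (∀ p ∈ u, P ≤ p) →
        (u.map (Ideal.map π)).map (Ideal.comap π) = u := by
      intro u hu
      rw [Multiset.map_map]
      conv_rhs => rw [← Multiset.map_id u]
      apply Multiset.map_congr rfl
      intro p hp
      simp only [Function.comp_apply, id]
      rw [Ideal.comap_map_of_surjective π hπ, ← RingHom.ker_eq_comap_bot, hker]
      exact sup_eq_left.mpr (hu p hp)
    have hts : t = s + s := by
      have := congrArg (Multiset.map (Ideal.comap π)) heq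
      rw [Multiset.map_add, hcomap s hsP, hcomap t htP] at this
      exact this.symm
    have hJI : J = I * I := by
      rw [← htJ, hts, Multiset.prod_add, hsI]
    -- `P ≤ P * I`
    have haI : a ∈ I := by rw [hI]; exact Ideal.mem_sup_right (Ideal.mem_span_singleton_self a)
    have hII : I * I ≤ P * I ⊔ Ideal.span {a ^ 2} := by
      have h1 : I * I = P * I ⊔ Ideal.span {a} * I := by
        conv_lhs => rw [hI]
        rw [Ideal.sup_mul, ← hI]
      rw [h1]
      apply sup_le le_sup_left
      have h2 : Ideal.span {a} * I = Ideal.span {a} * P ⊔ Ideal.span {a} * Ideal.span {a} := by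
        rw [hI, Ideal.mul_sup]
      rw [h2]
      apply sup_le
      · apply le_sup_of_le_left
        rw [mul_comm]
        exact Ideal.mul_mono_right ((Ideal.span_singleton_le_iff_mem I).mpr haI)
      · rw [Ideal.span_singleton_mul_span_singleton, ← pow_two]
        exact le_sup_right
    have hPPI : P ≤ P * I := by
      intro x hx
      have hxJ : x ∈ I * I := by rw [← hJI]; exact hPJ hx
      obtain ⟨y, hy, w, hw, rfl⟩ := Submodule.mem_sup.mp (hII hxJ)
      obtain ⟨z, rfl⟩ := Ideal.mem_span_singleton'.mp hw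
      have hle1 : P * I ≤ P := Ideal.mul_le_left
      have hyP : y ∈ P := hle1 hy
      have hzP : z * a ^ 2 ∈ P := by
        have h3 := P.sub_mem hx hyP
        have h4 : y + z * a ^ 2 - y = z * a ^ 2 := by ring
        rwa [h4] at h3
      have hz : z ∈ P := by
        rcases hPp.mem_or_mem hzP with h | h
        · exact h
        · exact absurd (hPp.mem_of_pow_mem 2 h) ha
      apply Ideal.add_mem _ hy
      have : z * a ^ 2 = (z * a) * a := by ring
      rw [this]
      exact Ideal.mul_mem_mul (P.mul_mem_right a hz) haI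
    have hle2 : P * I ≤ P := Ideal.mul_le_left
    have hPI' : P * I = P * ⊤ := by
      rw [Ideal.mul_top]
      exact le_antisymm hle2 hPPI
    exact Inv.cancel (P := P) (A := I) (B := ⊤) hP hPI'
  rw [Ideal.isMaximal_iff]
  refine ⟨fun h => hPp.ne_top ((Ideal.eq_top_iff_one P).mpr h), ?_⟩
  intro J' x hPJ' hxP hxJ'
  have := key x hxP
  have hle : P ⊔ Ideal.span {x} ≤ J' :=
    sup_le hPJ' ((Ideal.span_singleton_le_iff_mem J').mpr hxJ')
  rw [this] at hle
  exact hle trivial

/-- Step 2: every nonzero prime is invertible. -/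
theorem inv_of_prime (P : Ideal R) [hPp : P.IsPrime] (hP0 : P ≠ ⊥) : Inv P := by
  obtain ⟨a, haP, ha0⟩ := Submodule.exists_mem_ne_zero_of_ne_bot hP0
  have hspan : Ideal.span {a} ≠ ⊥ := by
    rw [Ne, Ideal.span_singleton_eq_bot]; exact ha0
  obtain ⟨s, hs, hsa⟩ := hfac _ hspan
  have hinv : ∀ p ∈ s, Inv p := by
    apply inv_of_mem_of_prod
    rw [hsa]
    exact inv_span_singleton ha0
  have hle : s.prod ≤ P := by
    rw [hsa]
    exact (Ideal.span_singleton_le_iff_mem P).mpr haP
  obtain ⟨p, hp, hpP⟩ := (Ideal.IsPrime.multiset_prod_le hPp).mp hle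
  haveI := (hs p hp).1
  have hmax : p.IsMaximal := isMaximal_of_inv hfac p (hinv p hp)
  have : p = P := hmax.eq_of_le hPp.ne_top hpP
  rw [← this]
  exact hinv p hp

/-- Step 3: every nonzero ideal is invertible. -/
theorem inv_of_ne_bot (I : Ideal R) (hI : I ≠ ⊥) : Inv I := by
  obtain ⟨s, hs, hsI⟩ := hfac I hI
  rw [← hsI]
  apply inv_prod
  intro p hp
  haveI := (hs p hp).1
  exact inv_of_prime hfac p (hs p hp).2

theorem isDedekindDomain : IsDedekindDomain R := by
  rw [isDedekindDomain_iff_mul_inv_cancel (K := FractionRing R)]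
  intro I hI
  rw [mul_inv_cancel_iff_isUnit]
  obtain ⟨a, J, ha, hJ⟩ := exists_eq_spanSingleton_mul (K := FractionRing R) I
  have hJ0 : J ≠ ⊥ := by
    rintro rfl
    apply hI
    rw [hJ, coeIdeal_bot, mul_zero]
    rfl
  have h0 : algebraMap R (FractionRing R) a ≠ 0 := by
    intro h
    exact ha (IsFractionRing.injective R (FractionRing R) (by rw [h, map_zero]))
  rw [hJ]
  apply IsUnit.mul
  · refine IsUnit.of_mul_eq_one (spanSingleton R⁰ (algebraMap R (FractionRing R) a)) ?_
    rw [spanSingleton_mul_spanSingleton, inv_mul_cancel₀ h0, spanSingleton_one]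
  · exact inv_of_ne_bot hfac J hJ0

end Main

end Groth.Agent.Lib.Helper41.PrimeFactDedekind
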