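import Groth.Agent.Lib.Helper50.GeomReducedJoint
import Mathlib

/-!
# Reducedness of products over a field without Noetherian hypotheses (helper41)

* `isReduced_tensorProduct_of_forall_algHom'` : joint-injectivity criterion, `K` any `k`-algebra.
* `isReduced_tensor_of_forall_residueField` : `B` reduced, `κ(𝔭) ⊗ A` reduced for all primes `𝔭` of
  `B` ⇒ `A ⊗[k] B` reduced.
* `isReduced_pullback_of_geometricallyReduced` : `X` geometrically reduced over a field `k`, `Y` a
  reduced `k`-scheme ⇒ `X ×ₖ Y` reduced (no Noetherian hypothesis).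
* `isReduced_of_geometricallyReduced` : geometrically reduced over a field ⇒ reduced.
* `geometricallyReduced_of_dense_family` : `H` reduced, a family `g i : T i ⟶ H` with jointly dense
  image and `T i` geometrically reduced over `k` ⇒ `H` geometrically reduced over `k`.
-/

set_option autoImplicit false
universe u
open CategoryTheory CategoryTheory.Limits AlgebraicGeometry TensorProduct

namespace Groth.Agent.Lib.Helper41.ProductReduced

/-- If a family of `k`-algebra maps `φ i : A → B i` is jointly injective and all `B i ⊗ K` are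
reduced, then `A ⊗ K` is reduced (`K` any commutative `k`-algebra). -/
theorem isReduced_tensorProduct_of_forall_algHom' {k K A : Type u} [Field k] [CommRing K]
    [Algebra k K] [CommRing A] [Algebra k A] {ι : Type*} (B : ι → Type u) [∀ i, CommRing (B i)]
    [∀ i, Algebra k (B i)] (φ : ∀ i, A →ₐ[k] B i)
    (hφ : ∀ a : A, (∀ i, φ i a = 0) → a = 0)
    (hB : ∀ i, IsReduced (B i ⊗[k] K)) : IsReduced (A ⊗[k] K) := by
  refine ⟨fun t ht => ?_⟩
  let b := Module.Free.chooseBasis k K
  have h0 : ∀ i, Algebra.TensorProduct.map (φ i) (AlgHom.id k K) t = 0 := by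
    intro i
    have := hB i
    exact (ht.map (Algebra.TensorProduct.map (φ i) (AlgHom.id k K))).eq_zero
  apply (Algebra.TensorProduct.basis A b).repr.injective
  ext j
  rw [map_zero, Finsupp.zero_apply]
  apply hφ
  intro i
  have h1 := Groth.Agent.Lib.Helper50.basis_repr_map_apply b (φ i) t j
  rw [← h1]
  have h2 : ∀ s : A ⊗[k] K, TensorProduct.map (φ i).toLinearMap LinearMap.id s =
      Algebra.TensorProduct.map (φ i) (AlgHom.id k K) s := by
    intro s
    induction s using TensorProduct.induction_on with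
    | zero => simp
    | tmul a m => simp
    | add x y hx hy => simp only [map_add, hx, hy]
  rw [h2, h0 i, map_zero, Finsupp.zero_apply]

/-- `B` reduced and `κ(𝔭) ⊗[k] A` reduced for all primes `𝔭` of `B` ⇒ `B ⊗[k] A` reduced. -/
theorem isReduced_tensor_of_forall_residueField {k A B : Type u} [Field k] [CommRing A]
    [Algebra k A] [CommRing B] [Algebra k B] [IsReduced B]
    (h : ∀ p : PrimeSpectrum B, IsReduced (p.asIdeal.ResidueField ⊗[k] A)) :
    IsReduced (B ⊗[k] A) := by
  refine isReduced_tensorProduct_of_forall_algHom' (ι := PrimeSpectrum B)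
    (fun p => p.asIdeal.ResidueField)
    (fun p => IsScalarTower.toAlgHom k B p.asIdeal.ResidueField) ?_ h
  intro a ha
  have hnil : IsNilpotent a := by
    rw [nilpotent_iff_mem_prime]
    intro J hJ
    have h1 := ha ⟨J, hJ⟩
    have h2 : algebraMap B J.ResidueField a = 0 := h1
    rwa [Ideal.algebraMap_residueField_eq_zero] at h2
  exact hnil.eq_zero

variable {k : Type u} [Field k]

/-- Affine chart version: for an open immersion `j : Spec R ⟶ X` into a `k`-scheme geometrically
reduced over `k`, `R ⊗[k] K` is reduced for every field `K` over `k`. -/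
theorem isReduced_tensor_of_geometricallyReduced {X : Scheme.{u}}
    (f : X ⟶ Spec (CommRingCat.of k)) [GeometricallyReduced f]
    (R : CommRingCat.{u}) (j : Spec R ⟶ X) [IsOpenImmersion j]
    (φ : CommRingCat.of k ⟶ R) (hφ : Spec.map φ = j ≫ f)
    (K : Type u) [Field K] [Algebra k K] :
    letI := φ.hom.toAlgebra
    IsReduced (R ⊗[k] K) := by
  let := φ.hom.toAlgebra
  let y : Spec (CommRingCat.of K) ⟶ Spec (CommRingCat.of k) :=
    Spec.map (CommRingCat.ofHom (algebraMap k K))
  have h1 : IsReduced (pullback f y) :=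
    GeometricallyReduced.geometrically_isReduced (f := f) y _ _ (IsPullback.of_hasPullback f y)
  have h2 : IsReduced (pullback (j ≫ f) y) := by
    have e1 : (j ≫ f) ≫ 𝟙 _ = j ≫ f := Category.comp_id _
    have e2 : y ≫ 𝟙 _ = 𝟙 _ ≫ y := by rw [Category.comp_id, Category.id_comp]
    have hoi : IsOpenImmersion (pullback.map (j ≫ f) y f y j (𝟙 _) (𝟙 _) e1 e2) :=
      inferInstance
    exact isReduced_of_isOpenImmersion (pullback.map (j ≫ f) y f y j (𝟙 _) (𝟙 _) e1 e2)
  have hφ' : Spec.map (CommRingCat.ofHom (algebraMap k R)) = j ≫ f := hφ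
  rw [← hφ'] at h2
  have h3 : IsReduced (Spec (CommRingCat.of (R ⊗[k] K))) :=
    isReduced_of_isOpenImmersion (pullbackSpecIso k R K).inv
  exact (affine_isReduced_iff _).mp h3

/-- `X` geometrically reduced over a field `k` and `Y` a reduced `k`-scheme ⇒ `X ×ₖ Y` reduced
(no Noetherian hypothesis). -/
theorem isReduced_pullback_of_geometricallyReduced {X Y : Scheme.{u}}
    (f : X ⟶ Spec (CommRingCat.of k)) (g : Y ⟶ Spec (CommRingCat.of k))
    [GeometricallyReduced f] [IsReduced Y] : IsReduced (pullback f g) := by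
  let 𝒰X := X.affineOpenCover
  let 𝒰Y := Y.affineOpenCover
  refine @IsReduced.of_openCover _
    (Scheme.Pullback.openCoverOfLeftRight 𝒰X.openCover 𝒰Y.openCover f g) (fun ij => ?_)
  change IsReduced (pullback (𝒰X.f ij.1 ≫ f) (𝒰Y.f ij.2 ≫ g))
  obtain ⟨φ, hφ⟩ := Spec.map_surjective (𝒰X.f ij.1 ≫ f)
  obtain ⟨ψ, hψ⟩ := Spec.map_surjective (𝒰Y.f ij.2 ≫ g)
  have hoiX : IsOpenImmersion (𝒰X.f ij.1) := 𝒰X.map_prop ij.1
  have hoiY : IsOpenImmersion (𝒰Y.f ij.2) := 𝒰Y.map_prop ij.2
  let := φ.hom.toAlgebra
  let := ψ.hom.toAlgebra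
  have hBred : IsReduced (𝒰Y.X ij.2) := by
    have : IsReduced (Spec (𝒰Y.X ij.2)) := isReduced_of_isOpenImmersion (𝒰Y.f ij.2)
    exact (affine_isReduced_iff _).mp this
  have hmain : IsReduced ((𝒰Y.X ij.2) ⊗[k] (𝒰X.X ij.1)) := by
    apply isReduced_tensor_of_forall_residueField
    intro p
    have h1 := isReduced_tensor_of_geometricallyReduced f (𝒰X.X ij.1) (𝒰X.f ij.1) φ hφ
      p.asIdeal.ResidueField
    exact isReduced_of_injective (Algebra.TensorProduct.comm k p.asIdeal.ResidueField (𝒰X.X ij.1))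
      (Algebra.TensorProduct.comm k p.asIdeal.ResidueField (𝒰X.X ij.1)).injective
  have hmain' : IsReduced ((𝒰X.X ij.1) ⊗[k] (𝒰Y.X ij.2)) :=
    isReduced_of_injective (Algebra.TensorProduct.comm k (𝒰X.X ij.1) (𝒰Y.X ij.2))
      (Algebra.TensorProduct.comm k (𝒰X.X ij.1) (𝒰Y.X ij.2)).injective
  have hφ' : Spec.map (CommRingCat.ofHom (algebraMap k (𝒰X.X ij.1))) = 𝒰X.f ij.1 ≫ f := hφ
  have hψ' : Spec.map (CommRingCat.ofHom (algebraMap k (𝒰Y.X ij.2))) = 𝒰Y.f ij.2 ≫ g := hψ
  rw [← hφ', ← hψ']
  have hS : IsReduced (Spec (CommRingCat.of ((𝒰X.X ij.1) ⊗[k] (𝒰Y.X ij.2)))) := by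
    rw [affine_isReduced_iff]
    exact hmain'
  exact isReduced_of_isOpenImmersion (pullbackSpecIso k (𝒰X.X ij.1) (𝒰Y.X ij.2)).hom

/-- A scheme geometrically reduced over a field is reduced. -/
theorem isReduced_of_geometricallyReduced {X : Scheme.{u}}
    (f : X ⟶ Spec (CommRingCat.of k)) [GeometricallyReduced f] : IsReduced X := by
  have h1 : IsReduced (pullback f (𝟙 (Spec (CommRingCat.of k)))) :=
    isReduced_pullback_of_geometricallyReduced f (𝟙 _)
  have : IsIso (pullback.fst f (𝟙 (Spec (CommRingCat.of k)))) := inferInstance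
  exact isReduced_of_isOpenImmersion (inv (pullback.fst f (𝟙 (Spec (CommRingCat.of k)))))

/-- Affine chart version of `geometricallyReduced_of_dense_family`. -/
theorem isReduced_tensor_of_dense_family {H : Scheme.{u}} (f : H ⟶ Spec (CommRingCat.of k))
    [IsReduced H] {ι : Type*} (T : ι → Scheme.{u}) (g : ∀ i, T i ⟶ H)
    (hT : ∀ i, GeometricallyReduced (g i ≫ f)) (hd : Dense (⋃ i, Set.range (g i).base))
    (R : CommRingCat.{u}) (j : Spec R ⟶ H) [IsOpenImmersion j]
    (φ : CommRingCat.of k ⟶ R) (hφ : Spec.map φ = j ≫ f)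
    (K : Type u) [Field K] [Algebra k K] :
    letI := φ.hom.toAlgebra
    IsReduced (R ⊗[k] K) := by
  let := φ.hom.toAlgebra
  have hRred : IsReduced R := by
    have : IsReduced (Spec R) := isReduced_of_isOpenImmersion j
    exact (affine_isReduced_iff R).mp this
  let 𝒱 : ∀ i, (pullback (g i) j).AffineOpenCover := fun i => (pullback (g i) j).affineOpenCover
  let J := Σ i : ι, (𝒱 i).I₀
  let B : J → Type u := fun x => (𝒱 x.1).X x.2
  let c : ∀ x : J, Spec ((𝒱 x.1).X x.2) ⟶ pullback (g x.1) j := fun x => (𝒱 x.1).f x.2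
  let χ : ∀ x : J, R ⟶ (𝒱 x.1).X x.2 := fun x => Spec.preimage (c x ≫ pullback.snd _ _)
  have hχ : ∀ x : J, Spec.map (χ x) = c x ≫ pullback.snd _ _ := fun x => Spec.map_preimage _
  let algB : ∀ x : J, Algebra k (B x) := fun x => (φ ≫ χ x).hom.toAlgebra
  let ψ : ∀ x : J, R →ₐ[k] B x := fun x =>
    { toRingHom := (χ x).hom
      commutes' := fun _ => rfl }
  have hjoint : ∀ a : R, (∀ x : J, ψ x a = 0) → a = 0 := by
    intro a ha
    by_contra ha0
    have hnil : ¬ IsNilpotent a := fun h => ha0 (hRred.eq_zero a h)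
    have hne : (PrimeSpectrum.basicOpen a : Set (PrimeSpectrum R)).Nonempty := by
      by_contra hempty
      rw [Set.not_nonempty_iff_eq_empty] at hempty
      apply hnil
      rw [← PrimeSpectrum.basicOpen_eq_bot_iff]
      exact TopologicalSpace.Opens.ext hempty
    obtain ⟨p, hp⟩ := hne
    have hopen : IsOpen (j.base '' (PrimeSpectrum.basicOpen a : Set (PrimeSpectrum R))) :=
      j.isOpenEmbedding.isOpenMap _ (PrimeSpectrum.basicOpen a).isOpen
    obtain ⟨x, hx1, hx2⟩ := hd.inter_open_nonempty _ hopen ⟨_, p, hp, rfl⟩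
    obtain ⟨p', hp', hp'x⟩ := hx1
    obtain ⟨i, t, hti⟩ := Set.mem_iUnion.mp hx2
    obtain ⟨q, hq1, hq2⟩ := Scheme.Pullback.exists_preimage_pullback (f := g i) (g := j) t p'
      (by rw [hp'x]; exact hti)
    obtain ⟨l, q', hq'⟩ := (𝒱 i).openCover.exists_eq q
    let x0 : J := ⟨i, l⟩
    have h1 : (Spec.map (χ x0)).base q' = p' := by
      rw [hχ x0]
      change (pullback.snd (g i) j).base ((c x0).base q') = p'
      have : (c x0).base q' = q := hq'
      rw [this, hq2]
    have h2 : a ∈ p'.asIdeal := by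
      rw [← h1]
      change a ∈ (q'.asIdeal).comap (χ x0).hom
      rw [Ideal.mem_comap]
      have h3 : (χ x0).hom a = 0 := ha x0
      rw [h3]
      exact Ideal.zero_mem _
    exact hp' h2
  refine isReduced_tensorProduct_of_forall_algHom' B ψ hjoint fun x => ?_
  have := hT x.1
  have hoi : IsOpenImmersion (c x) := (𝒱 x.1).map_prop x.2
  have hoi2 : IsOpenImmersion (c x ≫ pullback.fst (g x.1) j) := inferInstance
  refine isReduced_tensor_of_geometricallyReduced (g x.1 ≫ f) ((𝒱 x.1).X x.2)
    (c x ≫ pullback.fst (g x.1) j) (φ ≫ χ x) ?_ K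
  rw [Spec.map_comp, hχ, hφ, Category.assoc, Category.assoc, ← pullback.condition_assoc]

/-- A reduced `k`-scheme `H` receiving a family of morphisms `g i : T i ⟶ H` with jointly dense
image from schemes geometrically reduced over `k` is geometrically reduced over `k`. -/
theorem geometricallyReduced_of_dense_family {H : Scheme.{u}} (f : H ⟶ Spec (CommRingCat.of k))
    [IsReduced H] {ι : Type*} (T : ι → Scheme.{u}) (g : ∀ i, T i ⟶ H)
    (hT : ∀ i, GeometricallyReduced (g i ≫ f)) (hd : Dense (⋃ i, Set.range (g i).base)) :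
    GeometricallyReduced f := by
  constructor
  rw [geometrically_iff_of_commRing_of_isClosedUnderIsomorphisms]
  intro K _ _
  let 𝒰 := H.affineOpenCover
  refine @IsReduced.of_openCover _
    (Scheme.Pullback.openCoverOfLeft 𝒰.openCover f
      (Spec.map (CommRingCat.ofHom (algebraMap k K)))) (fun i => ?_)
  change IsReduced (pullback (𝒰.f i ≫ f) (Spec.map (CommRingCat.ofHom (algebraMap k K))))
  obtain ⟨φ, hφ⟩ := Spec.map_surjective (𝒰.f i ≫ f)
  have hoi : IsOpenImmersion (𝒰.f i) := 𝒰.map_prop i
  have hred := isReduced_tensor_of_dense_family f T g hT hd (𝒰.X i) (𝒰.f i) φ hφ K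
  let := φ.hom.toAlgebra
  have hφ' : Spec.map (CommRingCat.ofHom (algebraMap k (𝒰.X i))) = 𝒰.f i ≫ f := hφ
  rw [← hφ']
  have hS : IsReduced (Spec (CommRingCat.of ((𝒰.X i) ⊗[k] K))) := by
    rw [affine_isReduced_iff]
    exact hred
  exact isReduced_of_isOpenImmersion (pullbackSpecIso k (𝒰.X i) K).hom

/-- The identity of `Spec k` is geometrically reduced. -/
theorem geometricallyReduced_id : GeometricallyReduced (𝟙 (Spec (CommRingCat.of k))) := by
  constructor
  intro K _ y Z fstZ sndZ hpb
  have : IsIso sndZ := hpb.isIso_snd_of_isIso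
  exact isReduced_of_isOpenImmersion sndZ

/-- The product over a field of two geometrically reduced schemes is geometrically reduced. -/
theorem geometricallyReduced_pullback_fst_comp {X Y : Scheme.{u}}
    (f : X ⟶ Spec (CommRingCat.of k)) (g : Y ⟶ Spec (CommRingCat.of k))
    [GeometricallyReduced f] [GeometricallyReduced g] :
    GeometricallyReduced (pullback.fst f g ≫ f) := by
  constructor
  intro K _ y Z fstZ sndZ hpb
  have hP : IsReduced (pullback f y) :=
    GeometricallyReduced.geometrically_isReduced (f := f) y _ _ (IsPullback.of_hasPullback f y)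
  let u : Z ⟶ pullback f y := pullback.lift (fstZ ≫ pullback.fst f g) sndZ
    (by rw [Category.assoc]; exact hpb.w)
  have hu1 : u ≫ pullback.fst f y = fstZ ≫ pullback.fst f g := pullback.lift_fst _ _ _
  have hu2 : u ≫ pullback.snd f y = sndZ := pullback.lift_snd _ _ _
  have hbig : IsPullback fstZ (u ≫ pullback.snd f y) (pullback.fst f g ≫ f) y := by
    rw [hu2]
    exact hpb
  have htop : IsPullback fstZ u (pullback.fst f g) (pullback.fst f y) :=
    IsPullback.of_bot hbig hu1.symm (IsPullback.of_hasPullback f y)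
  have hpaste : IsPullback (fstZ ≫ pullback.snd f g) u g (pullback.fst f y ≫ f) :=
    htop.paste_horiz (IsPullback.of_hasPullback f g).flip
  have hred : IsReduced (pullback g (pullback.fst f y ≫ f)) :=
    isReduced_pullback_of_geometricallyReduced g (pullback.fst f y ≫ f)
  exact isReduced_of_isOpenImmersion hpaste.isoPullback.hom

end Groth.Agent.Lib.Helper41.ProductReduced
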