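import Groth.Agent.Lib.Helper50.GeomReducedJoint
import Mathlib

/-!
# A reduced scheme with a dense set of rational points is geometrically reduced (helper41)

* `isReduced_tensor_of_dense` : affine chart version.
* `geometricallyReduced_of_dense_rational` : a reduced `k`-scheme `H` with a dense set of
  `k`-rational points is geometrically reduced over `k` (no finiteness hypothesis).
-/

set_option autoImplicit false
universe u
open CategoryTheory CategoryTheory.Limits AlgebraicGeometry TensorProduct

namespace Groth.Agent.Lib.Helper41.RatPointsDense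

variable {k : Type u} [Field k]

/-- Affine chart version: if `j : Spec R ⟶ H` is an open immersion into a reduced `k`-scheme with
a dense set of rational points, then `R ⊗[k] K` is reduced for every field `K` over `k`. -/
theorem isReduced_tensor_of_dense {H : Scheme.{u}} (f : H ⟶ Spec (CommRingCat.of k)) [IsReduced H]
    (Sg : Set (Spec (CommRingCat.of k) ⟶ H)) (hsec : ∀ s ∈ Sg, s ≫ f = 𝟙 _)
    (hd : Dense {x : H | ∃ s ∈ Sg, s.base (IsLocalRing.closedPoint k) = x})
    (R : CommRingCat.{u}) (j : Spec R ⟶ H) [IsOpenImmersion j]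
    (φ : CommRingCat.of k ⟶ R) (hφ : Spec.map φ = j ≫ f)
    (K : Type u) [Field K] [Algebra k K] :
    letI := φ.hom.toAlgebra
    IsReduced (R ⊗[k] K) := by
  let := φ.hom.toAlgebra
  have hRred : IsReduced R := by
    have : IsReduced (Spec R) := isReduced_of_isOpenImmersion j
    exact (affine_isReduced_iff R).mp this
  -- the index type: rational points in the chart
  let ι := {s : Spec (CommRingCat.of k) ⟶ H // s ∈ Sg ∧ Set.range s.base ⊆ Set.range j.base}
  let t : ι → (Spec (CommRingCat.of k) ⟶ Spec R) := fun s => IsOpenImmersion.lift j s.1 s.2.2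
  have ht : ∀ s : ι, t s ≫ j = s.1 := fun s => IsOpenImmersion.lift_fac _ _ _
  let χ : ι → (R ⟶ CommRingCat.of k) := fun s => Spec.preimage (t s)
  have hχ : ∀ s : ι, Spec.map (χ s) = t s := fun s => Spec.map_preimage _
  have hχφ : ∀ s : ι, φ ≫ χ s = 𝟙 _ := by
    intro s
    apply Spec.map_injective
    rw [Spec.map_comp, hχ, hφ, ← Category.assoc, ht, hsec s.1 s.2.1, Spec.map_id]
  let ψ : ι → (R →ₐ[k] k) := fun s =>
    { toRingHom := (χ s).hom
      commutes' := fun c => by
        have := congrArg (fun g => g.hom c) (hχφ s)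
        exact this }
  have hjoint : ∀ a : R, (∀ s : ι, ψ s a = 0) → a = 0 := by
    intro a ha
    by_contra ha0
    have hnil : ¬ IsNilpotent a := fun h => ha0 (hRred.eq_zero a h)
    have hne : (PrimeSpectrum.basicOpen a : Set (PrimeSpectrum R)).Nonempty := by
      by_contra hempty
      rw [Set.not_nonempty_iff_eq_empty] at hempty
      apply hnil
      rw [← PrimeSpectrum.basicOpen_eq_bot_iff]
      exact TopologicalSpace.Opens.ext hempty
    obtain ⟨p, hp⟩ := hne
    have hopen : IsOpen (j.base '' (PrimeSpectrum.basicOpen a : Set (PrimeSpectrum R))) :=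
      j.isOpenEmbedding.isOpenMap _ (PrimeSpectrum.basicOpen a).isOpen
    obtain ⟨x, hx1, s, hs, hsx⟩ := hd.inter_open_nonempty _ hopen ⟨_, p, hp, rfl⟩
    obtain ⟨p', hp', hp'x⟩ := hx1
    have hrange : Set.range s.base ⊆ Set.range j.base := by
      rintro _ ⟨y, rfl⟩
      have : y = IsLocalRing.closedPoint k := Subsingleton.elim _ _
      rw [this, hsx, ← hp'x]
      exact ⟨p', rfl⟩
    let s' : ι := ⟨s, hs, hrange⟩
    have h1 : (t s').base (IsLocalRing.closedPoint k) = p' := by
      apply j.isOpenEmbedding.injective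
      have : j.base ((t s').base (IsLocalRing.closedPoint k)) =
          (t s' ≫ j).base (IsLocalRing.closedPoint k) := rfl
      rw [this, ht, hp'x]
      exact hsx
    have h2 : a ∈ p'.asIdeal := by
      rw [← h1, ← hχ s']
      change a ∈ ((IsLocalRing.closedPoint k).asIdeal).comap (χ s').hom
      rw [Ideal.mem_comap]
      have h3 : (χ s').hom a = 0 := ha s'
      rw [h3]
      exact Ideal.zero_mem _
    exact hp' h2
  refine Groth.Agent.Lib.Helper50.isReduced_tensorProduct_of_forall_algHom (fun _ : ι => k) ψ hjoint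
    fun _ => ?_
  exact isReduced_of_injective (Algebra.TensorProduct.lid k K) (Algebra.TensorProduct.lid k K).injective

/-- A reduced `k`-scheme with a dense set of `k`-rational points is geometrically reduced. -/
theorem geometricallyReduced_of_dense_rational {H : Scheme.{u}} (f : H ⟶ Spec (CommRingCat.of k))
    [IsReduced H] (Sg : Set (Spec (CommRingCat.of k) ⟶ H)) (hsec : ∀ s ∈ Sg, s ≫ f = 𝟙 _)
    (hd : Dense {x : H | ∃ s ∈ Sg, s.base (IsLocalRing.closedPoint k) = x}) :
    GeometricallyReduced f := by
  constructor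
  rw [geometrically_iff_of_commRing_of_isClosedUnderIsomorphisms]
  intro K _ _
  let 𝒰 := H.affineOpenCover
  refine @IsReduced.of_openCover _
    (Scheme.Pullback.openCoverOfLeft 𝒰.openCover f
      (Spec.map (CommRingCat.ofHom (algebraMap k K)))) (fun i => ?_)
  change IsReduced (pullback (𝒰.f i ≫ f) (Spec.map (CommRingCat.ofHom (algebraMap k K))))
  obtain ⟨φ, hφ⟩ := Spec.map_surjective (𝒰.f i ≫ f)
  have hoi : IsOpenImmersion (𝒰.f i) := 𝒰.map_prop i
  have hred := isReduced_tensor_of_dense f Sg hsec hd (𝒰.X i) (𝒰.f i) φ hφ K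
  let := φ.hom.toAlgebra
  have hφ' : Spec.map (CommRingCat.ofHom (algebraMap k (𝒰.X i))) = 𝒰.f i ≫ f := hφ
  rw [← hφ']
  have hS : IsReduced (Spec (CommRingCat.of ((𝒰.X i) ⊗[k] K))) := by
    rw [affine_isReduced_iff]
    exact hred
  exact isReduced_of_isOpenImmersion (pullbackSpecIso k (𝒰.X i) K).hom

end Groth.Agent.Lib.Helper41.RatPointsDense
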