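import Groth.Agent.Lib.Helper41.ProductReduced

/-!
# Schematic density of test points after base change over a field (helper41)

* `eq_zero_of_forall_map_eq_zero` : if `φ i : A → B i` are jointly injective `k`-algebra maps (`k` a
  field) then so are `φ i ⊗ id : A ⊗[k] K → B i ⊗[k] K`.
* `chartRing`, `chartIso`, `chartMap` : the affine charts `Spec (A ⊗[k] R)` of a product over `k`.
* `isIso_snd_of_tests` : a closed immersion into an affine scheme through which a jointly injective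
  family of affine test maps factors is an isomorphism.
-/

set_option autoImplicit false
universe u
open CategoryTheory CategoryTheory.Limits AlgebraicGeometry TensorProduct

namespace Groth.Agent.Lib.Helper41.SchematicDensity

theorem eq_zero_of_forall_map_eq_zero {k K A : Type u} [Field k] [CommRing K]
    [Algebra k K] [CommRing A] [Algebra k A] {ι : Type*} (B : ι → Type u) [∀ i, CommRing (B i)]
    [∀ i, Algebra k (B i)] (φ : ∀ i, A →ₐ[k] B i)
    (hφ : ∀ a : A, (∀ i, φ i a = 0) → a = 0) (t : A ⊗[k] K)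
    (h0 : ∀ i, Algebra.TensorProduct.map (φ i) (AlgHom.id k K) t = 0) : t = 0 := by
  let b := Module.Free.chooseBasis k K
  apply (Algebra.TensorProduct.basis A b).repr.injective
  ext j
  rw [map_zero, Finsupp.zero_apply]
  apply hφ
  intro i
  have h1 := Groth.Agent.Lib.Helper50.basis_repr_map_apply b (φ i) t j
  rw [← h1]
  have h2 : ∀ s : A ⊗[k] K, TensorProduct.map (φ i).toLinearMap LinearMap.id s =
      Algebra.TensorProduct.map (φ i) (AlgHom.id k K) s := by
    intro s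
    induction s using TensorProduct.induction_on with
    | zero => simp
    | tmul a m => simp
    | add x y hx hy => simp only [map_add, hx, hy]
  rw [h2, h0 i, map_zero, Finsupp.zero_apply]

variable {k : Type u} [Field k]

/-- the coordinate ring `A ⊗[k] R` of a chart of a product -/
noncomputable def chartRing {A R : CommRingCat.{u}} (φA : CommRingCat.of k ⟶ A)
    (φR : CommRingCat.of k ⟶ R) : CommRingCat.{u} :=
  letI := φA.hom.toAlgebra
  letI := φR.hom.toAlgebra
  CommRingCat.of (A ⊗[k] R)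

noncomputable def chartIso {A R : CommRingCat.{u}} (φA : CommRingCat.of k ⟶ A)
    (φR : CommRingCat.of k ⟶ R) :
    pullback (Spec.map φA) (Spec.map φR) ≅ Spec (chartRing φA φR) :=
  letI := φA.hom.toAlgebra
  letI := φR.hom.toAlgebra
  pullbackSpecIso k A R

noncomputable def inclL {A R : CommRingCat.{u}} (φA : CommRingCat.of k ⟶ A)
    (φR : CommRingCat.of k ⟶ R) : A ⟶ chartRing φA φR :=
  letI := φA.hom.toAlgebra
  letI := φR.hom.toAlgebra
  CommRingCat.ofHom (Algebra.TensorProduct.includeLeftRingHom (R := k) (A := A) (B := R))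

noncomputable def inclR {A R : CommRingCat.{u}} (φA : CommRingCat.of k ⟶ A)
    (φR : CommRingCat.of k ⟶ R) : R ⟶ chartRing φA φR :=
  letI := φA.hom.toAlgebra
  letI := φR.hom.toAlgebra
  CommRingCat.ofHom ((Algebra.TensorProduct.includeRight (R := k) (A := A) (B := R)).toRingHom)

@[reassoc]
theorem chartIso_inv_fst {A R : CommRingCat.{u}} (φA : CommRingCat.of k ⟶ A)
    (φR : CommRingCat.of k ⟶ R) :
    (chartIso φA φR).inv ≫ pullback.fst _ _ = Spec.map (inclL φA φR) := by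
  let := φA.hom.toAlgebra
  let := φR.hom.toAlgebra
  exact pullbackSpecIso_inv_fst k A R

@[reassoc]
theorem chartIso_inv_snd {A R : CommRingCat.{u}} (φA : CommRingCat.of k ⟶ A)
    (φR : CommRingCat.of k ⟶ R) :
    (chartIso φA φR).inv ≫ pullback.snd _ _ = Spec.map (inclR φA φR) := by
  let := φA.hom.toAlgebra
  let := φR.hom.toAlgebra
  exact pullbackSpecIso_inv_snd k A R

/-- functoriality of charts in the first variable -/
noncomputable def chartMap {A B R : CommRingCat.{u}} (φA : CommRingCat.of k ⟶ A)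
    (φB : CommRingCat.of k ⟶ B) (φR : CommRingCat.of k ⟶ R) (χ : A ⟶ B) (hχ : φA ≫ χ = φB) :
    chartRing φA φR ⟶ chartRing φB φR :=
  letI := φA.hom.toAlgebra
  letI := φB.hom.toAlgebra
  letI := φR.hom.toAlgebra
  CommRingCat.ofHom (Algebra.TensorProduct.map
    ({ toRingHom := χ.hom
       commutes' := fun c => by
        have := congrArg (fun g => g.hom c) hχ
        exact this } : A →ₐ[k] B) (AlgHom.id k R)).toRingHom

theorem inclL_chartMap {A B R : CommRingCat.{u}} (φA : CommRingCat.of k ⟶ A)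
    (φB : CommRingCat.of k ⟶ B) (φR : CommRingCat.of k ⟶ R) (χ : A ⟶ B) (hχ : φA ≫ χ = φB) :
    inclL φA φR ≫ chartMap φA φB φR χ hχ = χ ≫ inclL φB φR := by
  let := φA.hom.toAlgebra
  let := φB.hom.toAlgebra
  let := φR.hom.toAlgebra
  ext a
  change (Algebra.TensorProduct.map _ (AlgHom.id k R)) (a ⊗ₜ[k] (1 : R)) = χ.hom a ⊗ₜ[k] (1 : R)
  rw [Algebra.TensorProduct.map_tmul]
  rfl

theorem inclR_chartMap {A B R : CommRingCat.{u}} (φA : CommRingCat.of k ⟶ A)
    (φB : CommRingCat.of k ⟶ B) (φR : CommRingCat.of k ⟶ R) (χ : A ⟶ B) (hχ : φA ≫ χ = φB) :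
    inclR φA φR ≫ chartMap φA φB φR χ hχ = inclR φB φR := by
  let := φA.hom.toAlgebra
  let := φB.hom.toAlgebra
  let := φR.hom.toAlgebra
  ext a
  change (Algebra.TensorProduct.map _ (AlgHom.id k R)) ((1 : A) ⊗ₜ[k] a) = (1 : B) ⊗ₜ[k] a
  rw [Algebra.TensorProduct.map_tmul, map_one]
  rfl

/-- joint injectivity passes to charts -/
theorem chartMap_jointly_injective {A R : CommRingCat.{u}} (φA : CommRingCat.of k ⟶ A)
    (φR : CommRingCat.of k ⟶ R) {ι : Type*} (B : ι → CommRingCat.{u})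
    (φB : ∀ t, CommRingCat.of k ⟶ B t) (χ : ∀ t, A ⟶ B t) (hχ : ∀ t, φA ≫ χ t = φB t)
    (hinj : ∀ a : A, (∀ t, (χ t).hom a = 0) → a = 0) (s : chartRing φA φR)
    (hs : ∀ t, (chartMap φA (φB t) φR (χ t) (hχ t)).hom s = 0) : s = 0 := by
  let := φA.hom.toAlgebra
  let algB : ∀ t, Algebra k (B t) := fun t => (φB t).hom.toAlgebra
  let := φR.hom.toAlgebra
  let ψ : ∀ t, A →ₐ[k] B t := fun t =>
    { toRingHom := (χ t).hom
      commutes' := fun c => by
        have := congrArg (fun g => g.hom c) (hχ t)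
        exact this }
  exact eq_zero_of_forall_map_eq_zero (fun t => B t) ψ hinj s hs

/-- A closed immersion `ζ`, base changed to an affine chart `u : V ⟶ Y` (`V ≅ Spec C`), is an
isomorphism if a jointly injective family of affine test maps into the chart factors through `ζ`. -/
theorem isIso_snd_of_tests {Y Z V : Scheme.{u}} (ζ : Z ⟶ Y) [IsClosedImmersion ζ]
    (u : V ⟶ Y) {C : CommRingCat.{u}} (e : V ≅ Spec C) {ι : Type*} (Ct : ι → CommRingCat.{u})
    (θ : ∀ t, C ⟶ Ct t) (hθ : ∀ s : C, (∀ t, (θ t).hom s = 0) → s = 0)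
    (hfac : ∀ t, ∃ ρ : Spec (Ct t) ⟶ Z, ρ ≫ ζ = Spec.map (θ t) ≫ e.inv ≫ u) :
    IsIso (pullback.snd ζ u) := by
  have hVaff : IsAffine V := .of_isIso e.hom
  apply IsClosedImmersion.isIso_of_injective_of_isAffine
  rw [injective_iff_map_eq_zero]
  intro s hs
  have hs'' : (Scheme.ΓSpecIso C).hom.hom (e.inv.appTop.hom s) = 0 := by
    apply hθ
    intro t
    obtain ⟨ρ, hρ⟩ := hfac t
    let lam : Spec (Ct t) ⟶ pullback ζ u := pullback.lift ρ (Spec.map (θ t) ≫ e.inv)
      (by rw [hρ, Category.assoc])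
    have hlam : lam ≫ pullback.snd ζ u = Spec.map (θ t) ≫ e.inv := pullback.lift_snd _ _ _
    have h1 : (Spec.map (θ t)).appTop.hom (e.inv.appTop.hom s) = 0 := by
      have h0 : (Spec.map (θ t) ≫ e.inv).appTop.hom s = 0 := by
        rw [← hlam, Scheme.Hom.comp_appTop]
        change lam.appTop.hom ((pullback.snd ζ u).appTop.hom s) = 0
        rw [hs, map_zero]
      rw [Scheme.Hom.comp_appTop] at h0
      exact h0
    have h2 := congrArg (fun g => g.hom (e.inv.appTop.hom s)) (Scheme.ΓSpecIso_naturality (θ t))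
    change (Scheme.ΓSpecIso (Ct t)).hom.hom ((Spec.map (θ t)).appTop.hom (e.inv.appTop.hom s)) =
      (θ t).hom ((Scheme.ΓSpecIso C).hom.hom (e.inv.appTop.hom s)) at h2
    rw [← h2, h1, map_zero]
  have hinj : Function.Injective (Scheme.ΓSpecIso C).hom.hom :=
    (ConcreteCategory.bijective_of_isIso (Scheme.ΓSpecIso C).hom).injective
  have hiso2 : IsIso e.inv.appTop := by
    change IsIso (e.inv.app ⊤)
    infer_instance
  have hinj2 : Function.Injective e.inv.appTop.hom :=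
    (ConcreteCategory.bijective_of_isIso e.inv.appTop).injective
  apply hinj2
  apply hinj
  rw [hs'', map_zero, map_zero]

open MonoidalCategory CartesianMonoidalCategory in
/-- **Schematic density after base change.** `Γ` a reduced `k`-scheme, `S'` any `k`-scheme, `ζ` a
closed immersion into `Γ ⊗ S'`.  If, for a dense set of points `γ` of `Γ`, there is a test morphism
`a' : T ⟶ Γ` hitting `γ` such that for all `s : T' ⟶ T` the morphism `(s ≫ a') ▷ S'` factors through
`ζ`, then `ζ` is an isomorphism. -/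
theorem isIso_of_dense_tests {Γ S' : Over (Spec (CommRingCat.of k))} [IsReduced Γ.left]
    {Z : Scheme.{u}} (ζ : Z ⟶ (Γ ⊗ S').left) [IsClosedImmersion ζ]
    (D : Set Γ.left) (hD : Dense D)
    (H : ∀ γ ∈ D, ∃ (T : Over (Spec (CommRingCat.of k))) (a' : T ⟶ Γ) (t : T.left),
      a'.left.base t = γ ∧ ∀ (T' : Over (Spec (CommRingCat.of k))) (s : T' ⟶ T),
        ∃ ρ : (T' ⊗ S').left ⟶ Z, ρ ≫ ζ = ((s ≫ a') ▷ S').left) :
    IsIso ζ := by
  let 𝒰Γ := Γ.left.affineOpenCover
  let 𝒰S := S'.left.affineOpenCover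
  let 𝒰 := Scheme.Pullback.openCoverOfLeftRight 𝒰Γ.openCover 𝒰S.openCover Γ.hom S'.hom
  change (MorphismProperty.isomorphisms Scheme) ζ
  rw [IsZariskiLocalAtTarget.iff_of_openCover (P := .isomorphisms Scheme) 𝒰]
  rintro ⟨m, n⟩
  change IsIso (pullback.snd ζ (𝒰.f (m, n)))
  let jA : Spec (𝒰Γ.X m) ⟶ Γ.left := 𝒰Γ.f m
  let jR : Spec (𝒰S.X n) ⟶ S'.left := 𝒰S.f n
  have hjA : IsOpenImmersion jA := 𝒰Γ.map_prop m
  obtain ⟨φA, hφA⟩ := Spec.map_surjective (jA ≫ Γ.hom)
  obtain ⟨φR, hφR⟩ := Spec.map_surjective (jR ≫ S'.hom)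
  let u : pullback (jA ≫ Γ.hom) (jR ≫ S'.hom) ⟶ pullback Γ.hom S'.hom := 𝒰.f (m, n)
  have hu1 : u ≫ pullback.fst Γ.hom S'.hom = pullback.fst _ _ ≫ jA := pullback.lift_fst _ _ _
  have hu2 : u ≫ pullback.snd Γ.hom S'.hom = pullback.snd _ _ ≫ jR := pullback.lift_snd _ _ _
  let e' : pullback (jA ≫ Γ.hom) (jR ≫ S'.hom) ≅ Spec (chartRing φA φR) :=
    pullback.congrHom hφA.symm hφR.symm ≪≫ chartIso φA φR
  have he'1 : e'.inv ≫ pullback.fst _ _ = Spec.map (inclL φA φR) := by
    change ((chartIso φA φR).inv ≫ (pullback.congrHom hφA.symm hφR.symm).inv) ≫ _ = _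
    rw [pullback.congrHom_inv, Category.assoc, pullback.lift_fst, Category.comp_id, chartIso_inv_fst]
  have he'2 : e'.inv ≫ pullback.snd _ _ = Spec.map (inclR φA φR) := by
    change ((chartIso φA φR).inv ≫ (pullback.congrHom hφA.symm hφR.symm).inv) ≫ _ = _
    rw [pullback.congrHom_inv, Category.assoc, pullback.lift_snd, Category.comp_id, chartIso_inv_snd]
  have hRred : _root_.IsReduced (𝒰Γ.X m) := by
    have : IsReduced (Spec (𝒰Γ.X m)) := isReduced_of_isOpenImmersion jA
    exact (affine_isReduced_iff _).mp this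
  -- the tests
  let J := {γ : Γ.left // γ ∈ D ∧ γ ∈ Set.range jA.base}
  choose T a' t hat Hfac using H
  let TL : J → Over (Spec (CommRingCat.of k)) := fun γ =>
    Over.mk ((T γ.1 γ.2.1).left.fromSpecResidueField (t γ.1 γ.2.1) ≫ (T γ.1 γ.2.1).hom)
  let st : ∀ γ : J, TL γ ⟶ T γ.1 γ.2.1 := fun γ =>
    Over.homMk ((T γ.1 γ.2.1).left.fromSpecResidueField (t γ.1 γ.2.1)) rfl
  let b : ∀ γ : J, TL γ ⟶ Γ := fun γ => st γ ≫ a' γ.1 γ.2.1
  have hb : ∀ (γ : J) (c : (TL γ).left), (b γ).left.base c = γ.1 := by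
    intro γ c
    change (a' γ.1 γ.2.1).left.base (((T γ.1 γ.2.1).left.fromSpecResidueField (t γ.1 γ.2.1)).base c)
      = γ.1
    rw [Scheme.fromSpecResidueField_apply, hat]
  have hbr : ∀ γ : J, Set.range (b γ).left.base ⊆ Set.range jA.base := by
    rintro γ _ ⟨c, rfl⟩
    rw [hb]
    exact γ.2.2
  let b₀ : ∀ γ : J, (TL γ).left ⟶ Spec (𝒰Γ.X m) := fun γ =>
    IsOpenImmersion.lift jA (b γ).left (hbr γ)
  have hb₀ : ∀ γ : J, b₀ γ ≫ jA = (b γ).left := fun γ => IsOpenImmersion.lift_fac _ _ _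
  let LL : J → CommRingCat.{u} := fun γ => (T γ.1 γ.2.1).left.residueField (t γ.1 γ.2.1)
  let χ : ∀ γ : J, 𝒰Γ.X m ⟶ LL γ := fun γ => Spec.preimage (b₀ γ)
  have hχ : ∀ γ : J, Spec.map (χ γ) = b₀ γ := fun γ => Spec.map_preimage _
  let φL : ∀ γ : J, CommRingCat.of k ⟶ LL γ := fun γ => φA ≫ χ γ
  have hφL : ∀ γ : J, Spec.map (φL γ) = (TL γ).hom := by
    intro γ
    change Spec.map (φA ≫ χ γ) = _
    rw [Spec.map_comp, hχ, hφA, ← Category.assoc, hb₀]
    exact Over.w (b γ)
  -- joint injectivity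
  have hinj : ∀ a : 𝒰Γ.X m, (∀ γ : J, (χ γ).hom a = 0) → a = 0 := by
    intro a ha
    by_contra ha0
    have hnil : ¬ IsNilpotent a := fun h => ha0 (hRred.eq_zero a h)
    have hne : (PrimeSpectrum.basicOpen a : Set (PrimeSpectrum (𝒰Γ.X m))).Nonempty := by
      by_contra hempty
      rw [Set.not_nonempty_iff_eq_empty] at hempty
      apply hnil
      rw [← PrimeSpectrum.basicOpen_eq_bot_iff]
      exact TopologicalSpace.Opens.ext hempty
    obtain ⟨p, hp⟩ := hne
    have hopen : IsOpen (jA.base '' (PrimeSpectrum.basicOpen a : Set (PrimeSpectrum (𝒰Γ.X m)))) :=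
      jA.isOpenEmbedding.isOpenMap _ (PrimeSpectrum.basicOpen a).isOpen
    obtain ⟨x, hx1, hx2⟩ := hD.inter_open_nonempty _ hopen ⟨_, p, hp, rfl⟩
    obtain ⟨p', hp', hp'x⟩ := hx1
    let γ : J := ⟨x, hx2, p', hp'x⟩
    let c : (TL γ).left := (IsLocalRing.closedPoint (LL γ) : PrimeSpectrum (LL γ))
    have h1 : (Spec.map (χ γ)).base c = p' := by
      apply jA.isOpenEmbedding.injective
      rw [hχ]
      change (b₀ γ ≫ jA).base c = _
      rw [hb₀, hb, hp'x]
    have h2 : a ∈ p'.asIdeal := by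
      rw [← h1]
      change a ∈ (c.asIdeal).comap (χ γ).hom
      rw [Ideal.mem_comap, ha γ]
      exact Ideal.zero_mem _
    exact hp' h2
  refine isIso_snd_of_tests ζ u e' (fun γ : J => chartRing (φL γ) φR)
    (fun γ => chartMap φA (φL γ) φR (χ γ) rfl)
    (fun s hs => chartMap_jointly_injective φA φR LL φL χ (fun _ => rfl) hinj s hs) ?_
  intro γ
  obtain ⟨ρ₀, hρ₀⟩ := Hfac γ.1 γ.2.1 (TL γ) (st γ)
  let τ' : Spec (chartRing (φL γ) φR) ⟶ pullback (TL γ).hom S'.hom :=
    (chartIso (φL γ) φR).inv ≫ pullback.map (Spec.map (φL γ)) (Spec.map φR) (TL γ).hom S'.hom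
      (𝟙 _) jR (𝟙 _) (by rw [hφL, Category.id_comp, Category.comp_id])
      (by rw [hφR, Category.comp_id])
  have hτ1 : τ' ≫ pullback.fst (TL γ).hom S'.hom = Spec.map (inclL (φL γ) φR) := by
    have h := pullback.lift_fst (f := (TL γ).hom) (g := S'.hom)
      (pullback.fst (Spec.map (φL γ)) (Spec.map φR) ≫ 𝟙 _)
      (pullback.snd (Spec.map (φL γ)) (Spec.map φR) ≫ jR)
      (by rw [Category.comp_id, ← hφL, Category.assoc, ← hφR]; exact pullback.condition)
    calc τ' ≫ pullback.fst (TL γ).hom S'.hom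
        = (chartIso (φL γ) φR).inv ≫ (pullback.fst (Spec.map (φL γ)) (Spec.map φR) ≫ 𝟙 _) := by
          rw [← h]; exact Category.assoc _ _ _
      _ = _ := by rw [Category.comp_id, chartIso_inv_fst]
  have hτ2 : τ' ≫ pullback.snd (TL γ).hom S'.hom = Spec.map (inclR (φL γ) φR) ≫ jR := by
    have h := pullback.lift_snd (f := (TL γ).hom) (g := S'.hom)
      (pullback.fst (Spec.map (φL γ)) (Spec.map φR) ≫ 𝟙 _)
      (pullback.snd (Spec.map (φL γ)) (Spec.map φR) ≫ jR)
      (by rw [Category.comp_id, ← hφL, Category.assoc, ← hφR]; exact pullback.condition)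
    calc τ' ≫ pullback.snd (TL γ).hom S'.hom
        = (chartIso (φL γ) φR).inv ≫ (pullback.snd (Spec.map (φL γ)) (Spec.map φR) ≫ jR) := by
          rw [← h]; exact Category.assoc _ _ _
      _ = _ := by rw [← Category.assoc, chartIso_inv_snd]
  have hR1 : (e'.inv ≫ u) ≫ pullback.fst Γ.hom S'.hom = Spec.map (inclL φA φR) ≫ jA := by
    rw [Category.assoc, hu1, ← Category.assoc, he'1]
  have hR2 : (e'.inv ≫ u) ≫ pullback.snd Γ.hom S'.hom = Spec.map (inclR φA φR) ≫ jR := by
    rw [Category.assoc, hu2, ← Category.assoc, he'2]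
  refine ⟨τ' ≫ ρ₀, ?_⟩
  rw [Category.assoc, hρ₀]
  change τ' ≫ ((b γ) ▷ S').left = Spec.map (chartMap φA (φL γ) φR (χ γ) rfl) ≫ (e'.inv ≫ u)
  apply pullback.hom_ext
  · calc (τ' ≫ ((b γ) ▷ S').left) ≫ pullback.fst Γ.hom S'.hom
        = (τ' ≫ pullback.fst (TL γ).hom S'.hom) ≫ (b γ).left := by
          rw [Category.assoc, Over.whiskerRight_left_fst]
          exact (Category.assoc _ _ _).symm
      _ = Spec.map (inclL (φL γ) φR) ≫ Spec.map (χ γ) ≫ jA := by
          rw [hτ1, ← hb₀, hχ]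
      _ = Spec.map (chartMap φA (φL γ) φR (χ γ) rfl) ≫ Spec.map (inclL φA φR) ≫ jA := by
          rw [← Spec.map_comp_assoc, ← Spec.map_comp_assoc, inclL_chartMap]
      _ = _ := by rw [← hR1]; simp only [Category.assoc]
  · calc (τ' ≫ ((b γ) ▷ S').left) ≫ pullback.snd Γ.hom S'.hom
        = τ' ≫ pullback.snd (TL γ).hom S'.hom := by
          rw [Category.assoc, Over.whiskerRight_left_snd]
      _ = Spec.map (inclR (φL γ) φR) ≫ jR := hτ2
      _ = Spec.map (chartMap φA (φL γ) φR (χ γ) rfl) ≫ Spec.map (inclR φA φR) ≫ jR := by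
          rw [← Spec.map_comp_assoc, inclR_chartMap]
      _ = _ := by rw [← hR2]; simp only [Category.assoc]

end Groth.Agent.Lib.Helper41.SchematicDensity
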