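import Mathlib
import Groth.Prelude.Def_SGA7a
import Groth.Agent.Lib.Helper24.SeparablePoints

/-!
# Points of smooth schemes over a field with values in a separably closed extension (helper41)

* `exists_algHom_of_smooth` : a nonzero smooth `k`-algebra `A` has a `k`-algebra map to every
  separably closed extension `K` of `k`.
* `exists_pt_of_smooth` : if `X` is smooth over `k` and `W ⊆ X` is a nonempty open, there is a
  `K`-point of `X` landing in `W` (`K` separably closed over `k`).
* `nonempty_pts_of_smooth` : a nonempty smooth `k`-scheme has a `K`-point.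
* `surjective_of_pts_factor` : a closed immersion `Y → X` through which all `K`-points factor is
  surjective when the smooth locus of `X` over `k` is dense.
* `exists_iso_of_pts_eq` : two closed subschemes `Z, Z'` of `X`, reduced with dense smooth loci,
  having the same `K`-points are equal.
-/

set_option autoImplicit false
universe u
open CategoryTheory Limits AlgebraicGeometry

namespace Groth.Agent.Lib.Helper41.SepPoints

/-- A nonzero smooth algebra over a field admits an algebra map to any separably closed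
extension. -/
theorem exists_algHom_of_smooth (k K : Type u) [Field k] [Field K] [Algebra k K] [IsSepClosed K]
    (A : Type u) [CommRing A] [Algebra k A] [Algebra.Smooth k A] [Nontrivial A] :
    Nonempty (A →ₐ[k] K) := by
  obtain ⟨q, hq1, hq2⟩ := Groth.Agent.Lib.Helper24.exists_prime_finite_separable_of_smooth k A
  let ψ : q.asIdeal.ResidueField →ₐ[k] K := IsSepClosed.lift
  exact ⟨ψ.comp (IsScalarTower.toAlgHom k A q.asIdeal.ResidueField)⟩

/-- `K`-points of a smooth scheme over `k` (with `K` separably closed) meet every nonempty open. -/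
theorem exists_pt_of_smooth (k K : Type u) [Field k] [Field K] [Algebra k K] [IsSepClosed K]
    (X : Over (Spec (CommRingCat.of k))) [Smooth X.hom] (W : X.left.Opens)
    (hW : (W : Set X.left).Nonempty) :
    ∃ t : SGA7.Pts K X, ∀ a, t.left a ∈ W := by
  obtain ⟨x, hx⟩ := hW
  obtain ⟨U, hU, hxU, hUW⟩ :=
    (TopologicalSpace.Opens.isBasis_iff_nbhd.mp X.left.isBasis_affineOpens) hx
  replace hU : IsAffineOpen U := hU
  let φ : CommRingCat.of k ⟶ Γ(X.left, U) := Spec.preimage (hU.fromSpec ≫ X.hom)
  have hφ : Spec.map φ = hU.fromSpec ≫ X.hom := Spec.map_preimage _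
  have hsm : φ.hom.Smooth := by
    rw [← HasRingHomProperty.Spec_iff (P := @Smooth), hφ]
    infer_instance
  algebraize [φ.hom]
  have hnt : Nontrivial Γ(X.left, U) := by
    have : Nonempty U := ⟨⟨x, hxU⟩⟩
    infer_instance
  obtain ⟨χ⟩ := exists_algHom_of_smooth k K Γ(X.left, U)
  have hχ : φ ≫ CommRingCat.ofHom χ.toRingHom = CommRingCat.ofHom (algebraMap k K) := by
    ext a
    exact χ.commutes a
  let tl : Spec (CommRingCat.of K) ⟶ X.left := Spec.map (CommRingCat.ofHom χ.toRingHom) ≫ hU.fromSpec
  have htl : tl ≫ X.hom = Spec.map (CommRingCat.ofHom (algebraMap k K)) := by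
    change (Spec.map (CommRingCat.ofHom χ.toRingHom) ≫ hU.fromSpec) ≫ X.hom = _
    rw [Category.assoc, ← hφ, ← Spec.map_comp]
    exact congrArg Spec.map hχ
  refine ⟨Over.homMk tl htl, fun a => hUW ?_⟩
  have h1 : tl a = hU.fromSpec (Spec.map (CommRingCat.ofHom χ.toRingHom) a) :=
    Scheme.Hom.comp_apply _ _ _
  change tl a ∈ (U : Set X.left)
  rw [h1, ← hU.range_fromSpec]
  exact ⟨_, rfl⟩

theorem nonempty_pts_of_smooth (k K : Type u) [Field k] [Field K] [Algebra k K] [IsSepClosed K]
    (X : Over (Spec (CommRingCat.of k))) [Smooth X.hom] [Nonempty X.left] :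
    Nonempty (SGA7.Pts K X) := by
  obtain ⟨t, _⟩ := exists_pt_of_smooth k K X ⊤ ⟨Classical.arbitrary _, trivial⟩
  exact ⟨t⟩

/-- A closed immersion `Y → X` through which every `K`-point of `X` factors (`K` separably closed)
is surjective, as soon as the smooth locus of `X` is dense. -/
theorem surjective_of_pts_factor (k K : Type u) [Field k] [Field K] [Algebra k K] [IsSepClosed K]
    (X Y : Over (Spec (CommRingCat.of k))) [LocallyOfFinitePresentation X.hom]
    (ι : Y ⟶ X) [IsClosedImmersion ι.left]
    (hd : Dense (X.hom.smoothLocus : Set X.left))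
    (h : ∀ x : SGA7.Pts K X, ∃ y : SGA7.Pts K Y, y ≫ ι = x) : Surjective ι.left := by
  by_contra hns
  have hcl : IsClosed (Set.range ι.left) := ι.left.isClosedEmbedding.isClosed_range
  let W : X.left.Opens := ⟨(Set.range ι.left)ᶜ, hcl.isOpen_compl⟩
  have hWne : (W : Set X.left).Nonempty := by
    by_contra hW
    apply hns
    rw [Set.not_nonempty_iff_eq_empty] at hW
    constructor
    intro x
    by_contra hx
    have hxW : x ∈ (W : Set X.left) := hx
    rw [hW] at hxW
    exact hxW
  let V : X.left.Opens := W ⊓ X.hom.smoothLocus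
  have hVne : (V : Set X.left).Nonempty := by
    obtain ⟨x, hx1, hx2⟩ := hd.inter_open_nonempty W W.2 hWne
    exact ⟨x, hx1, hx2⟩
  let XV : Over (Spec (CommRingCat.of k)) := Over.mk (V.ι ≫ X.hom)
  have hsm : Smooth (V.ι ≫ X.hom) := by
    rw [← Scheme.Hom.smoothLocus_eq_top_iff, ← Scheme.Hom.preimage_smoothLocus_eq,
      ← top_le_iff]
    rintro x -
    change V.ι x ∈ X.hom.smoothLocus
    exact x.2.2
  have : Smooth XV.hom := hsm
  obtain ⟨x0, hx0⟩ := hVne
  obtain ⟨t, -⟩ := exists_pt_of_smooth k K XV ⊤ ⟨⟨x0, hx0⟩, trivial⟩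
  let jV : XV ⟶ X := Over.homMk V.ι rfl
  obtain ⟨y, hy⟩ := h (t ≫ jV)
  let a : Spec (CommRingCat.of K) := Classical.arbitrary _
  have h1 : (t ≫ jV).left a ∈ (W : Set X.left) := by
    have e1 : (t ≫ jV).left a = V.ι (t.left a) := Scheme.Hom.comp_apply _ _ _
    rw [e1]
    exact (t.left a).2.1
  have h2 : (t ≫ jV).left a ∈ Set.range ι.left := by
    rw [← hy]
    have e2 : (y ≫ ι).left a = ι.left (y.left a) := Scheme.Hom.comp_apply _ _ _
    rw [e2]
    exact ⟨_, rfl⟩
  exact h1 h2

/-- Two closed subschemes of `X`, both reduced with dense smooth locus over `k`, which have the same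
`K`-points for a separably closed extension `K` of `k`, coincide. -/
theorem exists_iso_of_pts_eq (k K : Type u) [Field k] [Field K] [Algebra k K] [IsSepClosed K]
    (X Z Z' : Over (Spec (CommRingCat.of k)))
    [LocallyOfFinitePresentation Z.hom] [LocallyOfFinitePresentation Z'.hom]
    [IsReduced Z.left] [IsReduced Z'.left]
    (c : Z ⟶ X) [IsClosedImmersion c.left] (c' : Z' ⟶ X) [IsClosedImmersion c'.left]
    (hd : Dense (Z.hom.smoothLocus : Set Z.left))
    (hd' : Dense (Z'.hom.smoothLocus : Set Z'.left))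
    (h : ∀ x : SGA7.Pts K X,
      (∃ z : SGA7.Pts K Z, z ≫ c = x) ↔ (∃ z' : SGA7.Pts K Z', z' ≫ c' = x)) :
    ∃ e : Z ≅ Z', e.hom ≫ c' = c := by
  have hw : pullback.snd c.left c'.left ≫ Z'.hom = pullback.fst c.left c'.left ≫ Z.hom := by
    rw [← Over.w c', ← Over.w c, ← Category.assoc, ← Category.assoc, pullback.condition]
  let P : Over (Spec (CommRingCat.of k)) := Over.mk (pullback.fst c.left c'.left ≫ Z.hom)
  let p₁ : P ⟶ Z := Over.homMk (pullback.fst c.left c'.left) rfl
  let p₂ : P ⟶ Z' := Over.homMk (pullback.snd c.left c'.left) hw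
  have : IsClosedImmersion p₁.left := by
    change IsClosedImmersion (pullback.fst c.left c'.left)
    infer_instance
  have : IsClosedImmersion p₂.left := by
    change IsClosedImmersion (pullback.snd c.left c'.left)
    infer_instance
  have hcond : p₁ ≫ c = p₂ ≫ c' := by
    ext1
    exact pullback.condition
  have key : ∀ (z : SGA7.Pts K Z) (z' : SGA7.Pts K Z'), z ≫ c = z' ≫ c' →
      ∃ y : SGA7.Pts K P, y ≫ p₁ = z ∧ y ≫ p₂ = z' := by
    intro z z' hzz
    have hl : z.left ≫ c.left = z'.left ≫ c'.left := congrArg CommaMorphism.left hzz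
    refine ⟨Over.homMk (pullback.lift z.left z'.left hl) ?_, ?_, ?_⟩
    · change pullback.lift z.left z'.left hl ≫ pullback.fst c.left c'.left ≫ Z.hom = _
      rw [pullback.lift_fst_assoc]
      exact Over.w z
    · ext1
      exact pullback.lift_fst _ _ _
    · ext1
      exact pullback.lift_snd _ _ _
  have hs₁ : Surjective p₁.left := by
    apply surjective_of_pts_factor k K Z P p₁ hd
    intro z
    obtain ⟨z', hz'⟩ := (h (z ≫ c)).mp ⟨z, rfl⟩
    obtain ⟨y, hy, -⟩ := key z z' hz'.symm
    exact ⟨y, hy⟩
  have hs₂ : Surjective p₂.left := by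
    apply surjective_of_pts_factor k K Z' P p₂ hd'
    intro z'
    obtain ⟨z, hz⟩ := (h (z' ≫ c')).mpr ⟨z', rfl⟩
    obtain ⟨y, -, hy⟩ := key z z' hz
    exact ⟨y, hy⟩
  have : IsIso p₁.left := isIso_of_isClosedImmersion_of_surjective p₁.left
  have : IsIso p₂.left := isIso_of_isClosedImmersion_of_surjective p₂.left
  have hi₁ : IsIso p₁ := by
    have : IsIso ((Over.forget _).map p₁) := by
      change IsIso p₁.left
      infer_instance
    exact isIso_of_reflects_iso p₁ (Over.forget _)
  have hi₂ : IsIso p₂ := by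
    have : IsIso ((Over.forget _).map p₂) := by
      change IsIso p₂.left
      infer_instance
    exact isIso_of_reflects_iso p₂ (Over.forget _)
  refine ⟨(asIso p₁).symm ≪≫ asIso p₂, ?_⟩
  change (inv p₁ ≫ p₂) ≫ c' = c
  rw [Category.assoc, ← hcond, IsIso.inv_hom_id_assoc]

end Groth.Agent.Lib.Helper41.SepPoints
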