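import Groth.Agent.Lib.Helper41.SmallestSubgroup
import Groth.Agent.Lib.Helper41.GeomConnGroup

/-!
# The smallest closed subgroup through which a connected pointed scheme factors is connected
(helper41)

* `range_eq_of_smallest` : the underlying set of *any* smallest closed subgroup scheme through which
  `f : X ⟶ G` factors is `closure (wordSet f)`.
* `isPreconnected_closure_wordSet` : if `X` is connected with a rational point `x`, `f(x) = e`, then
  `closure (wordSet f)` is preconnected.
* `connectedSpace_of_smallest`.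
-/

set_option autoImplicit false
universe u
open CategoryTheory MonoidalCategory CartesianMonoidalCategory MonObj AlgebraicGeometry

namespace Groth.Agent.Lib.Helper41.SmallestConnected

open Groth.Agent.Lib.Helper41.WordPoints Groth.Agent.Lib.Helper41.SmallestSubgroup

variable {k : Type u} [Field k] {G X : Over (Spec (CommRingCat.of k))} [GrpObj G]

theorem range_eq_of_smallest [GeometricallyReduced X.hom] (f : X ⟶ G)
    (Γ : Over (Spec (CommRingCat.of k))) [GrpObj Γ] (i : Γ ⟶ G) [IsMonHom i]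
    [IsClosedImmersion i.left] (hf : ∃ f' : X ⟶ Γ, f' ≫ i = f)
    (hmin : ∀ (Γ' : Over (Spec (CommRingCat.of k))) (_ : GrpObj Γ') (i' : Γ' ⟶ G), IsMonHom i' →
      IsClosedImmersion i'.left → (∃ f'' : X ⟶ Γ', f'' ≫ i' = f) → ∃ j : Γ ⟶ Γ', j ≫ i' = i) :
    Set.range i.left.base = closure (wordSet f) := by
  obtain ⟨Γ₀, hΓ₀, i₀, h1, h2, h3, -, -, h6, h7⟩ := exists_smallest_subgroup k G X f
  obtain ⟨j, hj⟩ := hmin Γ₀ hΓ₀ i₀ h1 h2 h3
  obtain ⟨j₀, hj₀⟩ := h7 Γ inferInstance i inferInstance inferInstance hf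
  rw [← h6]
  apply subset_antisymm
  · rw [← hj]
    rintro _ ⟨y, rfl⟩
    exact ⟨j.left.base y, rfl⟩
  · rw [← hj₀]
    rintro _ ⟨y, rfl⟩
    exact ⟨j₀.left.base y, rfl⟩

theorem word_eq_one_of_forall (f : X ⟶ G) (x : 𝟙_ (Over (Spec (CommRingCat.of k))) ⟶ X)
    (hx : x ≫ f = η[G]) (l : List ((𝟙_ (Over (Spec (CommRingCat.of k))) ⟶ X) × Bool))
    (hl : ∀ xb ∈ l, xb.1 = x) : word f l = 1 := by
  have hη : (1 : 𝟙_ (Over (Spec (CommRingCat.of k))) ⟶ G) = η[G] := by
    rw [Hom.one_def, toUnit_unique (toUnit _) (𝟙 _), Category.id_comp]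
  induction l with
  | nil => rfl
  | cons xb l ih =>
    rw [word_cons, ih (fun y hy => hl y (List.mem_cons_of_mem _ hy))]
    have h1 : xb.1 = x := hl xb List.mem_cons_self
    unfold sgn
    by_cases hb : xb.2
    · simp only [hb, if_true, h1, hx, ← hη, _root_.mul_one]
    · simp only [hb, Bool.false_eq_true, if_false, h1, hx, ← hη, _root_.inv_one, _root_.mul_one]

theorem exists_connected_factor [GeometricallyReduced X.hom] [ConnectedSpace X.left]
    (x : 𝟙_ (Over (Spec (CommRingCat.of k))) ⟶ X)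
    {T : Over (Spec (CommRingCat.of k))} (l : List ((T ⟶ X) × Bool)) :
    ∃ (P : Over (Spec (CommRingCat.of k))) (_ : GeometricallyReduced P.hom)
      (_ : ConnectedSpace P.left) (l' : List ((P ⟶ X) × Bool)) (g : T ⟶ P)
      (c : 𝟙_ (Over (Spec (CommRingCat.of k))) ⟶ P),
      l = l'.map (fun xb => (g ≫ xb.1, xb.2)) ∧ ∀ xb ∈ l', c ≫ xb.1 = x := by
  have hsub : Subsingleton (Spec (CommRingCat.of k)) :=
    inferInstanceAs (Subsingleton (PrimeSpectrum k))
  have hXgc : GeometricallyConnected X.hom :=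
    Groth.Agent.Lib.Helper41.GeomConnGroup.geometricallyConnected_of_section X.hom x.left
      (by rw [Over.w x]; rfl)
  induction l with
  | nil =>
    refine ⟨𝟙_ _, Groth.Agent.Lib.Helper41.ProductReduced.geometricallyReduced_id, ?_, [],
      toUnit T, 𝟙 _, rfl, ?_⟩
    · change ConnectedSpace (Spec (CommRingCat.of k))
      infer_instance
    · intro xb hxb
      cases hxb
  | cons yb l ih =>
    obtain ⟨P, hP, hPc, l', g, c, hl, hc⟩ := ih
    have hXP : GeometricallyReduced (X ⊗ P).hom :=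
      Groth.Agent.Lib.Helper41.ProductReduced.geometricallyReduced_pullback_fst_comp X.hom P.hom
    have hXPc : ConnectedSpace (X ⊗ P).left := by
      change ConnectedSpace ↥(Limits.pullback X.hom P.hom)
      infer_instance
    refine ⟨X ⊗ P, hXP, hXPc, (fst X P, yb.2) :: l'.map (fun xb => (snd X P ≫ xb.1, xb.2)),
      lift yb.1 g, lift x c, ?_, ?_⟩
    · rw [List.map_cons, List.map_map, hl]
      congr 1
      · rw [lift_fst]
      · apply List.map_congr_left
        intro xb _
        simp only [Function.comp_apply, lift_snd_assoc]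
    · intro xb hxb
      rcases List.mem_cons.mp hxb with rfl | hxb
      · exact lift_fst _ _
      · obtain ⟨xb', hxb', rfl⟩ := List.mem_map.mp hxb
        change lift x c ≫ snd X P ≫ xb'.1 = x
        rw [lift_snd_assoc]
        exact hc xb' hxb'

theorem isPreconnected_closure_wordSet [GeometricallyReduced X.hom] [ConnectedSpace X.left]
    (f : X ⟶ G) (x : 𝟙_ (Over (Spec (CommRingCat.of k))) ⟶ X) (hx : x ≫ f = η[G]) :
    _root_.IsPreconnected (closure (wordSet f)) := by
  apply IsPreconnected.closure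
  let pt : (𝟙_ (Over (Spec (CommRingCat.of k)))).left :=
    (IsLocalRing.closedPoint k : PrimeSpectrum k)
  let e₀ : G.left := η[G].left.base pt
  have key : ∀ p ∈ wordSet f, ∃ C : Set G.left, C ⊆ wordSet f ∧ e₀ ∈ C ∧ p ∈ C ∧
      _root_.IsPreconnected C := by
    rintro p ⟨T, hT, l, t, rfl⟩
    obtain ⟨P, hP, hPc, l', g, c, hl, hc⟩ := exists_connected_factor x l
    refine ⟨Set.range (word f l').left.base, ?_, ?_, ?_, ?_⟩
    · rintro _ ⟨t', rfl⟩
      exact ⟨P, hP, l', t', rfl⟩
    · refine ⟨c.left.base pt, ?_⟩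
      change (c ≫ word f l').left.base pt = e₀
      rw [comp_word, word_eq_one_of_forall f x hx]
      · rw [Hom.one_def, toUnit_unique (toUnit _) (𝟙 _), Category.id_comp]
      · intro xb hxb
        obtain ⟨xb', hxb', rfl⟩ := List.mem_map.mp hxb
        exact hc xb' hxb'
    · refine ⟨g.left.base t, ?_⟩
      change (g ≫ word f l').left.base t = _
      rw [comp_word, ← hl]
    · exact (isPreconnected_range (word f l').left.base.hom.continuous)
  choose C hC1 hC2 hC3 hC4 using key
  have hU : wordSet f = ⋃ p : {p // p ∈ wordSet f}, C p.1 p.2 := by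
    apply subset_antisymm
    · intro p hp
      exact Set.mem_iUnion.mpr ⟨⟨p, hp⟩, hC3 p hp⟩
    · exact Set.iUnion_subset fun p => hC1 p.1 p.2
  rw [hU]
  refine isPreconnected_iUnion ⟨e₀, Set.mem_iInter.mpr fun p => hC2 p.1 p.2⟩
    (fun p => hC4 p.1 p.2)

theorem connectedSpace_of_smallest [GeometricallyReduced X.hom] [ConnectedSpace X.left]
    (x : 𝟙_ (Over (Spec (CommRingCat.of k))) ⟶ X) (f : X ⟶ G) (hx : x ≫ f = η[G])
    (Γ : Over (Spec (CommRingCat.of k))) [GrpObj Γ] (i : Γ ⟶ G) [IsMonHom i]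
    [IsClosedImmersion i.left] (hf : ∃ f' : X ⟶ Γ, f' ≫ i = f)
    (hmin : ∀ (Γ' : Over (Spec (CommRingCat.of k))) (_ : GrpObj Γ') (i' : Γ' ⟶ G), IsMonHom i' →
      IsClosedImmersion i'.left → (∃ f'' : X ⟶ Γ', f'' ≫ i' = f) → ∃ j : Γ ⟶ Γ', j ≫ i' = i) :
    ConnectedSpace Γ.left := by
  have hr := range_eq_of_smallest f Γ i hf hmin
  have hpc := isPreconnected_closure_wordSet f x hx
  rw [← hr, ← Set.image_univ] at hpc
  have hpc' : _root_.IsPreconnected (Set.univ : Set Γ.left) :=
    (i.left.isClosedEmbedding.toIsEmbedding.toIsInducing.isPreconnected_image).mp hpc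
  have hne : Nonempty Γ.left := ⟨η[Γ].left.base (IsLocalRing.closedPoint k : PrimeSpectrum k)⟩
  exact { toPreconnectedSpace := ⟨hpc'⟩, toNonempty := hne }

end Groth.Agent.Lib.Helper41.SmallestConnected
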