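import Mathlib

/-!
# Splitting all primes of `B ⊗[A] C` by a finite free local extension (helper41)

`A` local artinian, `C` a finite free `A`-algebra.  There is a finite free local `A`-algebra `B`
such that every prime of `B ⊗[A] C` is the kernel of `B ⊗[A] C → B → B/𝔪` for some `A`-algebra
map `h : C → B` (`exists_split`).
-/

set_option autoImplicit false
universe u
open TensorProduct

namespace Groth.Agent.Lib.Helper41.SplitPrimes

section defs

variable (A : Type u) [CommRing A] (C : Type u) [CommRing C] [Algebra A C]
variable (B : Type u) [CommRing B] [Algebra A B]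

/-- The evaluation map `B ⊗[A] C → B` attached to `h : C → B`. -/
noncomputable def ev (h : C →ₐ[A] B) : B ⊗[A] C →ₐ[B] B :=
  Algebra.TensorProduct.lift (AlgHom.id B B) h (fun _ _ => Commute.all _ _)

@[simp] lemma ev_tmul (h : C →ₐ[A] B) (b : B) (c : C) : ev A C B h (b ⊗ₜ c) = b * h c := by
  simp [ev]

variable [IsLocalRing B]

/-- The prime of `B ⊗[A] C` attached to `h : C → B`. -/
noncomputable def splitPrime (h : C →ₐ[A] B) : PrimeSpectrum (B ⊗[A] C) :=
  ⟨(IsLocalRing.maximalIdeal B).comap (ev A C B h).toRingHom, Ideal.comap_isPrime _ _⟩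

/-- The set of split primes. -/
def Split : Set (PrimeSpectrum (B ⊗[A] C)) := Set.range (splitPrime A C B)

end defs

section bound

variable (A : Type u) [CommRing A] (C : Type u) [CommRing C] [Algebra A C]
  [Module.Free A C] [Module.Finite A C]
variable (B : Type u) [CommRing B] [Algebra A B] [IsLocalRing B]

/-- The prime attached to a map into the residue field. -/
noncomputable def resPrime (θ : C →ₐ[A] IsLocalRing.ResidueField B) : PrimeSpectrum (B ⊗[A] C) :=
  ⟨RingHom.ker (Algebra.TensorProduct.lift (Algebra.ofId B (IsLocalRing.ResidueField B)) θ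
    (fun _ _ => Commute.all _ _)).toRingHom, RingHom.ker_isPrime _⟩

lemma splitPrime_eq_resPrime (h : C →ₐ[A] B) :
    splitPrime A C B h =
      resPrime A C B ((IsScalarTower.toAlgHom A B (IsLocalRing.ResidueField B)).comp h) := by
  apply PrimeSpectrum.ext
  ext x
  show ev A C B h x ∈ IsLocalRing.maximalIdeal B ↔ _ = 0
  rw [← IsLocalRing.residue_eq_zero_iff]
  have key : ∀ x : B ⊗[A] C, IsLocalRing.residue B (ev A C B h x) =
      (Algebra.TensorProduct.lift (Algebra.ofId B (IsLocalRing.ResidueField B))
        ((IsScalarTower.toAlgHom A B (IsLocalRing.ResidueField B)).comp h)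
        (fun _ _ => Commute.all _ _)) x := by
    intro x
    induction x using TensorProduct.induction_on with
    | zero => simp
    | tmul b c =>
      simp only [ev_tmul, map_mul, Algebra.TensorProduct.lift_tmul, AlgHom.comp_apply]
      rfl
    | add x y hx hy => simp only [map_add, hx, hy]
  rw [key]
  rfl

lemma ncard_split_le [Finite (PrimeSpectrum (B ⊗[A] C))] :
    (Split A C B).ncard ≤ Module.finrank A C := by
  have h1 : Split A C B ⊆ Set.range (resPrime A C B) := by
    rintro _ ⟨h, rfl⟩
    exact ⟨_, (splitPrime_eq_resPrime A C B h).symm⟩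
  have hfin : Finite (C →ₐ[A] IsLocalRing.ResidueField B) := Finite.algHom A C _
  calc (Split A C B).ncard ≤ (Set.range (resPrime A C B)).ncard :=
        Set.ncard_le_ncard h1 (Set.toFinite _)
    _ ≤ Nat.card (C →ₐ[A] IsLocalRing.ResidueField B) := by
        rw [← Set.image_univ]
        exact (Set.ncard_image_le (Set.toFinite _)).trans (by rw [Set.ncard_univ])
    _ ≤ Module.finrank A C := card_algHom_le_finrank A C _

end bound

section step

variable (A : Type u) [CommRing A] [IsArtinianRing A] [IsLocalRing A]
  (C : Type u) [CommRing C] [Algebra A C] [Module.Free A C] [Module.Finite A C]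
variable (B : Type u) [CommRing B] [Algebra A B] [IsLocalRing B] [Module.Finite A B]
  [Module.Free A B]

instance : IsArtinianRing (B ⊗[A] C) := IsArtinianRing.of_finite A _

omit [IsArtinianRing A] [IsLocalRing A] [Module.Free A C] [Module.Finite A C] [Module.Finite A B]
  [Module.Free A B] in
lemma comap_maximalIdeal_eq [IsArtinianRing B] {B₁ : Type u} [CommRing B₁] [IsLocalRing B₁]
    (ι : B →+* B₁) :
    (IsLocalRing.maximalIdeal B₁).comap ι = IsLocalRing.maximalIdeal B := by
  have h1 : ((IsLocalRing.maximalIdeal B₁).comap ι).IsPrime := Ideal.comap_isPrime _ _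
  have h2 : ((IsLocalRing.maximalIdeal B₁).comap ι).IsMaximal :=
    IsArtinianRing.isMaximal_of_isPrime _
  exact IsLocalRing.eq_maximalIdeal h2

variable (P : PrimeSpectrum (B ⊗[A] C))

/-- The next ring in the iteration. -/
abbrev Next : Type u := Localization.AtPrime P.asIdeal

lemma next_surjective : Function.Surjective (algebraMap (B ⊗[A] C) (Next A C B P)) :=
  IsArtinianRing.localization_surjective P.asIdeal.primeCompl _

instance : Module.Finite A (Next A C B P) :=
  Module.Finite.of_surjective (IsScalarTower.toAlgHom A (B ⊗[A] C) (Next A C B P)).toLinearMap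
    (next_surjective A C B P)

instance : Module.Free A (Next A C B P) := by
  have : Module.Flat A (Next A C B P) := Module.Flat.trans A (B ⊗[A] C) _
  exact Module.free_of_flat_of_isLocalRing

/-- `B → Next`. -/
noncomputable def toNext : B →ₐ[A] Next A C B P :=
  (IsScalarTower.toAlgHom A (B ⊗[A] C) (Next A C B P)).comp Algebra.TensorProduct.includeLeft

/-- `C → Next`. -/
noncomputable def newHom : C →ₐ[A] Next A C B P :=
  (IsScalarTower.toAlgHom A (B ⊗[A] C) (Next A C B P)).comp Algebra.TensorProduct.includeRight

/-- `B ⊗ C → Next ⊗ C`. -/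
noncomputable def tensNext : B ⊗[A] C →ₐ[A] Next A C B P ⊗[A] C :=
  Algebra.TensorProduct.map (toNext A C B P) (AlgHom.id A C)

lemma comap_split_old (h : C →ₐ[A] B) :
    PrimeSpectrum.comap (tensNext A C B P).toRingHom
      (splitPrime A C (Next A C B P) ((toNext A C B P).comp h)) = splitPrime A C B h := by
  apply PrimeSpectrum.ext
  ext x
  show ev A C (Next A C B P) ((toNext A C B P).comp h) (tensNext A C B P x) ∈
    IsLocalRing.maximalIdeal _ ↔ ev A C B h x ∈ IsLocalRing.maximalIdeal B
  have key : ∀ x : B ⊗[A] C, ev A C (Next A C B P) ((toNext A C B P).comp h)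
      (tensNext A C B P x) = toNext A C B P (ev A C B h x) := by
    intro x
    induction x using TensorProduct.induction_on with
    | zero => simp
    | tmul b c => simp [tensNext]
    | add x y hx hy => simp only [map_add, hx, hy]
  have : IsArtinianRing B := IsArtinianRing.of_finite A B
  rw [key, ← comap_maximalIdeal_eq B (toNext A C B P).toRingHom]
  rfl

lemma comap_split_new :
    PrimeSpectrum.comap (tensNext A C B P).toRingHom
      (splitPrime A C (Next A C B P) (newHom A C B P)) = P := by
  apply PrimeSpectrum.ext
  ext x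
  show ev A C (Next A C B P) (newHom A C B P) (tensNext A C B P x) ∈
    IsLocalRing.maximalIdeal _ ↔ x ∈ P.asIdeal
  have key : ∀ x : B ⊗[A] C, ev A C (Next A C B P) (newHom A C B P)
      (tensNext A C B P x) = algebraMap (B ⊗[A] C) (Next A C B P) x := by
    intro x
    induction x using TensorProduct.induction_on with
    | zero => simp
    | tmul b c =>
      simp only [tensNext, Algebra.TensorProduct.map_tmul, ev_tmul, AlgHom.id_apply]
      show algebraMap (B ⊗[A] C) (Next A C B P) (b ⊗ₜ 1) *
        algebraMap (B ⊗[A] C) (Next A C B P) (1 ⊗ₜ c) = _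
      rw [← map_mul, Algebra.TensorProduct.tmul_mul_tmul, mul_one, one_mul]
    | add x y hx hy => simp only [map_add, hx, hy]
  rw [key]
  exact IsLocalization.AtPrime.to_map_mem_maximal_iff _ P.asIdeal x

lemma ncard_split_next (hP : P ∉ Split A C B) :
    (Split A C B).ncard + 1 ≤ (Split A C (Next A C B P)).ncard := by
  have hsub : insert P (Split A C B) ⊆
      (PrimeSpectrum.comap (tensNext A C B P).toRingHom) '' (Split A C (Next A C B P)) := by
    intro Q hQ
    rcases Set.mem_insert_iff.mp hQ with rfl | ⟨h, rfl⟩
    · exact ⟨_, ⟨newHom A C B Q, rfl⟩, comap_split_new A C B Q⟩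
    · exact ⟨_, ⟨(toNext A C B P).comp h, rfl⟩, comap_split_old A C B P h⟩
  have h1 : (insert P (Split A C B)).ncard = (Split A C B).ncard + 1 :=
    Set.ncard_insert_of_notMem hP (Set.toFinite _)
  have hart : IsArtinianRing (Next A C B P ⊗[A] C) := inferInstance
  have hfin : Finite (PrimeSpectrum (Next A C B P ⊗[A] C)) :=
    @IsArtinianRing.instFinitePrimeSpectrum (Next A C B P ⊗[A] C) _ hart
  have hfin' : (Split A C (Next A C B P)).Finite := Set.toFinite _
  rw [← h1]
  exact (Set.ncard_le_ncard hsub (hfin'.image _)).trans (Set.ncard_image_le hfin')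

end step

section main

variable (A : Type u) [CommRing A] [IsArtinianRing A] [IsLocalRing A]
  (C : Type u) [CommRing C] [Algebra A C] [Module.Free A C] [Module.Finite A C]

theorem exists_split_aux : ∀ (m : ℕ) (B : Type u) [CommRing B] [Algebra A B] [IsLocalRing B]
    [Module.Finite A B] [Module.Free A B],
    Module.finrank A C ≤ (Split A C B).ncard + m →
    ∃ (B' : Type u) (_ : CommRing B') (_ : IsLocalRing B') (_ : Algebra A B')
      (_ : Module.Finite A B') (_ : Module.Free A B'),
      ∀ P : PrimeSpectrum (B' ⊗[A] C), ∃ h : C →ₐ[A] B',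
        P.asIdeal = (IsLocalRing.maximalIdeal B').comap (ev A C B' h).toRingHom := by
  intro m
  induction m with
  | zero =>
    intro B _ _ _ _ _ hle
    refine ⟨B, inferInstance, inferInstance, inferInstance, inferInstance, inferInstance, ?_⟩
    intro P
    by_contra hP
    have hP' : P ∉ Split A C B := by
      rintro ⟨h, rfl⟩
      exact hP ⟨h, rfl⟩
    have h1 := ncard_split_next A C B P hP'
    have h2 := ncard_split_le A C (Next A C B P)
    omega
  | succ m ih =>
    intro B _ _ _ _ _ hle
    by_cases hall : ∀ P : PrimeSpectrum (B ⊗[A] C), P ∈ Split A C B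
    · refine ⟨B, inferInstance, inferInstance, inferInstance, inferInstance, inferInstance, ?_⟩
      intro P
      obtain ⟨h, rfl⟩ := hall P
      exact ⟨h, rfl⟩
    · push Not at hall
      obtain ⟨P, hP⟩ := hall
      have h1 := ncard_split_next A C B P hP
      exact ih (Next A C B P) (by omega)

/-- **Main result.** -/
theorem exists_split :
    ∃ (B' : Type u) (_ : CommRing B') (_ : IsLocalRing B') (_ : Algebra A B')
      (_ : Module.Finite A B') (_ : Module.Free A B'),
      ∀ P : PrimeSpectrum (B' ⊗[A] C), ∃ h : C →ₐ[A] B',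
        P.asIdeal = (IsLocalRing.maximalIdeal B').comap (ev A C B' h).toRingHom :=
  exists_split_aux A C (Module.finrank A C) A (by omega)

end main

end Groth.Agent.Lib.Helper41.SplitPrimes
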