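import Mathlib

/-!
# Weighted form of the fundamental theorem of symmetric polynomials

If `Q(e_1, …, e_m)` (elementary symmetric polynomials in `m` variables) has all its monomials of
degree `≥ d`, then all monomials of `Q` have weight `≥ d`, where `X_i` has weight `i + 1`.
-/

set_option autoImplicit false
open Finset

namespace Groth.Agent.Lib.Helper41.SymmWeight

open MvPolynomial

variable {σ : Type*} [Fintype σ] {R : Type*} [CommRing R]

theorem esymm_isHomogeneous (n : ℕ) : (esymm σ R n).IsHomogeneous n := by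
  classical
  rw [esymm]
  apply IsHomogeneous.sum
  intro t ht
  have hc : t.card = n := (Finset.mem_powersetCard.mp ht).2
  have := IsHomogeneous.prod t (fun i => (X i : MvPolynomial σ R)) (fun _ => 1)
    (fun i _ => isHomogeneous_X R i)
  simpa [hc] using this

omit [Fintype σ] in
theorem isHomogeneous_mem_pow_idealOfVars (p : MvPolynomial σ R) (n : ℕ) (hp : p.IsHomogeneous n) :
    p ∈ idealOfVars σ R ^ n := by
  rw [mem_pow_idealOfVars_iff]
  intro x hx
  have := hp (mem_support_iff.mp hx)
  rw [Finsupp.degree_eq_weight_one]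
  exact this.ge

omit [Fintype σ] in
theorem eq_zero_of_mem_pow_idealOfVars_of_totalDegree_lt (p : MvPolynomial σ R) (d : ℕ)
    (hp : p ∈ idealOfVars σ R ^ d) (hd : p.totalDegree < d) : p = 0 := by
  rw [mem_pow_idealOfVars_iff] at hp
  by_contra hne
  obtain ⟨x, hx⟩ := (MvPolynomial.support_nonempty.mpr hne)
  have h1 := hp x hx
  have h2 := le_totalDegree hx
  rw [Finsupp.degree_apply] at h1
  have : (x.sum fun _ e => e) = ∑ i ∈ x.support, x i := rfl
  omega

/-- the weight: `X_i` has weight `i + 1` -/
noncomputable def wt {m : ℕ} (x : Fin m →₀ ℕ) : ℕ := Finsupp.weight (fun i : Fin m => (i : ℕ) + 1) x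

theorem aeval_monomial_isHomogeneous {m : ℕ} (x : Fin m →₀ ℕ) (c : R) :
    (aeval (fun i : Fin m => esymm σ R (i + 1)) (monomial x c)).IsHomogeneous (wt x) := by
  rw [aeval_monomial]
  have h0 : (algebraMap R (MvPolynomial σ R) c) = C c := rfl
  rw [h0]
  apply IsHomogeneous.C_mul
  rw [wt, Finsupp.weight_apply, Finsupp.prod, Finsupp.sum]
  apply IsHomogeneous.prod
  intro i _
  have := (esymm_isHomogeneous (σ := σ) (R := R) ((i : ℕ) + 1)).pow (x i)
  rwa [smul_eq_mul, mul_comm]

/-- Weighted fundamental theorem. -/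
theorem le_wt_of_mem_support {m : ℕ} (hm : m ≤ Fintype.card σ) (Q : MvPolynomial (Fin m) R) (d : ℕ)
    (h : aeval (fun i : Fin m => esymm σ R (i + 1)) Q ∈ idealOfVars σ R ^ d) :
    ∀ x ∈ Q.support, d ≤ wt x := by
  classical
  set E : MvPolynomial (Fin m) R →ₐ[R] MvPolynomial σ R := aeval (fun i : Fin m => esymm σ R (i + 1)) with hE
  set Q₁ := ∑ x ∈ Q.support.filter (fun x => wt x < d), monomial x (Q.coeff x) with hQ₁
  set Q₂ := ∑ x ∈ Q.support.filter (fun x => ¬ wt x < d), monomial x (Q.coeff x) with hQ₂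
  have hQ : Q = Q₁ + Q₂ := by
    rw [hQ₁, hQ₂, Finset.sum_filter_add_sum_filter_not, support_sum_monomial_coeff]
  have h2 : E Q₂ ∈ idealOfVars σ R ^ d := by
    rw [hQ₂, map_sum]
    apply Ideal.sum_mem
    intro x hx
    have hx' : ¬ wt x < d := (Finset.mem_filter.mp hx).2
    push Not at hx'
    exact Ideal.pow_le_pow_right hx'
      (isHomogeneous_mem_pow_idealOfVars _ _ (aeval_monomial_isHomogeneous x _))
  have h1 : E Q₁ ∈ idealOfVars σ R ^ d := by
    have : E Q₁ = E Q - E Q₂ := by rw [hQ, map_add]; ring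
    rw [this]
    exact Ideal.sub_mem _ h h2
  have h1' : (E Q₁).totalDegree < d ∨ d = 0 := by
    rcases Nat.eq_zero_or_pos d with hd | hd
    · exact Or.inr hd
    left
    rw [hQ₁, map_sum]
    refine lt_of_le_of_lt (totalDegree_finsetSum _ _) ?_
    rw [Finset.sup_lt_iff hd]
    intro x hx
    have hx' : wt x < d := (Finset.mem_filter.mp hx).2
    exact lt_of_le_of_lt (aeval_monomial_isHomogeneous x _).totalDegree_le hx'
  intro x hx
  rcases h1' with h1' | h1'
  · have hz : E Q₁ = 0 := eq_zero_of_mem_pow_idealOfVars_of_totalDegree_lt _ d h1 h1'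
    have hinj : Function.Injective E := by
      have := esymmAlgHom_injective (σ := σ) R hm
      intro a b hab
      apply this
      apply Subtype.ext
      rw [esymmAlgHom_apply, esymmAlgHom_apply]
      exact hab
    have hQ₁0 : Q₁ = 0 := hinj (by rw [hz, map_zero])
    by_contra hlt
    push Not at hlt
    have hc : Q₁.coeff x = Q.coeff x := by
      rw [hQ₁, coeff_sum, Finset.sum_eq_single x]
      · simp
      · intro y _ hy
        rw [coeff_monomial, if_neg hy]
      · intro hnot
        exact absurd (Finset.mem_filter.mpr ⟨hx, hlt⟩) hnot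
    rw [hQ₁0, coeff_zero] at hc
    exact (mem_support_iff.mp hx) hc.symm
  · omega

end Groth.Agent.Lib.Helper41.SymmWeight
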