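import Mathlib

/-!
# Jointly injective families of linear maps stay jointly injective after tensoring with a free module
-/

set_option autoImplicit false

open TensorProduct

namespace Groth.Agent.Lib.Helper41

universe u v w w' w''

/-- If the linear maps `g j : A → K j` are jointly injective and `V` is a free module, then the maps
`V ⊗ A → V ⊗ K j` are jointly injective. -/
theorem eq_zero_of_forall_lTensor_eq_zero {k : Type u} [CommRing k] {V : Type v} {A : Type w}
    [AddCommGroup V] [Module k V] [Module.Free k V] [AddCommGroup A] [Module k A]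
    {J : Type w'} {K : J → Type w''} [∀ j, AddCommGroup (K j)] [∀ j, Module k (K j)]
    (g : ∀ j, A →ₗ[k] K j) (hg : ∀ a : A, (∀ j, g j a = 0) → a = 0)
    (x : V ⊗[k] A) (hx : ∀ j, (g j).lTensor V x = 0) : x = 0 := by
  classical
  let ℬ := Module.Free.chooseBasis k V
  apply (TensorProduct.equivFinsuppOfBasisLeft ℬ).injective
  rw [map_zero]
  ext i
  rw [Finsupp.zero_apply, TensorProduct.equivFinsuppOfBasisLeft_apply]
  apply hg
  intro j
  have key : ∀ y : V ⊗[k] A, g j (TensorProduct.lid k A ((ℬ.coord i).rTensor A y)) =
      TensorProduct.lid k (K j) ((ℬ.coord i).rTensor (K j) ((g j).lTensor V y)) := by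
    intro y
    induction y using TensorProduct.induction_on with
    | zero => simp
    | tmul v a => simp
    | add y z hy hz => simp only [map_add, hy, hz]
  rw [key, hx j]
  simp

/-- Variant of `eq_zero_of_forall_lTensor_eq_zero`: two tensors agreeing after all `lTensor (g j)` are equal. -/
theorem eq_of_forall_lTensor_eq {k : Type u} [CommRing k] {V : Type v} {A : Type w}
    [AddCommGroup V] [Module k V] [Module.Free k V] [AddCommGroup A] [Module k A]
    {J : Type w'} {K : J → Type w''} [∀ j, AddCommGroup (K j)] [∀ j, Module k (K j)]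
    (g : ∀ j, A →ₗ[k] K j) (hg : ∀ a : A, (∀ j, g j a = 0) → a = 0)
    (x y : V ⊗[k] A) (hxy : ∀ j, (g j).lTensor V x = (g j).lTensor V y) : x = y := by
  rw [← sub_eq_zero]
  apply eq_zero_of_forall_lTensor_eq_zero g hg
  intro j
  rw [map_sub, hxy j, sub_self]

end Groth.Agent.Lib.Helper41
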