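import Groth.Agent.Lib.Helper41.Translate
import Groth.Agent.Lib.Helper41.ClosedPointKPoint
import Groth.Agent.Lib.Helper41.FlatSourceDescent
import Groth.Agent.Lib.Helper2.GenericFlatness

/-!
# Equivariant morphisms onto a reduced homogeneous space are faithfully flat (helper41)

`flat_surjective_of_transitive` : `k ⊆ K` fields with `K` algebraically closed, `G` a `k`-group scheme
acting on `k`-schemes of finite type `X`, `Y`, `f : X ⟶ Y` equivariant, `X` nonempty, `Y` reduced, and
`G(K)` transitive on `Y(K)`.  Then `f` is flat and surjective.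
-/

set_option autoImplicit false
universe u
open CategoryTheory CategoryTheory.Limits MonoidalCategory CartesianMonoidalCategory MonObj
  AlgebraicGeometry

namespace Groth.Agent.Lib.Helper41.TransitiveFlat

open Groth.Agent.Lib.Helper41.Translate Groth.Agent.Lib.Helper93.ActionOpen

/-- In a Jacobson space, an open set containing all closed points is everything. -/
theorem eq_univ_of_isOpen_of_closedPoints_subset {X : Type*} [TopologicalSpace X] [JacobsonSpace X]
    (W : Set X) (hW : IsOpen W) (h : closedPoints X ⊆ W) : W = Set.univ := by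
  by_contra hne
  have hne' : (Wᶜ).Nonempty := by
    rw [Set.nonempty_compl]
    exact hne
  obtain ⟨x, hx1, hx2⟩ := nonempty_inter_closedPoints hne' hW.isClosed_compl.isLocallyClosed
  exact hx1 (h hx2)

/-- Flatness descends along a jointly surjective family of flat morphisms on the source. -/
theorem flat_of_family {I : Type*} {U V : Scheme.{u}} (Ui : I → Scheme.{u})
    (m : ∀ i, Ui i ⟶ U) (h : U ⟶ V) (hm : ∀ i, Flat (m i))
    (hsurj : ∀ x : U, ∃ i, x ∈ Set.range (m i).base) (hmh : ∀ i, Flat (m i ≫ h)) : Flat h := by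
  rw [Flat.iff_flat_stalkMap]
  intro y
  obtain ⟨i, x, rfl⟩ := hsurj y
  have := hm i
  have := hmh i
  have h1 : ((m i ≫ h).stalkMap x).hom.Flat := Flat.stalkMap (m i ≫ h) x
  rw [Scheme.Hom.stalkMap_comp] at h1
  have h2 : ((m i).stalkMap x).hom.Flat := Flat.stalkMap (m i) x
  have h3 : ((m i).stalkMap x).hom.FaithfullyFlat := by
    algebraize [((m i).stalkMap x).hom]
    have : IsLocalHom (algebraMap (U.presheaf.stalk ((m i) x)) ((Ui i).presheaf.stalk x)) :=
      inferInstanceAs (IsLocalHom ((m i).stalkMap x).hom)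
    exact Module.FaithfullyFlat.of_flat_of_isLocalHom
  exact Groth.Agent.Lib.Helper2.RingHom.Flat.of_comp_faithfullyFlat _ _ h3 h1

section KPoints

variable (k K : Type u) [Field k] [Field K] [Algebra k K] [IsAlgClosed K]

/-- the `k`-scheme `Spec K` -/
noncomputable abbrev SpK : Over (Spec (CommRingCat.of k)) :=
  Over.mk (Spec.map (CommRingCat.ofHom (algebraMap k K)))

/-- A locally closed nonempty subset of a `k`-scheme locally of finite type contains the image of a
`K`-point. -/
theorem exists_kpoint_mem (P : Over (Spec (CommRingCat.of k))) [LocallyOfFiniteType P.hom]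
    (Z : Set P.left) (hZ : Z.Nonempty) (hZ' : IsLocallyClosed Z) :
    ∃ t : SpK k K ⟶ P, ∀ a, t.left.base a ∈ Z := by
  have hJ : JacobsonSpace P.left := LocallyOfFiniteType.jacobsonSpace (Y := Spec _) P.hom
  obtain ⟨x, hx1, hx2⟩ := nonempty_inter_closedPoints hZ hZ'
  obtain ⟨t, ht⟩ := Groth.Agent.Lib.Helper41.ClosedPointKPoint.exists_point_of_isClosed k K P x hx2
  exact ⟨t, fun a => by rw [ht a]; exact hx1⟩

/-- Every closed point of `X_K = X ⊗ Spec K` is the image of a section `(x, id)` for a `K`-point `x`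
of `X`. -/
theorem exists_section_of_isClosed (X : Over (Spec (CommRingCat.of k))) [LocallyOfFiniteType X.hom]
    (p : (X ⊗ SpK k K).left) (hp : IsClosed ({p} : Set (X ⊗ SpK k K).left)) :
    ∃ x : SpK k K ⟶ X, ∀ a, (lift x (𝟙 (SpK k K))).left.base a = p := by
  let P' : Over (Spec (CommRingCat.of K)) := Over.mk (snd X (SpK k K)).left
  have hlft : LocallyOfFiniteType P'.hom := by
    change LocallyOfFiniteType (snd X (SpK k K)).left
    rw [Over.snd_left]
    infer_instance
  obtain ⟨t, ht⟩ := Groth.Agent.Lib.Helper41.ClosedPointKPoint.exists_point_of_isClosed K K P' p hp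
  have hid : Spec.map (CommRingCat.ofHom (algebraMap K K)) = 𝟙 _ := by
    rw [Algebra.algebraMap_self]
    exact Spec.map_id _
  have htw : t.left ≫ (snd X (SpK k K)).left = 𝟙 (Spec (CommRingCat.of K)) :=
    (Over.w t).trans hid
  let s : SpK k K ⟶ X ⊗ SpK k K := Over.homMk t.left (by
    rw [← Over.w (snd X (SpK k K)), ← Category.assoc, htw]
    exact Category.id_comp _)
  have hs : s ≫ snd X (SpK k K) = 𝟙 _ := by
    ext
    exact htw
  refine ⟨s ≫ fst X (SpK k K), ?_⟩
  have hs2 : lift (s ≫ fst X (SpK k K)) (𝟙 (SpK k K)) = s := by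
    apply CartesianMonoidalCategory.hom_ext
    · rw [lift_fst]
    · rw [lift_snd, hs]
  rw [hs2]
  exact ht

end KPoints

section Main

variable (k K : Type u) [Field k] [Field K] [Algebra k K] [IsAlgClosed K]

open Groth.Agent.Lib.Helper41.ActionPoints2 Groth.Agent.Lib.Helper41.FlatSourceDescent

omit [IsAlgClosed K] in
theorem surjective_SpK_hom : Surjective (SpK k K).hom :=
  ⟨fun _ => ⟨IsLocalRing.closedPoint K, Subsingleton.elim _ _⟩⟩

theorem flat_surjective_of_transitive
    (G X Y : Over (Spec (CommRingCat.of k))) [GrpObj G]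
    [LocallyOfFiniteType X.hom] [QuasiCompact X.hom] [LocallyOfFiniteType Y.hom]
    [Nonempty X.left] [IsReduced Y.left] (a : AlgGrp.Action G X) (b : AlgGrp.Action G Y)
    (f : X ⟶ Y) (hf : (G ◁ f) ≫ b.act = a.act ≫ f)
    (htr : ∀ y y' : SpK k K ⟶ Y, ∃ g : SpK k K ⟶ G, lift g y ≫ b.act = y') :
    Flat f.left ∧ Surjective f.left := by
  classical
  let pt : (SpK k K).left := IsLocalRing.closedPoint K
  -- basic finiteness of f
  have hflft : LocallyOfFiniteType f.left := by
    have : LocallyOfFiniteType (f.left ≫ Y.hom) := by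
      rw [Over.w f]
      infer_instance
    exact locallyOfFiniteType_of_comp f.left Y.hom
  have hXnoeth : IsLocallyNoetherian X.left := LocallyOfFiniteType.isLocallyNoetherian X.hom
  have hYnoeth : IsLocallyNoetherian Y.left := LocallyOfFiniteType.isLocallyNoetherian Y.hom
  have hXc : CompactSpace X.left := QuasiCompact.compactSpace_of_compactSpace X.hom
  have hXn : IsNoetherian X.left := {}
  have hfqc : QuasiCompact f.left := inferInstance
  -- generic flatness
  obtain ⟨U, hUd, hUflat, -⟩ := Groth.Agent.Lib.Helper2.generic_flatness_reduced f.left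
  let V : X.left.Opens := f.left ⁻¹ᵁ U
  let XV : Over (Spec (CommRingCat.of k)) := Over.mk (V.ι ≫ X.hom)
  let jV : XV ⟶ X := Over.homMk V.ι rfl
  have hfV : Flat (jV ≫ f).left := by
    have h1 : (jV ≫ f).left = (f.left ∣_ U) ≫ U.ι := by
      rw [Over.comp_left]
      exact (morphismRestrict_ι f.left U).symm
    rw [h1]
    infer_instance
  -- K-points
  obtain ⟨x₀, -⟩ := exists_kpoint_mem k K X Set.univ Set.univ_nonempty isOpen_univ.isLocallyClosed
  have hYne : Nonempty Y.left := ⟨f.left.base (Classical.arbitrary X.left)⟩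
  have hUne : (U : Set Y.left).Nonempty := hUd.nonempty
  obtain ⟨u, hu⟩ := exists_kpoint_mem k K Y (U : Set Y.left) hUne U.isOpen.isLocallyClosed
  have hlift : ∀ x : SpK k K ⟶ X, (∀ c, (x ≫ f).left.base c ∈ (U : Set Y.left)) →
      ∃ v : SpK k K ⟶ XV, v ≫ jV = x := by
    intro x hx
    have hrange : Set.range x.left.base ⊆ Set.range V.ι.base := by
      rintro _ ⟨c, rfl⟩
      rw [Scheme.Opens.range_ι]
      exact hx c
    refine ⟨Over.homMk (IsOpenImmersion.lift V.ι x.left hrange) ?_, ?_⟩
    · change IsOpenImmersion.lift V.ι x.left hrange ≫ (V.ι ≫ X.hom) = _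
      rw [← Category.assoc, IsOpenImmersion.lift_fac, Over.w x]
    · ext
      exact IsOpenImmersion.lift_fac _ _ _
  -- the family of translated opens
  let m : (SpK k K ⟶ G) → (XV ⊗ SpK k K ⟶ X ⊗ SpK k K) :=
    fun g => (jV ▷ SpK k K) ≫ trans a g
  have hisoa : ∀ g : SpK k K ⟶ G, IsIso (trans a g).left := fun g =>
    (Over.forget _).map_isIso (transIso a g).hom
  have hisob : ∀ g : SpK k K ⟶ G, IsIso (trans b g).left := fun g =>
    (Over.forget _).map_isIso (transIso b g).hom
  have hmopen : ∀ g, IsOpenImmersion (m g).left := by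
    intro g
    have h1 : IsOpenImmersion (jV ▷ SpK k K).left := by
      have hpb := isPullback_whiskerRight_fst (SpK k K) jV
      exact MorphismProperty.of_isPullback (P := @IsOpenImmersion) hpb.flip
        (inferInstanceAs (IsOpenImmersion V.ι))
    have h2 := hisoa g
    change IsOpenImmersion ((jV ▷ SpK k K) ≫ trans a g).left
    rw [Over.comp_left]
    infer_instance
  have hmflat : ∀ g, Flat (m g).left := fun g => by
    have := hmopen g
    infer_instance
  have hmfflat : ∀ g, Flat ((m g).left ≫ (f ▷ SpK k K).left) := by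
    intro g
    have h0 : m g ≫ (f ▷ SpK k K) = ((jV ≫ f) ▷ SpK k K) ≫ trans b g := by
      change ((jV ▷ SpK k K) ≫ trans a g) ≫ (f ▷ SpK k K) = _
      rw [Category.assoc, trans_comm hf, ← Category.assoc, ← MonoidalCategory.comp_whiskerRight]
    have h1 : Flat ((jV ≫ f) ▷ SpK k K).left := by
      have hpb := isPullback_whiskerRight_fst (SpK k K) (jV ≫ f)
      exact MorphismProperty.of_isPullback (P := @Flat) hpb.flip hfV
    have h2 := hisob g
    rw [← Over.comp_left, h0, Over.comp_left]
    infer_instance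
  have hXKlft : LocallyOfFiniteType (snd X (SpK k K)).left := by
    rw [Over.snd_left]
    infer_instance
  have hmsurj : ∀ p : (X ⊗ SpK k K).left, ∃ g, p ∈ Set.range (m g).left.base := by
    have hJ : JacobsonSpace (X ⊗ SpK k K).left :=
      LocallyOfFiniteType.jacobsonSpace (Y := Spec (CommRingCat.of K)) (snd X (SpK k K)).left
    have hWopen : IsOpen (⋃ g, Set.range (m g).left.base) :=
      isOpen_iUnion fun g => (m g).left.isOpenEmbedding.isOpen_range
    have hW := eq_univ_of_isOpen_of_closedPoints_subset _ hWopen ?_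
    · intro p
      have hp : p ∈ ⋃ g, Set.range (m g).left.base := by
        rw [hW]
        trivial
      exact Set.mem_iUnion.mp hp
    intro p hp
    obtain ⟨x, hx⟩ := exists_section_of_isClosed k K X p hp
    obtain ⟨g, hg⟩ := htr u (x ≫ f)
    let x' : SpK k K ⟶ X := lift g⁻¹ x ≫ a.act
    have hx'f : x' ≫ f = u := by
      change (lift g⁻¹ x ≫ a.act) ≫ f = u
      rw [← equivariant_pt hf, ← hg, act_inv_act]
    obtain ⟨v, hv⟩ := hlift x' (by
      intro c
      rw [hx'f]
      exact hu c)
    have hvm : lift v (𝟙 (SpK k K)) ≫ m g = lift x (𝟙 _) := by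
      change lift v (𝟙 _) ≫ (jV ▷ SpK k K) ≫ trans a g = _
      rw [← Category.assoc, lift_whiskerRight, hv, trans_pt, Category.id_comp]
      change lift (lift g (lift g⁻¹ x ≫ a.act) ≫ a.act) _ = _
      rw [act_act_inv]
    refine Set.mem_iUnion.mpr ⟨g, ⟨(lift v (𝟙 (SpK k K))).left.base pt, ?_⟩⟩
    rw [← hx pt, ← hvm]
    rfl
  have hfK : Flat (f ▷ SpK k K).left :=
    flat_of_family (fun _ => (XV ⊗ SpK k K).left) (fun g => (m g).left) _ hmflat hmsurj hmfflat
  have hflat : Flat f.left := by
    have h1 : Flat (fst X (SpK k K)).left := flat_fst_left X (SpK k K)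
    have h2 : Surjective (fst X (SpK k K)).left := by
      have := surjective_SpK_hom k K
      rw [Over.fst_left]
      infer_instance
    have h3 : Flat ((fst X (SpK k K)).left ≫ f.left) := by
      have h4 : (fst X (SpK k K)) ≫ f = (f ▷ SpK k K) ≫ fst Y (SpK k K) := by simp
      rw [← Over.comp_left, h4, Over.comp_left]
      have := flat_fst_left Y (SpK k K)
      infer_instance
    exact flat_of_comp_of_flat_surjective _ _ h3
  refine ⟨hflat, ?_⟩
  -- surjectivity
  have hlfp : LocallyOfFinitePresentation f.left := inferInstance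
  have hopen : IsOpen (Set.range f.left.base) := f.left.isOpenMap.isOpen_range
  have hJ : JacobsonSpace Y.left := LocallyOfFiniteType.jacobsonSpace (Y := Spec _) Y.hom
  have huniv := eq_univ_of_isOpen_of_closedPoints_subset _ hopen ?_
  · exact ⟨Set.range_eq_univ.mp huniv⟩
  intro y hy
  obtain ⟨t, ht⟩ := Groth.Agent.Lib.Helper41.ClosedPointKPoint.exists_point_of_isClosed k K Y y hy
  obtain ⟨g, hg⟩ := htr (x₀ ≫ f) t
  refine ⟨(lift g x₀ ≫ a.act).left.base pt, ?_⟩
  rw [← ht pt, ← hg, equivariant_pt hf]
  rfl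

end Main

end Groth.Agent.Lib.Helper41.TransitiveFlat
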