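import Groth.Agent.Lib.Helper41.ActionPoints2

/-!
# Translations by points for actions of group objects (helper41)

For an action `a` of `G` on `X` and a `P`-point `g : P ⟶ G`, `trans a g : X ⊗ P ⟶ X ⊗ P` is the
automorphism `(x, p) ↦ (g(p) · x, p)`.
-/

set_option autoImplicit false
universe u
open CategoryTheory CategoryTheory.Limits MonoidalCategory CartesianMonoidalCategory MonObj
  AlgebraicGeometry

namespace Groth.Agent.Lib.Helper41.Translate

open Groth.Agent.Lib.Helper93.ActionOpen

variable {S : Scheme.{u}} {G X Y P : Over S} [GrpObj G]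

/-- translation by the `P`-point `g` of `G` on `X ⊗ P` -/
noncomputable def trans (a : AlgGrp.Action G X) (g : P ⟶ G) : X ⊗ P ⟶ X ⊗ P :=
  lift (lift (snd X P ≫ g) (fst X P) ≫ a.act) (snd X P)

theorem trans_pt (a : AlgGrp.Action G X) (g : P ⟶ G) {T : Over S} (x : T ⟶ X) (p : T ⟶ P) :
    lift x p ≫ trans a g = lift (lift (p ≫ g) x ≫ a.act) p := by
  unfold trans
  apply CartesianMonoidalCategory.hom_ext
  · rw [Category.assoc, lift_fst, lift_fst, ← Category.assoc, comp_lift, ← Category.assoc, lift_snd,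
      lift_fst]
  · rw [Category.assoc, lift_snd, lift_snd, lift_snd]

theorem trans_eq (a : AlgGrp.Action G X) (g : P ⟶ G) {T : Over S} (t : T ⟶ X ⊗ P) :
    t ≫ trans a g = lift (lift ((t ≫ snd X P) ≫ g) (t ≫ fst X P) ≫ a.act) (t ≫ snd X P) := by
  have : t = lift (t ≫ fst X P) (t ≫ snd X P) := by
    apply CartesianMonoidalCategory.hom_ext <;> simp
  conv_lhs => rw [this]
  exact trans_pt a g _ _

theorem trans_snd (a : AlgGrp.Action G X) (g : P ⟶ G) : trans a g ≫ snd X P = snd X P := by
  unfold trans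
  rw [lift_snd]

theorem trans_inv_trans (a : AlgGrp.Action G X) (g : P ⟶ G) :
    trans a g ≫ trans a g⁻¹ = 𝟙 _ := by
  rw [trans_eq, trans_snd]
  apply CartesianMonoidalCategory.hom_ext
  · rw [lift_fst, Category.id_comp]
    have h1 : trans a g ≫ fst X P = lift (snd X P ≫ g) (fst X P) ≫ a.act := by
      unfold trans
      rw [lift_fst]
    rw [h1, GrpObj.comp_inv]
    exact act_inv_act a _ _
  · rw [lift_snd, Category.id_comp]

theorem trans_trans_inv (a : AlgGrp.Action G X) (g : P ⟶ G) :
    trans a g⁻¹ ≫ trans a g = 𝟙 _ := by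
  have := trans_inv_trans a g⁻¹
  rw [inv_inv] at this
  exact this

/-- translation as an isomorphism -/
noncomputable def transIso (a : AlgGrp.Action G X) (g : P ⟶ G) : X ⊗ P ≅ X ⊗ P where
  hom := trans a g
  inv := trans a g⁻¹
  hom_inv_id := trans_inv_trans a g
  inv_hom_id := trans_trans_inv a g

theorem equivariant_pt {a : AlgGrp.Action G X} {b : AlgGrp.Action G Y} {f : X ⟶ Y}
    (hf : (G ◁ f) ≫ b.act = a.act ≫ f) {T : Over S} (g : T ⟶ G) (x : T ⟶ X) :
    lift g (x ≫ f) ≫ b.act = (lift g x ≫ a.act) ≫ f := by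
  rw [Category.assoc, ← hf, ← Category.assoc]
  congr 1
  apply CartesianMonoidalCategory.hom_ext <;> simp

theorem trans_comm {a : AlgGrp.Action G X} {b : AlgGrp.Action G Y} {f : X ⟶ Y}
    (hf : (G ◁ f) ≫ b.act = a.act ≫ f) (g : P ⟶ G) :
    trans a g ≫ (f ▷ P) = (f ▷ P) ≫ trans b g := by
  have hw : f ▷ P = lift (fst X P ≫ f) (snd X P) := by
    apply CartesianMonoidalCategory.hom_ext <;> simp
  rw [hw, trans_pt]
  unfold trans
  rw [comp_lift]
  apply CartesianMonoidalCategory.hom_ext
  · rw [lift_fst, lift_fst, equivariant_pt hf, Category.assoc, lift_fst_assoc, Category.assoc]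
  · rw [lift_snd, lift_snd, lift_snd]

end Groth.Agent.Lib.Helper41.Translate
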