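import Groth.Agent.Lib.Helper41.WordLength

/-!
# Descending words along a base change (helper41)

`σ : S' ⟶ S`, `F = Over.pullback σ`.

* `dn σ a` : a `T`-point `a : T ⟶ F.obj A` over `S'` viewed as a point `(Over.map σ).obj T ⟶ A`
  over `S`; `dn_comp_map`, `dn_mul`, `dnHom`, `dn_word`.
* `isPullback_map_left`, `isClosedImmersion_map_left`.
* `mem_range_unit_of_fst` : a point of `F.obj G` lying over the unit section of `G` lies in the unit
  section.
* `wordLen_descend` (fields) : the projection of a point under a word of length `n` in `F.map f`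
  lies under a word of length `n` in `f`.
-/

set_option autoImplicit false
universe u
open CategoryTheory CategoryTheory.Limits MonoidalCategory CartesianMonoidalCategory MonObj GrpObj AlgebraicGeometry
open scoped Obj

namespace Groth.Agent.Lib.Helper41.WordDescent

open Groth.Agent.Lib.Helper41.WordPoints Groth.Agent.Lib.Helper41.WordLength

section General

variable {S S' : Scheme.{u}} (σ : S' ⟶ S)

/-- a point of the base change, viewed over the old base -/
noncomputable def dn {T : Over S'} {A : Over S} (a : T ⟶ (Over.pullback σ).obj A) :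
    (Over.map σ).obj T ⟶ A :=
  Over.homMk (a.left ≫ pullback.fst A.hom σ) (by
    have h : a.left ≫ pullback.snd A.hom σ = T.hom := Over.w a
    change (a.left ≫ pullback.fst A.hom σ) ≫ A.hom = T.hom ≫ σ
    rw [Category.assoc, pullback.condition, ← Category.assoc, h])

theorem dn_left {T : Over S'} {A : Over S} (a : T ⟶ (Over.pullback σ).obj A) :
    (dn σ a).left = a.left ≫ pullback.fst A.hom σ := rfl

theorem dn_comp_map {T : Over S'} {A B : Over S} (a : T ⟶ (Over.pullback σ).obj A) (f : A ⟶ B) :
    dn σ (a ≫ (Over.pullback σ).map f) = dn σ a ≫ f := by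
  ext1
  rw [Over.comp_left, dn_left, dn_left, Over.comp_left, Category.assoc, Category.assoc]
  congr 1
  exact pullback.lift_fst _ _ _

theorem isPullback_map_left {A B : Over S} (i : A ⟶ B) :
    IsPullback ((Over.pullback σ).map i).left (pullback.fst A.hom σ) (pullback.fst B.hom σ)
      i.left := by
  have hcomm : ((Over.pullback σ).map i).left ≫ pullback.fst B.hom σ =
      pullback.fst A.hom σ ≫ i.left := pullback.lift_fst _ _ _
  have hsnd : ((Over.pullback σ).map i).left ≫ pullback.snd B.hom σ = pullback.snd A.hom σ :=
    pullback.lift_snd _ _ _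
  refine IsPullback.of_right ?_ hcomm (IsPullback.of_hasPullback B.hom σ).flip
  rw [hsnd, Over.w i]
  exact (IsPullback.of_hasPullback A.hom σ).flip

theorem isClosedImmersion_map_left {A B : Over S} (i : A ⟶ B) [IsClosedImmersion i.left] :
    IsClosedImmersion ((Over.pullback σ).map i).left :=
  MorphismProperty.of_isPullback (P := @IsClosedImmersion) (isPullback_map_left σ i).flip
    inferInstance

variable {G : Over S} [GrpObj G]

theorem dn_mul {T : Over S'} (a b : T ⟶ (Over.pullback σ).obj G) :
    dn σ (a * b) = dn σ a * dn σ b := by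
  ext1
  rw [Hom.mul_def, Hom.mul_def, Functor.obj.μ_def, dn_left]
  simp only [Over.comp_left, Category.assoc]
  have h1 : ((Over.pullback σ).map μ[G]).left ≫ pullback.fst G.hom σ =
      pullback.fst (G ⊗ G).hom σ ≫ μ[G].left := pullback.lift_fst _ _ _
  rw [h1]
  simp only [← Category.assoc]
  congr 1
  simp only [Category.assoc]
  apply Over.tensorObj_ext
  · have hR : (lift (dn σ a) (dn σ b)).left ≫ pullback.fst G.hom G.hom = (dn σ a).left := by
      rw [← Over.fst_left, ← Over.comp_left, lift_fst]
    have hL : (lift a b).left ≫ pullback.fst ((Over.pullback σ).obj G).hom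
        ((Over.pullback σ).obj G).hom = a.left := by
      rw [← Over.fst_left, ← Over.comp_left, lift_fst]
    rw [hR, dn_left]
    simp only [Category.assoc]
    rw [Over.μ_pullback_left_fst_fst, ← Category.assoc, hL]
  · have hR : (lift (dn σ a) (dn σ b)).left ≫ pullback.snd G.hom G.hom = (dn σ b).left := by
      rw [← Over.snd_left, ← Over.comp_left, lift_snd]
    have hL : (lift a b).left ≫ pullback.snd ((Over.pullback σ).obj G).hom
        ((Over.pullback σ).obj G).hom = b.left := by
      rw [← Over.snd_left, ← Over.comp_left, lift_snd]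
    rw [hR, dn_left]
    simp only [Category.assoc]
    rw [Over.μ_pullback_left_fst_snd, ← Category.assoc, hL]

/-- `dn` as a group homomorphism -/
noncomputable def dnHom (T : Over S') :
    (T ⟶ (Over.pullback σ).obj G) →* ((Over.map σ).obj T ⟶ G) :=
  MonoidHom.mk' (dn σ) (dn_mul σ)

theorem dnHom_apply {T : Over S'} (a : T ⟶ (Over.pullback σ).obj G) : dnHom σ T a = dn σ a := rfl

theorem dn_sgn {X : Over S} (f : X ⟶ G) {T : Over S'}
    (xb : (T ⟶ (Over.pullback σ).obj X) × Bool) :
    dn σ (sgn ((Over.pullback σ).map f) xb) = sgn f (dn σ xb.1, xb.2) := by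
  unfold sgn
  by_cases hb : xb.2
  · simp only [hb, if_true]
    exact dn_comp_map σ _ f
  · simp only [hb, Bool.false_eq_true, if_false]
    rw [← dnHom_apply, map_inv, dnHom_apply, dn_comp_map]

theorem dn_word {X : Over S} (f : X ⟶ G) {T : Over S'}
    (l : List ((T ⟶ (Over.pullback σ).obj X) × Bool)) :
    dn σ (word ((Over.pullback σ).map f) l) = word f (l.map (fun xb => (dn σ xb.1, xb.2))) := by
  unfold word
  rw [← dnHom_apply, map_list_prod, List.map_map, List.map_map]
  congr 1
  apply List.map_congr_left
  intro xb _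
  exact dn_sgn σ f xb

theorem unit_left_fst :
    η[(Over.pullback σ).obj G].left ≫ pullback.fst G.hom σ = σ ≫ η[G].left := by
  rw [Functor.obj.η_def, Over.comp_left, Category.assoc]
  have h1 : ((Over.pullback σ).map η[G]).left ≫ pullback.fst G.hom σ =
      pullback.fst (𝟙_ (Over S)).hom σ ≫ η[G].left := pullback.lift_fst _ _ _
  rw [h1, ← Category.assoc]
  congr 1
  rw [Over.ε_pullback_left, IsIso.inv_comp_eq]
  have h2 := pullback.condition (f := 𝟙 S) (g := σ)
  rw [Category.comp_id] at h2
  exact h2

theorem isPullback_unit :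
    IsPullback η[(Over.pullback σ).obj G].left σ (pullback.fst G.hom σ) η[G].left := by
  have h1 : η[(Over.pullback σ).obj G].left ≫ pullback.snd G.hom σ = 𝟙 S' :=
    Over.w η[(Over.pullback σ).obj G]
  have h2 : η[G].left ≫ G.hom = 𝟙 S := Over.w η[G]
  refine IsPullback.of_right ?_ (unit_left_fst σ) (IsPullback.of_hasPullback G.hom σ).flip
  rw [h1, h2]
  exact IsPullback.id_horiz σ

/-- a point of the base change lying over the unit section lies in the unit section -/
theorem mem_range_unit_of_fst (q : ((Over.pullback σ).obj G).left)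
    (hq : (pullback.fst G.hom σ).base q ∈ Set.range η[G].left.base) :
    q ∈ Set.range η[(Over.pullback σ).obj G].left.base := by
  obtain ⟨c, hc⟩ := hq
  obtain ⟨z, hz, -⟩ := Scheme.exists_preimage_of_isPullback (isPullback_unit σ (G := G)) q c hc.symm
  exact ⟨z, hz⟩

end General

section Field

variable {k K : Type u} [Field k] [Field K]
  (σ : Spec (CommRingCat.of K) ⟶ Spec (CommRingCat.of k))
  {G X : Over (Spec (CommRingCat.of k))} [GrpObj G]

/-- the projection of a point under a word of length `n` in `F.map f` lies under a word of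
length `n` in `f` -/
theorem wordLen_descend (f : X ⟶ G) (n : ℕ) (p : ((Over.pullback σ).obj G).left)
    (hp : p ∈ wordLen ((Over.pullback σ).map f) n) :
    (pullback.fst G.hom σ).base p ∈ wordLen f n := by
  obtain ⟨T, l, t, hl, rfl⟩ := (mem_wordLen_iff _ n p).mp hp
  rw [mem_wordLen_iff]
  refine ⟨(Over.map σ).obj T, l.map (fun xb => (dn σ xb.1, xb.2)), t,
    by rw [List.length_map, hl], ?_⟩
  rw [← dn_word]
  rfl

end Field

end Groth.Agent.Lib.Helper41.WordDescent
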