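import Groth.Agent.Lib.Helper41.ClosureSubgroup2

/-!
# Words in the points of a scheme mapping to a group scheme (helper41)

* `comp_list_prod`, `list_prod_comp` : list products in `Hom(T, G)` vs. composition.
* `sgn`, `word` : signed words `f(x₁)^{±1} ⋯ f(xₙ)^{±1}` in `G(T)` for `f : X ⟶ G`; API
  `comp_word`, `word_append`, `word_inv`, `word_comp_hom`.
* `exists_mul_preimage` : a point `w` of `G ⊗ G` whose projections are hit by `a : T ⟶ G` and
  `b : T' ⟶ G` has `μ(w)` hit by `(fst ≫ a) * (snd ≫ b) : T ⊗ T' ⟶ G`.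
-/

set_option autoImplicit false
universe u v
open CategoryTheory MonoidalCategory CartesianMonoidalCategory MonObj AlgebraicGeometry

namespace Groth.Agent.Lib.Helper41.WordPoints

section General

variable {C : Type u} [Category.{v} C] [CartesianMonoidalCategory C]

theorem comp_list_prod {G : C} [MonObj G] {T T' : C} (g : T' ⟶ T) (l : List (T ⟶ G)) :
    g ≫ l.prod = (l.map (fun a => g ≫ a)).prod := by
  induction l with
  | nil => simp
  | cons a l ih => rw [List.prod_cons, MonObj.comp_mul, ih, List.map_cons, List.prod_cons]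

theorem list_prod_comp {Γ G : C} [MonObj Γ] [MonObj G] {T : C} (l : List (T ⟶ Γ)) (i : Γ ⟶ G)
    [IsMonHom i] : l.prod ≫ i = (l.map (fun a => a ≫ i)).prod := by
  induction l with
  | nil => simp
  | cons a l ih => rw [List.prod_cons, MonObj.mul_comp, ih, List.map_cons, List.prod_cons]

variable {G X : C} [GrpObj G]

/-- a signed point -/
noncomputable def sgn (f : X ⟶ G) {T : C} (xb : (T ⟶ X) × Bool) : T ⟶ G :=
  if xb.2 then xb.1 ≫ f else (xb.1 ≫ f)⁻¹

/-- the value of a signed word -/
noncomputable def word (f : X ⟶ G) {T : C} (l : List ((T ⟶ X) × Bool)) : T ⟶ G :=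
  (l.map (sgn f)).prod

theorem comp_sgn (f : X ⟶ G) {T T' : C} (g : T' ⟶ T) (xb : (T ⟶ X) × Bool) :
    g ≫ sgn f xb = sgn f (g ≫ xb.1, xb.2) := by
  unfold sgn
  by_cases h : xb.2
  · simp only [h, if_true, Category.assoc]
  · simp only [h, Bool.false_eq_true, if_false, GrpObj.comp_inv, Category.assoc]

theorem word_nil (f : X ⟶ G) {T : C} : word f ([] : List ((T ⟶ X) × Bool)) = 1 := rfl

theorem word_cons (f : X ⟶ G) {T : C} (xb : (T ⟶ X) × Bool) (l : List ((T ⟶ X) × Bool)) :
    word f (xb :: l) = sgn f xb * word f l := by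
  unfold word
  rw [List.map_cons, List.prod_cons]

theorem word_append (f : X ⟶ G) {T : C} (l l' : List ((T ⟶ X) × Bool)) :
    word f (l ++ l') = word f l * word f l' := by
  unfold word
  rw [List.map_append, List.prod_append]

theorem comp_word (f : X ⟶ G) {T T' : C} (g : T' ⟶ T) (l : List ((T ⟶ X) × Bool)) :
    g ≫ word f l = word f (l.map (fun xb => (g ≫ xb.1, xb.2))) := by
  unfold word
  rw [comp_list_prod, List.map_map, List.map_map]
  congr 1
  apply List.map_congr_left
  intro xb _
  exact comp_sgn f g xb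

theorem sgn_inv (f : X ⟶ G) {T : C} (xb : (T ⟶ X) × Bool) :
    (sgn f xb)⁻¹ = sgn f (xb.1, !xb.2) := by
  unfold sgn
  by_cases h : xb.2
  · simp [h]
  · simp [h]

theorem word_inv (f : X ⟶ G) {T : C} (l : List ((T ⟶ X) × Bool)) :
    (word f l)⁻¹ = word f (l.reverse.map (fun xb => (xb.1, !xb.2))) := by
  induction l with
  | nil => simp [word]
  | cons xb l ih =>
    rw [word_cons, mul_inv_rev, ih, List.reverse_cons, List.map_append, word_append, sgn_inv]
    simp [word]

theorem word_comp_hom {Γ : C} [GrpObj Γ] (i : Γ ⟶ G) [IsMonHom i] (f' : X ⟶ Γ) {T : C}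
    (l : List ((T ⟶ X) × Bool)) : word f' l ≫ i = word (f' ≫ i) l := by
  unfold word
  rw [list_prod_comp, List.map_map]
  congr 1
  apply List.map_congr_left
  intro xb _
  change sgn f' xb ≫ i = sgn (f' ≫ i) xb
  unfold sgn
  by_cases h : xb.2
  · simp only [h, if_true, Category.assoc]
  · simp only [h, Bool.false_eq_true, if_false, GrpObj.inv_comp, Category.assoc]

end General

section Scheme

variable {S : Scheme.{u}} {G : Over S} [GrpObj G]

/-- A point `w` of `G ⊗ G` whose projections are hit by `a` and `b` has `μ(w)` hit by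
`(fst ≫ a) * (snd ≫ b)`. -/
theorem exists_mul_preimage {T T' : Over S} (a : T ⟶ G) (b : T' ⟶ G) (w : (G ⊗ G).left)
    (t : T.left) (t' : T'.left) (h1 : a.left.base t = (fst G G).left.base w)
    (h2 : b.left.base t' = (snd G G).left.base w) :
    ∃ w' : (T ⊗ T').left,
      ((fst T T' ≫ a) * (snd T T' ≫ b)).left.base w' = μ[G].left.base w := by
  obtain ⟨w', hw'⟩ := Groth.Agent.Lib.Helper41.ClosureSubgroup2.exists_preimage_tensorHom a b w t t'
    h1 h2
  refine ⟨w', ?_⟩
  rw [Hom.mul_def, lift_fst_comp_snd_comp, Over.comp_left, ← hw']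
  rfl

end Scheme

end Groth.Agent.Lib.Helper41.WordPoints
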